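import Mathlib

/-!
# O73: generic lemmas for the lower bound of a matrix group by a chain of orbits

Objects are 7x7 matrices over `ZMod 3` with the congruence action `S ↦ g S gᵀ` of `GL₇(3)`.
-/

set_option autoImplicit false

namespace Cfsg.Agent.Lead.O73

abbrev Mat := Matrix (Fin 7) (Fin 7) (ZMod 3)
abbrev GL7 := (Matrix (Fin 7) (Fin 7) (ZMod 3))ˣ

/-- an object: a 7x7 matrix, acted on by congruence -/
structure Obj where
  m : Mat
deriving DecidableEq

instance : MulAction GL7 Obj where
  smul g S := ⟨(g : Mat) * S.m * (g : Mat).transpose⟩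
  one_smul S := by
    cases S
    change Obj.mk _ = _
    simp
  mul_smul g h S := by
    cases S with
    | mk m =>
      show Obj.mk (((g * h : GL7) : Mat) * m * ((g * h : GL7) : Mat).transpose) =
        Obj.mk ((g : Mat) * ((h : Mat) * m * (h : Mat).transpose) * (g : Mat).transpose)
      simp only [Units.val_mul, Matrix.transpose_mul, mul_assoc]

theorem smul_mk (g : GL7) (S : Mat) :
    g • (Obj.mk S) = Obj.mk ((g : Mat) * S * (g : Mat).transpose) := rfl

/-- a numeric key of an object (only used to prove that objects are different) -/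
def key (S : Obj) : ℕ :=
  (List.finRange 7).foldl
    (fun acc i => (List.finRange 7).foldl (fun acc j => 3 * acc + (S.m i j).val) acc) 0

/-- `y` is in the orbit of `x` under the subgroup generated by `S` -/
def Reach {G X : Type*} [Group G] [MulAction G X] (S : Set G) (x y : X) : Prop :=
  ∃ h ∈ Subgroup.closure S, h • x = y

theorem Reach.refl {G X : Type*} [Group G] [MulAction G X] (S : Set G) (x : X) : Reach S x x :=
  ⟨1, one_mem _, one_smul _ _⟩

theorem Reach.step {G X : Type*} [Group G] [MulAction G X] {S : Set G} {x y z : X} {s : G}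
    (hs : s ∈ S) (hy : Reach S x y) (hz : s • y = z) : Reach S x z := by
  obtain ⟨h, hh, rfl⟩ := hy
  exact ⟨s * h, mul_mem (Subgroup.subset_closure hs) hh, by rw [mul_smul, hz]⟩

theorem closure_fix {G X : Type*} [Group G] [MulAction G X] (S : Set G) (x : X)
    (h : ∀ s ∈ S, s • x = x) : ∀ k ∈ Subgroup.closure S, k • x = x := by
  have hle : Subgroup.closure S ≤ MulAction.stabilizer G x := by
    rw [Subgroup.closure_le]
    intro s hs
    exact MulAction.mem_stabilizer_iff.2 (h s hs)
  intro k hk
  exact MulAction.mem_stabilizer_iff.1 (hle hk)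

/-- orbit-stabiliser lower bound -/
theorem card_ge_mul {G X : Type*} [Group G] [Finite G] [MulAction G X] [DecidableEq X]
    (H K : Subgroup G) (x : X) (hKH : K ≤ H) (hKx : ∀ k ∈ K, k • x = x)
    (L : List X) (hL : L.Nodup) (hO : ∀ y ∈ L, ∃ h ∈ H, h • x = y) :
    L.length * Nat.card K ≤ Nat.card H := by
  classical
  -- the orbit of `x` under `H`
  have horb : L.length ≤ Nat.card (MulAction.orbit H x) := by
    have hsub : (↑L.toFinset : Set X) ⊆ MulAction.orbit H x := by
      intro y hy
      have hy' : y ∈ L := by simpa using hy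
      obtain ⟨h, hh, rfl⟩ := hO y hy'
      exact ⟨⟨h, hh⟩, rfl⟩
    have hfin : (MulAction.orbit H x).Finite := Set.finite_range _
    have h1 := Set.ncard_le_ncard hsub hfin
    rw [Set.ncard_coe_finset, List.toFinset_card_of_nodup hL] at h1
    rwa [Nat.card_coe_set_eq]
  have hstab : Nat.card K ≤ Nat.card (MulAction.stabilizer H x) := by
    have hle : K.subgroupOf H ≤ MulAction.stabilizer H x := by
      intro k hk
      rw [MulAction.mem_stabilizer_iff]
      exact hKx (k : G) (Subgroup.mem_subgroupOf.1 hk)
    have h2 := Subgroup.card_le_of_le hle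
    have h3 : Nat.card (K.subgroupOf H) = Nat.card K :=
      Nat.card_congr (Subgroup.subgroupOfEquivOfLe hKH).toEquiv
    rwa [h3] at h2
  have hos : Nat.card (MulAction.orbit H x) * Nat.card (MulAction.stabilizer H x) = Nat.card H := by
    have e := MulAction.orbitEquivQuotientStabilizer H x
    rw [Nat.card_congr e]
    exact (Subgroup.card_eq_card_quotient_mul_card_subgroup (MulAction.stabilizer H x)).symm
  calc L.length * Nat.card K ≤ Nat.card (MulAction.orbit H x) * Nat.card (MulAction.stabilizer H x) :=
        Nat.mul_le_mul horb hstab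
    _ = Nat.card H := hos

end Cfsg.Agent.Lead.O73
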