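import Cfsg.Prelude.Def_Spor_Fi22
import Cfsg.Agent.Lib.Lead.O73.Basic

/-!
# O73: the eight generator matrices (negated reflections in `O₇(3)`), and the extra element `gB`
-/

set_option autoImplicit false
set_option maxRecDepth 100000

namespace Cfsg.Agent.Lead.O73

open Cfsg.Spor.Fi22 (Gen)

def Mb : Mat := !![2, 0, 0, 0, 0, 0, 0; 0, 1, 2, 0, 2, 2, 0; 0, 2, 1, 0, 2, 2, 0; 0, 0, 0, 2, 0, 0, 0; 0, 2, 2, 0, 1, 2, 0; 0, 2, 2, 0, 2, 1, 0; 0, 0, 0, 0, 0, 0, 2]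
def Mc : Mat := !![2, 0, 0, 0, 0, 0, 0; 0, 2, 0, 0, 0, 0, 0; 0, 0, 2, 0, 0, 0, 0; 0, 0, 2, 0, 0, 0, 2; 0, 0, 0, 0, 2, 0, 0; 0, 0, 2, 1, 0, 2, 2; 0, 0, 1, 2, 0, 0, 0]
def Md : Mat := !![2, 0, 0, 0, 0, 0, 0; 0, 2, 0, 0, 0, 0, 0; 0, 0, 2, 0, 0, 0, 0; 0, 0, 0, 0, 0, 0, 2; 0, 0, 0, 0, 2, 0, 0; 0, 0, 0, 0, 0, 2, 0; 0, 0, 0, 2, 0, 0, 0]
def Me : Mat := !![2, 0, 0, 0, 0, 0, 0; 0, 2, 0, 0, 0, 0, 0; 0, 0, 0, 1, 0, 2, 0; 0, 0, 0, 2, 0, 0, 0; 0, 0, 0, 0, 2, 0, 0; 0, 0, 2, 2, 0, 0, 0; 0, 0, 2, 2, 0, 1, 2]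
def Mf : Mat := !![0, 2, 1, 2, 0, 0, 2; 0, 2, 0, 0, 0, 0, 0; 0, 0, 2, 0, 0, 0, 0; 1, 2, 1, 1, 0, 0, 2; 1, 2, 1, 2, 2, 0, 2; 2, 1, 2, 1, 0, 2, 1; 1, 2, 1, 2, 0, 0, 1]
def Mg : Mat := !![2, 0, 0, 0, 0, 0, 0; 0, 0, 0, 0, 2, 0, 0; 0, 0, 2, 0, 0, 0, 0; 0, 0, 0, 2, 0, 0, 0; 0, 2, 0, 0, 0, 0, 0; 0, 0, 0, 0, 0, 2, 0; 0, 0, 0, 0, 0, 0, 2]
def Mh : Mat := !![2, 0, 0, 0, 0, 0, 0; 0, 2, 0, 0, 0, 0, 0; 0, 0, 0, 0, 0, 2, 2; 0, 0, 1, 2, 0, 2, 2; 0, 0, 0, 0, 2, 0, 0; 0, 0, 2, 0, 0, 0, 1; 0, 0, 0, 0, 0, 0, 2]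
def Mi : Mat := !![2, 0, 0, 0, 0, 0, 0; 0, 1, 2, 2, 2, 0, 2; 0, 0, 2, 0, 0, 0, 0; 0, 2, 2, 1, 2, 0, 2; 0, 2, 2, 2, 1, 0, 2; 0, 2, 2, 2, 2, 2, 2; 0, 2, 2, 2, 2, 0, 1]
def MB : Mat := !![0, 2, 1, 0, 0, 1, 0; 0, 2, 0, 0, 0, 0, 0; 2, 1, 1, 0, 0, 2, 0; 0, 0, 0, 2, 0, 0, 0; 1, 2, 1, 0, 2, 1, 0; 2, 1, 2, 0, 0, 1, 0; 0, 0, 0, 0, 0, 0, 2]

/-- the matrix of a generator (`a` goes to `1`) -/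
def M : Gen → Mat
  | .a => 1
  | .b => Mb
  | .c => Mc
  | .d => Md
  | .e => Me
  | .f => Mf
  | .g => Mg
  | .h => Mh
  | .i => Mi

theorem M_sq (x : Gen) : M x * M x = 1 := by
  cases x <;> decide +kernel

/-- the generators as units -/
def gen (x : Gen) : GL7 := ⟨M x, M x, M_sq x, M_sq x⟩

theorem gen_val (x : Gen) : ((gen x : GL7) : Mat) = M x := rfl

theorem gen_inv (x : Gen) : (gen x)⁻¹ = gen x := rfl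

theorem gen_smul (x : Gen) (S T : Mat) (h : M x * S * (M x).transpose = T) :
    gen x • Obj.mk S = Obj.mk T := by
  rw [smul_mk, gen_val, h]

/-- the word for the extra element -/
def wordB : List Gen := [.b, .c, .d, .h, .i, .e, .d, .h, .f, .e, .d, .b, .c, .b, .c, .b, .d, .e, .f, .h, .d, .e, .i, .h, .d, .c, .b]

/-- the extra element `B`, a word in `b, c, d, e, f, h, i` -/
def gB : GL7 := (wordB.map gen).prod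

def PB26 : Mat := !![2, 0, 0, 0, 0, 0, 0; 0, 1, 2, 0, 2, 2, 0; 0, 2, 1, 0, 2, 2, 0; 0, 0, 0, 2, 0, 0, 0; 0, 2, 2, 0, 1, 2, 0; 0, 2, 2, 0, 2, 1, 0; 0, 0, 0, 0, 0, 0, 2]
def PB25 : Mat := !![1, 0, 0, 0, 0, 0, 0; 0, 2, 1, 0, 1, 1, 0; 0, 1, 2, 0, 1, 1, 0; 0, 1, 2, 0, 1, 1, 1; 0, 1, 1, 0, 2, 1, 0; 0, 2, 0, 2, 2, 0, 1; 0, 2, 1, 1, 2, 2, 0]
def PB24 : Mat := !![2, 0, 0, 0, 0, 0, 0; 0, 1, 2, 0, 2, 2, 0; 0, 2, 1, 0, 2, 2, 0; 0, 1, 2, 2, 1, 1, 0; 0, 2, 2, 0, 1, 2, 0; 0, 1, 0, 1, 1, 0, 2; 0, 2, 1, 0, 2, 2, 2]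
def PB23 : Mat := !![1, 0, 0, 0, 0, 0, 0; 0, 2, 1, 0, 1, 1, 0; 0, 0, 2, 2, 0, 1, 2; 0, 1, 1, 0, 1, 2, 2; 0, 1, 1, 0, 2, 1, 0; 0, 0, 0, 0, 0, 0, 2; 0, 1, 2, 0, 1, 1, 1]
def PB22 : Mat := !![2, 0, 0, 0, 0, 0, 0; 0, 2, 1, 1, 0, 2, 1; 0, 0, 1, 1, 0, 2, 1; 0, 0, 1, 1, 0, 1, 2; 0, 0, 1, 1, 2, 2, 1; 0, 1, 2, 1, 1, 0, 2; 0, 0, 0, 1, 0, 2, 0]
def PB21 : Mat := !![1, 0, 0, 0, 0, 0, 0; 0, 1, 2, 2, 0, 1, 2; 0, 2, 2, 0, 2, 1, 0; 0, 0, 2, 2, 0, 2, 1; 0, 0, 2, 2, 1, 1, 2; 0, 0, 1, 1, 0, 0, 0; 0, 1, 0, 1, 1, 1, 2]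
def PB20 : Mat := !![2, 0, 0, 0, 0, 0, 0; 0, 2, 1, 1, 0, 2, 1; 0, 1, 1, 0, 1, 2, 0; 0, 2, 0, 2, 2, 2, 1; 0, 0, 1, 1, 2, 2, 1; 0, 0, 2, 2, 0, 0, 0; 0, 0, 1, 1, 0, 1, 2]
def PB19 : Mat := !![1, 0, 0, 0, 0, 0, 0; 0, 1, 2, 2, 0, 1, 2; 0, 0, 0, 0, 0, 2, 1; 0, 2, 1, 1, 2, 2, 0; 0, 0, 2, 2, 1, 1, 2; 0, 2, 0, 1, 2, 2, 2; 0, 0, 2, 2, 0, 2, 1]
def PB18 : Mat := !![0, 0, 1, 1, 1, 0, 1; 0, 2, 1, 1, 0, 2, 1; 0, 0, 0, 0, 0, 1, 2; 1, 1, 0, 0, 2, 1, 1; 1, 0, 2, 2, 0, 2, 2; 2, 1, 2, 1, 0, 1, 0; 1, 0, 2, 2, 1, 1, 0]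
def PB17 : Mat := !![0, 0, 2, 2, 2, 0, 2; 0, 1, 2, 2, 0, 1, 2; 2, 0, 1, 2, 2, 0, 1; 2, 2, 0, 0, 1, 2, 2; 2, 0, 1, 1, 0, 1, 1; 2, 2, 0, 0, 1, 1, 0; 0, 0, 0, 2, 0, 1, 0]
def PB16 : Mat := !![0, 0, 1, 1, 1, 0, 1; 0, 2, 1, 1, 0, 2, 1; 1, 0, 2, 1, 1, 0, 2; 0, 0, 0, 1, 0, 2, 0; 1, 0, 2, 2, 0, 2, 2; 1, 1, 0, 0, 2, 2, 0; 1, 1, 0, 0, 2, 1, 1]
def PB15 : Mat := !![0, 0, 2, 2, 2, 0, 2; 0, 1, 0, 1, 0, 1, 0; 2, 0, 2, 1, 2, 0, 2; 0, 0, 0, 2, 0, 1, 0; 2, 0, 2, 0, 0, 1, 2; 2, 2, 1, 2, 1, 1, 1; 2, 2, 0, 0, 1, 2, 2]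
def PB14 : Mat := !![0, 0, 1, 1, 1, 0, 1; 0, 2, 0, 2, 0, 2, 0; 1, 0, 1, 2, 1, 0, 1; 2, 1, 1, 2, 0, 1, 2; 1, 0, 1, 0, 0, 2, 1; 0, 2, 0, 2, 2, 1, 1; 2, 0, 2, 2, 2, 2, 2]
def PB13 : Mat := !![0, 0, 2, 2, 2, 0, 2; 1, 0, 1, 1, 0, 2, 0; 0, 2, 0, 1, 2, 1, 2; 1, 2, 2, 1, 0, 2, 1; 0, 2, 0, 0, 0, 2, 2; 1, 0, 1, 1, 1, 0, 2; 1, 0, 1, 1, 1, 1, 1]
def PB12 : Mat := !![0, 0, 1, 1, 1, 0, 1; 2, 0, 2, 2, 0, 1, 0; 0, 1, 0, 2, 1, 2, 1; 2, 1, 2, 1, 0, 1, 0; 0, 1, 0, 0, 0, 1, 1; 2, 0, 0, 1, 2, 0, 2; 2, 0, 1, 0, 2, 2, 1]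
def PB11 : Mat := !![0, 0, 2, 2, 2, 0, 2; 0, 1, 2, 2, 0, 1, 2; 2, 0, 1, 2, 2, 0, 1; 1, 2, 1, 2, 0, 2, 0; 2, 0, 1, 1, 0, 1, 1; 0, 1, 1, 0, 1, 2, 0; 1, 0, 2, 0, 1, 1, 2]
def PB10 : Mat := !![0, 0, 1, 1, 1, 0, 1; 0, 2, 1, 1, 0, 2, 1; 1, 0, 2, 1, 1, 0, 2; 2, 0, 1, 0, 2, 2, 1; 1, 0, 2, 2, 0, 2, 2; 0, 2, 2, 0, 2, 1, 0; 2, 1, 2, 1, 0, 1, 0]
def PB9 : Mat := !![0, 0, 2, 2, 2, 0, 2; 0, 1, 2, 2, 0, 1, 2; 2, 1, 2, 0, 0, 1, 1; 1, 0, 2, 0, 1, 1, 2; 2, 0, 1, 1, 0, 1, 1; 0, 0, 0, 2, 0, 1, 0; 1, 1, 0, 1, 2, 1, 0]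
def PB8 : Mat := !![0, 2, 1, 0, 0, 1, 0; 0, 2, 1, 1, 0, 2, 1; 1, 2, 1, 0, 0, 2, 2; 2, 2, 1, 2, 1, 0, 0; 1, 2, 2, 1, 2, 0, 1; 0, 1, 0, 2, 1, 1, 1; 2, 1, 0, 1, 0, 0, 2]
def PB7 : Mat := !![0, 1, 2, 0, 0, 2, 0; 0, 1, 2, 2, 0, 1, 2; 1, 1, 0, 0, 2, 2, 0; 0, 1, 0, 1, 1, 1, 2; 2, 1, 1, 2, 1, 0, 2; 1, 2, 2, 1, 0, 1, 0; 1, 2, 0, 2, 0, 0, 1]
def PB6 : Mat := !![0, 2, 1, 0, 0, 1, 0; 0, 2, 1, 1, 0, 2, 1; 2, 2, 0, 0, 1, 1, 0; 2, 1, 0, 1, 0, 0, 2; 1, 2, 2, 1, 2, 0, 1; 2, 1, 1, 2, 0, 2, 0; 0, 2, 0, 2, 2, 2, 1]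
def PB5 : Mat := !![0, 1, 2, 0, 0, 2, 0; 0, 1, 2, 2, 0, 1, 2; 0, 0, 2, 2, 0, 1, 2; 1, 2, 0, 2, 0, 0, 1; 2, 1, 1, 2, 1, 0, 2; 2, 0, 0, 2, 2, 2, 1; 1, 2, 1, 2, 0, 2, 0]
def PB4 : Mat := !![0, 2, 1, 0, 0, 1, 0; 2, 2, 1, 0, 2, 1, 0; 0, 0, 1, 1, 0, 2, 1; 1, 1, 0, 0, 2, 2, 1; 0, 2, 2, 0, 1, 2, 0; 0, 0, 0, 0, 0, 0, 1; 1, 1, 2, 0, 2, 0, 2]
def PB3 : Mat := !![0, 1, 2, 0, 0, 2, 0; 1, 1, 2, 0, 1, 2, 0; 2, 2, 1, 0, 1, 0, 0; 1, 1, 2, 1, 2, 0, 0; 0, 1, 1, 0, 2, 1, 0; 1, 1, 1, 2, 2, 1, 1; 2, 2, 1, 0, 1, 0, 1]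
def PB2 : Mat := !![0, 2, 1, 0, 0, 1, 0; 2, 2, 1, 0, 2, 1, 0; 1, 1, 2, 0, 2, 0, 0; 1, 1, 2, 0, 2, 0, 2; 0, 2, 2, 0, 1, 2, 0; 2, 2, 2, 1, 1, 2, 2; 2, 2, 1, 2, 1, 0, 0]
def PB1 : Mat := !![0, 1, 2, 0, 0, 2, 0; 1, 1, 2, 0, 1, 2, 0; 2, 2, 1, 0, 1, 0, 0; 0, 0, 0, 1, 0, 0, 0; 0, 1, 1, 0, 2, 1, 0; 2, 2, 0, 0, 1, 1, 0; 0, 0, 0, 0, 0, 0, 1]
def PB0 : Mat := !![0, 2, 1, 0, 0, 1, 0; 0, 2, 0, 0, 0, 0, 0; 2, 1, 1, 0, 0, 2, 0; 0, 0, 0, 2, 0, 0, 0; 1, 2, 1, 0, 2, 1, 0; 2, 1, 2, 0, 0, 1, 0; 0, 0, 0, 0, 0, 0, 2]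
theorem pB26 : M .b * 1 = PB26 := by decide +kernel
theorem pB25 : M .c * PB26 = PB25 := by decide +kernel
theorem pB24 : M .d * PB25 = PB24 := by decide +kernel
theorem pB23 : M .h * PB24 = PB23 := by decide +kernel
theorem pB22 : M .i * PB23 = PB22 := by decide +kernel
theorem pB21 : M .e * PB22 = PB21 := by decide +kernel
theorem pB20 : M .d * PB21 = PB20 := by decide +kernel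
theorem pB19 : M .h * PB20 = PB19 := by decide +kernel
theorem pB18 : M .f * PB19 = PB18 := by decide +kernel
theorem pB17 : M .e * PB18 = PB17 := by decide +kernel
theorem pB16 : M .d * PB17 = PB16 := by decide +kernel
theorem pB15 : M .b * PB16 = PB15 := by decide +kernel
theorem pB14 : M .c * PB15 = PB14 := by decide +kernel
theorem pB13 : M .b * PB14 = PB13 := by decide +kernel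
theorem pB12 : M .c * PB13 = PB12 := by decide +kernel
theorem pB11 : M .b * PB12 = PB11 := by decide +kernel
theorem pB10 : M .d * PB11 = PB10 := by decide +kernel
theorem pB9 : M .e * PB10 = PB9 := by decide +kernel
theorem pB8 : M .f * PB9 = PB8 := by decide +kernel
theorem pB7 : M .h * PB8 = PB7 := by decide +kernel
theorem pB6 : M .d * PB7 = PB6 := by decide +kernel
theorem pB5 : M .e * PB6 = PB5 := by decide +kernel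
theorem pB4 : M .i * PB5 = PB4 := by decide +kernel
theorem pB3 : M .h * PB4 = PB3 := by decide +kernel
theorem pB2 : M .d * PB3 = PB2 := by decide +kernel
theorem pB1 : M .c * PB2 = PB1 := by decide +kernel
theorem pB0 : M .b * PB1 = PB0 := by decide +kernel
theorem PB0_eq : PB0 = MB := by decide +kernel

theorem val_list_prod (l : List GL7) : ((l.prod : GL7) : Mat) = (l.map (fun g : GL7 => (g : Mat))).prod := by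
  induction l with
  | nil => rfl
  | cons a l ih => rw [List.prod_cons, Units.val_mul, ih, List.map_cons, List.prod_cons]

theorem gB_val : ((gB : GL7) : Mat) = MB := by
  rw [gB, val_list_prod, List.map_map]
  show (List.map M wordB).prod = MB
  simp only [wordB, List.map_cons, List.map_nil, List.prod_cons, List.prod_nil]
  rw [pB26, pB25, pB24, pB23, pB22, pB21, pB20, pB19, pB18, pB17, pB16, pB15, pB14, pB13, pB12, pB11, pB10, pB9, pB8, pB7, pB6, pB5, pB4, pB3, pB2, pB1, pB0, PB0_eq]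

theorem gB_smul (S T : Mat) (h : MB * S * MB.transpose = T) :
    gB • Obj.mk S = Obj.mk T := by
  rw [smul_mk, gB_val, h]

/-- generator sets: the generators in the list `L`, and `gB` if `u` is true -/
def GS (L : List Gen) (u : Bool) : Set GL7 :=
  {g | (u = true ∧ g = gB) ∨ ∃ x ∈ L, g = gen x}

theorem gen_mem_GS {L : List Gen} {u : Bool} {x : Gen} (hx : x ∈ L) : gen x ∈ GS L u :=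
  Or.inr ⟨x, hx, rfl⟩

theorem gB_mem_GS {L : List Gen} : gB ∈ GS L true := Or.inl ⟨rfl, rfl⟩

theorem GS_fix {L : List Gen} {u : Bool} (S : Mat)
    (hL : ∀ x ∈ L, M x * S * (M x).transpose = S)
    (hB : u = true → MB * S * MB.transpose = S) :
    ∀ s ∈ GS L u, s • Obj.mk S = Obj.mk S := by
  rintro s (⟨hu, rfl⟩ | ⟨x, hx, rfl⟩)
  · exact gB_smul S S (hB hu)
  · exact gen_smul x S S (hL x hx)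

theorem closure_GS_le {L L' : List Gen} {u u' : Bool} (hL : ∀ x ∈ L, x ∈ L')
    (hu : u = true → gB ∈ Subgroup.closure (GS L' u')) :
    Subgroup.closure (GS L u) ≤ Subgroup.closure (GS L' u') := by
  rw [Subgroup.closure_le]
  rintro s (⟨hu', rfl⟩ | ⟨x, hx, rfl⟩)
  · exact hu hu'
  · exact Subgroup.subset_closure (gen_mem_GS (hL x hx))

theorem gB_mem_closure {L : List Gen} {u : Bool} (hL : ∀ x ∈ wordB, x ∈ L) :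
    gB ∈ Subgroup.closure (GS L u) := by
  rw [gB]
  apply Subgroup.list_prod_mem
  intro g hg
  obtain ⟨x, hx, rfl⟩ := List.mem_map.1 hg
  exact Subgroup.subset_closure (gen_mem_GS (hL x hx))

theorem forall_mem_nil' {α : Type*} (p : α → Prop) : ∀ y ∈ ([] : List α), p y :=
  fun _ h => absurd h (List.not_mem_nil)

end Cfsg.Agent.Lead.O73
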