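import Cfsg.Agent.Lib.Lead.O73.Rels
import Cfsg.Agent.Lib.Helper84.O7Defs

/-!
# O73: the matrices are isometries of `x₀² + x₁y₁ + x₂y₂ + x₃y₃`; the homomorphism into the isometry group
-/

set_option autoImplicit false
set_option maxRecDepth 100000

namespace Cfsg.Agent.Lead.O73

open Cfsg.Spor.Fi22 (Gen)
open Cfsg.Agent.Helper84.O7 (ι Q A1G)
open Matrix

/-- the reindexing `Fin 7 ≃ Unit ⊕ (Fin 3 ⊕ Fin 3)` -/
def e7 : Fin 7 ≃ ι where
  toFun i := match i with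
    | 0 => .inl ()
    | 1 => .inr (.inl 0)
    | 2 => .inr (.inl 1)
    | 3 => .inr (.inl 2)
    | 4 => .inr (.inr 0)
    | 5 => .inr (.inr 1)
    | 6 => .inr (.inr 2)
  invFun j := match j with
    | .inl _ => 0
    | .inr (.inl i) => ⟨1 + i.val, by omega⟩
    | .inr (.inr i) => ⟨4 + i.val, by omega⟩
  left_inv := by decide
  right_inv := by decide

/-- the symmetric Gram matrix of the form (`2 = 1/2` in `ZMod 3`) -/
def S7 : Mat := !![1, 0, 0, 0, 0, 0, 0; 0, 0, 0, 0, 2, 0, 0; 0, 0, 0, 0, 0, 2, 0; 0, 0, 0, 0, 0, 0, 2;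
  0, 2, 0, 0, 0, 0, 0; 0, 0, 2, 0, 0, 0, 0; 0, 0, 0, 2, 0, 0, 0]

theorem qform (v : ι → ZMod 3) : Q v = (v ∘ e7) ⬝ᵥ (S7 *ᵥ (v ∘ e7)) := by
  have h3 : (3 : ZMod 3) = 0 := by decide
  simp only [Cfsg.quadFormOdd, dotProduct, Matrix.mulVec, Fin.sum_univ_succ, Fin.sum_univ_zero,
    Function.comp, S7]
  simp [e7]
  linear_combination (-(v (Sum.inr (Sum.inl 0)) * v (Sum.inr (Sum.inr 0)) +
    v (Sum.inr (Sum.inl 1)) * v (Sum.inr (Sum.inr 1)) +
    v (Sum.inr (Sum.inl 2)) * v (Sum.inr (Sum.inr 2)))) * h3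

theorem MtSM (x : Gen) : (M x).transpose * S7 * M x = S7 := by
  cases x <;> decide +kernel

theorem form_inv (A : Mat) (h : A.transpose * S7 * A = S7) (w : Fin 7 → ZMod 3) :
    (A *ᵥ w) ⬝ᵥ (S7 *ᵥ (A *ᵥ w)) = w ⬝ᵥ (S7 *ᵥ w) := by
  calc (A *ᵥ w) ⬝ᵥ (S7 *ᵥ (A *ᵥ w)) = (w ᵥ* A.transpose) ⬝ᵥ (S7 *ᵥ (A *ᵥ w)) := by
        rw [Matrix.vecMul_transpose]
    _ = w ⬝ᵥ (A.transpose *ᵥ (S7 *ᵥ (A *ᵥ w))) := (Matrix.dotProduct_mulVec _ _ _).symm
    _ = w ⬝ᵥ ((A.transpose * S7 * A) *ᵥ w) := by rw [Matrix.mulVec_mulVec, Matrix.mulVec_mulVec]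
    _ = w ⬝ᵥ (S7 *ᵥ w) := by rw [h]

/-- reindexing of the general linear group -/
noncomputable def rho : GL7 ≃* Matrix.GeneralLinearGroup ι (ZMod 3) :=
  Units.mapEquiv (Matrix.reindexAlgEquiv (ZMod 3) (ZMod 3) e7).toMulEquiv

theorem rho_val (g : GL7) :
    ((rho g : Matrix.GeneralLinearGroup ι (ZMod 3)) : Matrix ι ι (ZMod 3)) =
      (g : Mat).submatrix e7.symm e7.symm := rfl

theorem mulVec_comp (A : Mat) (u : ι → ZMod 3) :
    ((A.submatrix e7.symm e7.symm) *ᵥ u) ∘ e7 = A *ᵥ (u ∘ e7) := by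
  rw [Matrix.submatrix_mulVec_equiv]
  funext i
  simp [Function.comp]

theorem rho_gen_mem (x : Gen) : rho (gen x) ∈ Cfsg.isometryGroup (ZMod 3) Q := by
  intro u _
  show Q (((rho (gen x) : Matrix.GeneralLinearGroup ι (ZMod 3)) : Matrix ι ι (ZMod 3)) *ᵥ u) = Q u
  rw [rho_val, gen_val, qform, qform, mulVec_comp, form_inv _ (MtSM x)]

theorem rho_psi_mem (a : A1G) : rho (psi a) ∈ Cfsg.isometryGroup (ZMod 3) Q := by
  have hle : psi.range ≤ (Cfsg.isometryGroup (ZMod 3) Q).comap rho.toMonoidHom := by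
    rw [MonoidHom.range_eq_map, ← PresentedGroup.closure_range_of, MonoidHom.map_closure,
      Subgroup.closure_le]
    rintro _ ⟨_, ⟨x, rfl⟩, rfl⟩
    show rho (psi (PresentedGroup.of x)) ∈ Cfsg.isometryGroup (ZMod 3) Q
    rw [psi_of]
    exact rho_gen_mem x
  exact hle ⟨a, rfl⟩

/-- the homomorphism into the isometry group -/
noncomputable def psiO : A1G →* ↥(Cfsg.isometryGroup (ZMod 3) Q) :=
  (rho.toMonoidHom.comp psi).codRestrict _ rho_psi_mem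

theorem card_range_psiO : Nat.card psiO.range = Nat.card psi.range := by
  have h1 : psiO.range.map (Subgroup.subtype _) = psi.range.map rho.toMonoidHom := by
    rw [MonoidHom.map_range, MonoidHom.map_range]
    rfl
  have h2 := Subgroup.card_map_of_injective (K := psiO.range)
    (f := Subgroup.subtype (Cfsg.isometryGroup (ZMod 3) Q))
    (Subgroup.subtype_injective (Cfsg.isometryGroup (ZMod 3) Q))
  have h3 := Subgroup.card_map_of_injective (K := psi.range) (f := rho.toMonoidHom) rho.injective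
  rw [← h2, h1, h3]

end Cfsg.Agent.Lead.O73
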