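import Cfsg.Agent.Lib.Lead.O73.Obj0

/-! # O73: orbit steps of level 0, part 1 -/

set_option autoImplicit false
set_option maxRecDepth 100000

namespace Cfsg.Agent.Lead.O73

open Cfsg.Spor.Fi22 (Gen)

theorem n0_91 : M .d * o0_75 * (M .d).transpose = o0_91 := by decide +kernel
theorem n0_92 : M .c * o0_76 * (M .c).transpose = o0_92 := by decide +kernel
theorem n0_93 : M .e * o0_76 * (M .e).transpose = o0_93 := by decide +kernel
theorem n0_94 : M .d * o0_77 * (M .d).transpose = o0_94 := by decide +kernel
theorem n0_95 : M .c * o0_78 * (M .c).transpose = o0_95 := by decide +kernel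
theorem n0_96 : M .e * o0_78 * (M .e).transpose = o0_96 := by decide +kernel
theorem n0_97 : M .b * o0_79 * (M .b).transpose = o0_97 := by decide +kernel
theorem n0_98 : M .e * o0_79 * (M .e).transpose = o0_98 := by decide +kernel
theorem n0_99 : M .f * o0_80 * (M .f).transpose = o0_99 := by decide +kernel
theorem n0_100 : M .g * o0_81 * (M .g).transpose = o0_100 := by decide +kernel
theorem n0_101 : M .c * o0_82 * (M .c).transpose = o0_101 := by decide +kernel
theorem n0_102 : M .b * o0_83 * (M .b).transpose = o0_102 := by decide +kernel
theorem n0_103 : M .e * o0_83 * (M .e).transpose = o0_103 := by decide +kernel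
theorem n0_104 : M .d * o0_87 * (M .d).transpose = o0_104 := by decide +kernel
theorem n0_105 : M .d * o0_88 * (M .d).transpose = o0_105 := by decide +kernel
theorem n0_106 : M .d * o0_89 * (M .d).transpose = o0_106 := by decide +kernel
theorem n0_107 : M .c * o0_90 * (M .c).transpose = o0_107 := by decide +kernel
theorem n0_108 : M .e * o0_90 * (M .e).transpose = o0_108 := by decide +kernel
theorem n0_109 : M .c * o0_91 * (M .c).transpose = o0_109 := by decide +kernel
theorem n0_110 : M .e * o0_91 * (M .e).transpose = o0_110 := by decide +kernel
theorem n0_111 : M .b * o0_92 * (M .b).transpose = o0_111 := by decide +kernel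
theorem n0_112 : M .e * o0_92 * (M .e).transpose = o0_112 := by decide +kernel
theorem n0_113 : M .f * o0_93 * (M .f).transpose = o0_113 := by decide +kernel
theorem n0_114 : M .c * o0_94 * (M .c).transpose = o0_114 := by decide +kernel
theorem n0_115 : M .e * o0_94 * (M .e).transpose = o0_115 := by decide +kernel
theorem n0_116 : M .b * o0_95 * (M .b).transpose = o0_116 := by decide +kernel
theorem n0_117 : M .e * o0_95 * (M .e).transpose = o0_117 := by decide +kernel
theorem n0_118 : M .f * o0_96 * (M .f).transpose = o0_118 := by decide +kernel
theorem n0_119 : M .e * o0_97 * (M .e).transpose = o0_119 := by decide +kernel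
theorem n0_120 : M .f * o0_98 * (M .f).transpose = o0_120 := by decide +kernel
theorem n0_121 : M .g * o0_99 * (M .g).transpose = o0_121 := by decide +kernel
theorem n0_122 : M .d * o0_103 * (M .d).transpose = o0_122 := by decide +kernel
theorem n0_123 : M .c * o0_104 * (M .c).transpose = o0_123 := by decide +kernel
theorem n0_124 : M .e * o0_104 * (M .e).transpose = o0_124 := by decide +kernel
theorem n0_125 : M .c * o0_105 * (M .c).transpose = o0_125 := by decide +kernel
theorem n0_126 : M .e * o0_105 * (M .e).transpose = o0_126 := by decide +kernel
theorem n0_127 : M .c * o0_106 * (M .c).transpose = o0_127 := by decide +kernel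
theorem n0_128 : M .e * o0_106 * (M .e).transpose = o0_128 := by decide +kernel
theorem n0_129 : M .b * o0_107 * (M .b).transpose = o0_129 := by decide +kernel
theorem n0_130 : M .e * o0_107 * (M .e).transpose = o0_130 := by decide +kernel
theorem n0_131 : M .f * o0_108 * (M .f).transpose = o0_131 := by decide +kernel
theorem n0_132 : M .b * o0_109 * (M .b).transpose = o0_132 := by decide +kernel
theorem n0_133 : M .e * o0_109 * (M .e).transpose = o0_133 := by decide +kernel
theorem n0_134 : M .f * o0_110 * (M .f).transpose = o0_134 := by decide +kernel
theorem n0_135 : M .e * o0_111 * (M .e).transpose = o0_135 := by decide +kernel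
theorem n0_136 : M .d * o0_112 * (M .d).transpose = o0_136 := by decide +kernel
theorem n0_137 : M .f * o0_112 * (M .f).transpose = o0_137 := by decide +kernel
theorem n0_138 : M .g * o0_113 * (M .g).transpose = o0_138 := by decide +kernel
theorem n0_139 : M .e * o0_114 * (M .e).transpose = o0_139 := by decide +kernel
theorem n0_140 : M .f * o0_115 * (M .f).transpose = o0_140 := by decide +kernel
theorem n0_141 : M .e * o0_116 * (M .e).transpose = o0_141 := by decide +kernel
theorem n0_142 : M .d * o0_117 * (M .d).transpose = o0_142 := by decide +kernel
theorem n0_143 : M .f * o0_117 * (M .f).transpose = o0_143 := by decide +kernel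
theorem n0_144 : M .g * o0_118 * (M .g).transpose = o0_144 := by decide +kernel
theorem n0_145 : M .f * o0_119 * (M .f).transpose = o0_145 := by decide +kernel
theorem n0_146 : M .g * o0_120 * (M .g).transpose = o0_146 := by decide +kernel
theorem n0_147 : M .h * o0_122 * (M .h).transpose = o0_147 := by decide +kernel
theorem n0_148 : M .b * o0_123 * (M .b).transpose = o0_148 := by decide +kernel
theorem n0_149 : M .e * o0_123 * (M .e).transpose = o0_149 := by decide +kernel
theorem n0_150 : M .f * o0_124 * (M .f).transpose = o0_150 := by decide +kernel
theorem n0_151 : M .e * o0_125 * (M .e).transpose = o0_151 := by decide +kernel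
theorem n0_152 : M .f * o0_126 * (M .f).transpose = o0_152 := by decide +kernel
theorem n0_153 : M .b * o0_127 * (M .b).transpose = o0_153 := by decide +kernel
theorem n0_154 : M .e * o0_127 * (M .e).transpose = o0_154 := by decide +kernel
theorem n0_155 : M .f * o0_128 * (M .f).transpose = o0_155 := by decide +kernel
theorem n0_156 : M .e * o0_129 * (M .e).transpose = o0_156 := by decide +kernel
theorem n0_157 : M .d * o0_130 * (M .d).transpose = o0_157 := by decide +kernel
theorem n0_158 : M .f * o0_130 * (M .f).transpose = o0_158 := by decide +kernel
theorem n0_159 : M .g * o0_131 * (M .g).transpose = o0_159 := by decide +kernel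
theorem n0_160 : M .e * o0_132 * (M .e).transpose = o0_160 := by decide +kernel
theorem n0_161 : M .d * o0_133 * (M .d).transpose = o0_161 := by decide +kernel
theorem n0_162 : M .f * o0_133 * (M .f).transpose = o0_162 := by decide +kernel
theorem n0_163 : M .g * o0_134 * (M .g).transpose = o0_163 := by decide +kernel
theorem n0_164 : M .d * o0_135 * (M .d).transpose = o0_164 := by decide +kernel
theorem n0_165 : M .f * o0_135 * (M .f).transpose = o0_165 := by decide +kernel
theorem n0_166 : M .f * o0_136 * (M .f).transpose = o0_166 := by decide +kernel
theorem n0_167 : M .g * o0_137 * (M .g).transpose = o0_167 := by decide +kernel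
theorem n0_168 : M .f * o0_139 * (M .f).transpose = o0_168 := by decide +kernel
theorem n0_169 : M .g * o0_140 * (M .g).transpose = o0_169 := by decide +kernel
theorem n0_170 : M .f * o0_141 * (M .f).transpose = o0_170 := by decide +kernel
theorem n0_171 : M .f * o0_142 * (M .f).transpose = o0_171 := by decide +kernel
theorem n0_172 : M .h * o0_142 * (M .h).transpose = o0_172 := by decide +kernel
theorem n0_173 : M .g * o0_143 * (M .g).transpose = o0_173 := by decide +kernel
theorem n0_174 : M .g * o0_145 * (M .g).transpose = o0_174 := by decide +kernel
theorem n0_175 : M .e * o0_148 * (M .e).transpose = o0_175 := by decide +kernel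
theorem n0_176 : M .d * o0_149 * (M .d).transpose = o0_176 := by decide +kernel
theorem n0_177 : M .f * o0_149 * (M .f).transpose = o0_177 := by decide +kernel
theorem n0_178 : M .g * o0_150 * (M .g).transpose = o0_178 := by decide +kernel
theorem n0_179 : M .d * o0_151 * (M .d).transpose = o0_179 := by decide +kernel
theorem n0_180 : M .f * o0_151 * (M .f).transpose = o0_180 := by decide +kernel

end Cfsg.Agent.Lead.O73
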