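import Cfsg.Agent.Lib.Lead.O73.Obj0

/-! # O73: orbit steps of level 0, part 2 -/

set_option autoImplicit false
set_option maxRecDepth 100000

namespace Cfsg.Agent.Lead.O73

open Cfsg.Spor.Fi22 (Gen)

theorem n0_181 : M .g * o0_152 * (M .g).transpose = o0_181 := by decide +kernel
theorem n0_182 : M .e * o0_153 * (M .e).transpose = o0_182 := by decide +kernel
theorem n0_183 : M .d * o0_154 * (M .d).transpose = o0_183 := by decide +kernel
theorem n0_184 : M .f * o0_154 * (M .f).transpose = o0_184 := by decide +kernel
theorem n0_185 : M .g * o0_155 * (M .g).transpose = o0_185 := by decide +kernel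
theorem n0_186 : M .d * o0_156 * (M .d).transpose = o0_186 := by decide +kernel
theorem n0_187 : M .f * o0_156 * (M .f).transpose = o0_187 := by decide +kernel
theorem n0_188 : M .f * o0_157 * (M .f).transpose = o0_188 := by decide +kernel
theorem n0_189 : M .h * o0_157 * (M .h).transpose = o0_189 := by decide +kernel
theorem n0_190 : M .g * o0_158 * (M .g).transpose = o0_190 := by decide +kernel
theorem n0_191 : M .d * o0_160 * (M .d).transpose = o0_191 := by decide +kernel
theorem n0_192 : M .f * o0_160 * (M .f).transpose = o0_192 := by decide +kernel
theorem n0_193 : M .f * o0_161 * (M .f).transpose = o0_193 := by decide +kernel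
theorem n0_194 : M .h * o0_161 * (M .h).transpose = o0_194 := by decide +kernel
theorem n0_195 : M .g * o0_162 * (M .g).transpose = o0_195 := by decide +kernel
theorem n0_196 : M .c * o0_164 * (M .c).transpose = o0_196 := by decide +kernel
theorem n0_197 : M .f * o0_164 * (M .f).transpose = o0_197 := by decide +kernel
theorem n0_198 : M .g * o0_165 * (M .g).transpose = o0_198 := by decide +kernel
theorem n0_199 : M .e * o0_166 * (M .e).transpose = o0_199 := by decide +kernel
theorem n0_200 : M .g * o0_166 * (M .g).transpose = o0_200 := by decide +kernel
theorem n0_201 : M .g * o0_168 * (M .g).transpose = o0_201 := by decide +kernel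
theorem n0_202 : M .g * o0_170 * (M .g).transpose = o0_202 := by decide +kernel
theorem n0_203 : M .g * o0_171 * (M .g).transpose = o0_203 := by decide +kernel
theorem n0_204 : M .h * o0_171 * (M .h).transpose = o0_204 := by decide +kernel
theorem n0_205 : M .d * o0_175 * (M .d).transpose = o0_205 := by decide +kernel
theorem n0_206 : M .f * o0_175 * (M .f).transpose = o0_206 := by decide +kernel
theorem n0_207 : M .f * o0_176 * (M .f).transpose = o0_207 := by decide +kernel
theorem n0_208 : M .h * o0_176 * (M .h).transpose = o0_208 := by decide +kernel
theorem n0_209 : M .g * o0_177 * (M .g).transpose = o0_209 := by decide +kernel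
theorem n0_210 : M .f * o0_179 * (M .f).transpose = o0_210 := by decide +kernel
theorem n0_211 : M .g * o0_180 * (M .g).transpose = o0_211 := by decide +kernel
theorem n0_212 : M .d * o0_182 * (M .d).transpose = o0_212 := by decide +kernel
theorem n0_213 : M .f * o0_182 * (M .f).transpose = o0_213 := by decide +kernel
theorem n0_214 : M .f * o0_183 * (M .f).transpose = o0_214 := by decide +kernel
theorem n0_215 : M .h * o0_183 * (M .h).transpose = o0_215 := by decide +kernel
theorem n0_216 : M .g * o0_184 * (M .g).transpose = o0_216 := by decide +kernel
theorem n0_217 : M .f * o0_186 * (M .f).transpose = o0_217 := by decide +kernel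
theorem n0_218 : M .g * o0_187 * (M .g).transpose = o0_218 := by decide +kernel
theorem n0_219 : M .e * o0_188 * (M .e).transpose = o0_219 := by decide +kernel
theorem n0_220 : M .g * o0_188 * (M .g).transpose = o0_220 := by decide +kernel
theorem n0_221 : M .h * o0_188 * (M .h).transpose = o0_221 := by decide +kernel
theorem n0_222 : M .c * o0_191 * (M .c).transpose = o0_222 := by decide +kernel
theorem n0_223 : M .f * o0_191 * (M .f).transpose = o0_223 := by decide +kernel
theorem n0_224 : M .h * o0_191 * (M .h).transpose = o0_224 := by decide +kernel
theorem n0_225 : M .g * o0_192 * (M .g).transpose = o0_225 := by decide +kernel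
theorem n0_226 : M .e * o0_193 * (M .e).transpose = o0_226 := by decide +kernel
theorem n0_227 : M .g * o0_193 * (M .g).transpose = o0_227 := by decide +kernel
theorem n0_228 : M .h * o0_193 * (M .h).transpose = o0_228 := by decide +kernel
theorem n0_229 : M .f * o0_196 * (M .f).transpose = o0_229 := by decide +kernel
theorem n0_230 : M .e * o0_197 * (M .e).transpose = o0_230 := by decide +kernel
theorem n0_231 : M .g * o0_197 * (M .g).transpose = o0_231 := by decide +kernel
theorem n0_232 : M .g * o0_199 * (M .g).transpose = o0_232 := by decide +kernel
theorem n0_233 : M .h * o0_203 * (M .h).transpose = o0_233 := by decide +kernel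
theorem n0_234 : M .c * o0_205 * (M .c).transpose = o0_234 := by decide +kernel
theorem n0_235 : M .f * o0_205 * (M .f).transpose = o0_235 := by decide +kernel
theorem n0_236 : M .h * o0_205 * (M .h).transpose = o0_236 := by decide +kernel
theorem n0_237 : M .g * o0_206 * (M .g).transpose = o0_237 := by decide +kernel
theorem n0_238 : M .e * o0_207 * (M .e).transpose = o0_238 := by decide +kernel
theorem n0_239 : M .g * o0_207 * (M .g).transpose = o0_239 := by decide +kernel
theorem n0_240 : M .h * o0_207 * (M .h).transpose = o0_240 := by decide +kernel
theorem n0_241 : M .e * o0_210 * (M .e).transpose = o0_241 := by decide +kernel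
theorem n0_242 : M .g * o0_210 * (M .g).transpose = o0_242 := by decide +kernel
theorem n0_243 : M .f * o0_212 * (M .f).transpose = o0_243 := by decide +kernel
theorem n0_244 : M .g * o0_213 * (M .g).transpose = o0_244 := by decide +kernel
theorem n0_245 : M .e * o0_214 * (M .e).transpose = o0_245 := by decide +kernel
theorem n0_246 : M .g * o0_214 * (M .g).transpose = o0_246 := by decide +kernel
theorem n0_247 : M .h * o0_214 * (M .h).transpose = o0_247 := by decide +kernel
theorem n0_248 : M .e * o0_217 * (M .e).transpose = o0_248 := by decide +kernel
theorem n0_249 : M .g * o0_217 * (M .g).transpose = o0_249 := by decide +kernel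
theorem n0_250 : M .g * o0_219 * (M .g).transpose = o0_250 := by decide +kernel
theorem n0_251 : M .h * o0_219 * (M .h).transpose = o0_251 := by decide +kernel
theorem n0_252 : M .h * o0_220 * (M .h).transpose = o0_252 := by decide +kernel
theorem n0_253 : M .f * o0_222 * (M .f).transpose = o0_253 := by decide +kernel
theorem n0_254 : M .h * o0_222 * (M .h).transpose = o0_254 := by decide +kernel
theorem n0_255 : M .e * o0_223 * (M .e).transpose = o0_255 := by decide +kernel
theorem n0_256 : M .g * o0_223 * (M .g).transpose = o0_256 := by decide +kernel
theorem n0_257 : M .h * o0_223 * (M .h).transpose = o0_257 := by decide +kernel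
theorem n0_258 : M .g * o0_226 * (M .g).transpose = o0_258 := by decide +kernel
theorem n0_259 : M .h * o0_226 * (M .h).transpose = o0_259 := by decide +kernel
theorem n0_260 : M .h * o0_227 * (M .h).transpose = o0_260 := by decide +kernel
theorem n0_261 : M .e * o0_229 * (M .e).transpose = o0_261 := by decide +kernel
theorem n0_262 : M .g * o0_229 * (M .g).transpose = o0_262 := by decide +kernel
theorem n0_263 : M .g * o0_230 * (M .g).transpose = o0_263 := by decide +kernel
theorem n0_264 : M .f * o0_232 * (M .f).transpose = o0_264 := by decide +kernel
theorem n0_265 : M .f * o0_234 * (M .f).transpose = o0_265 := by decide +kernel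
theorem n0_266 : M .e * o0_235 * (M .e).transpose = o0_266 := by decide +kernel
theorem n0_267 : M .g * o0_235 * (M .g).transpose = o0_267 := by decide +kernel
theorem n0_268 : M .h * o0_235 * (M .h).transpose = o0_268 := by decide +kernel
theorem n0_269 : M .g * o0_238 * (M .g).transpose = o0_269 := by decide +kernel
theorem n0_270 : M .h * o0_238 * (M .h).transpose = o0_270 := by decide +kernel

end Cfsg.Agent.Lead.O73
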