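import Cfsg.Agent.Lib.Lead.O73.Obj0

/-! # O73: orbit steps of level 0, part 3 -/

set_option autoImplicit false
set_option maxRecDepth 100000

namespace Cfsg.Agent.Lead.O73

open Cfsg.Spor.Fi22 (Gen)

theorem n0_271 : M .h * o0_239 * (M .h).transpose = o0_271 := by decide +kernel
theorem n0_272 : M .g * o0_241 * (M .g).transpose = o0_272 := by decide +kernel
theorem n0_273 : M .e * o0_243 * (M .e).transpose = o0_273 := by decide +kernel
theorem n0_274 : M .g * o0_243 * (M .g).transpose = o0_274 := by decide +kernel
theorem n0_275 : M .g * o0_245 * (M .g).transpose = o0_275 := by decide +kernel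
theorem n0_276 : M .h * o0_245 * (M .h).transpose = o0_276 := by decide +kernel
theorem n0_277 : M .h * o0_246 * (M .h).transpose = o0_277 := by decide +kernel
theorem n0_278 : M .g * o0_248 * (M .g).transpose = o0_278 := by decide +kernel
theorem n0_279 : M .f * o0_250 * (M .f).transpose = o0_279 := by decide +kernel
theorem n0_280 : M .h * o0_250 * (M .h).transpose = o0_280 := by decide +kernel
theorem n0_281 : M .e * o0_253 * (M .e).transpose = o0_281 := by decide +kernel
theorem n0_282 : M .g * o0_253 * (M .g).transpose = o0_282 := by decide +kernel
theorem n0_283 : M .h * o0_253 * (M .h).transpose = o0_283 := by decide +kernel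
theorem n0_284 : M .d * o0_254 * (M .d).transpose = o0_284 := by decide +kernel
theorem n0_285 : M .g * o0_255 * (M .g).transpose = o0_285 := by decide +kernel
theorem n0_286 : M .h * o0_255 * (M .h).transpose = o0_286 := by decide +kernel
theorem n0_287 : M .h * o0_256 * (M .h).transpose = o0_287 := by decide +kernel
theorem n0_288 : M .f * o0_258 * (M .f).transpose = o0_288 := by decide +kernel
theorem n0_289 : M .h * o0_258 * (M .h).transpose = o0_289 := by decide +kernel
theorem n0_290 : M .d * o0_259 * (M .d).transpose = o0_290 := by decide +kernel
theorem n0_291 : M .d * o0_261 * (M .d).transpose = o0_291 := by decide +kernel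
theorem n0_292 : M .g * o0_261 * (M .g).transpose = o0_292 := by decide +kernel
theorem n0_293 : M .f * o0_263 * (M .f).transpose = o0_293 := by decide +kernel
theorem n0_294 : M .e * o0_265 * (M .e).transpose = o0_294 := by decide +kernel
theorem n0_295 : M .g * o0_265 * (M .g).transpose = o0_295 := by decide +kernel
theorem n0_296 : M .g * o0_266 * (M .g).transpose = o0_296 := by decide +kernel
theorem n0_297 : M .h * o0_266 * (M .h).transpose = o0_297 := by decide +kernel
theorem n0_298 : M .h * o0_267 * (M .h).transpose = o0_298 := by decide +kernel
theorem n0_299 : M .f * o0_269 * (M .f).transpose = o0_299 := by decide +kernel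
theorem n0_300 : M .h * o0_269 * (M .h).transpose = o0_300 := by decide +kernel
theorem n0_301 : M .d * o0_270 * (M .d).transpose = o0_301 := by decide +kernel
theorem n0_302 : M .f * o0_272 * (M .f).transpose = o0_302 := by decide +kernel
theorem n0_303 : M .g * o0_273 * (M .g).transpose = o0_303 := by decide +kernel
theorem n0_304 : M .f * o0_275 * (M .f).transpose = o0_304 := by decide +kernel
theorem n0_305 : M .h * o0_275 * (M .h).transpose = o0_305 := by decide +kernel
theorem n0_306 : M .d * o0_276 * (M .d).transpose = o0_306 := by decide +kernel
theorem n0_307 : M .f * o0_278 * (M .f).transpose = o0_307 := by decide +kernel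
theorem n0_308 : M .h * o0_279 * (M .h).transpose = o0_308 := by decide +kernel
theorem n0_309 : M .d * o0_281 * (M .d).transpose = o0_309 := by decide +kernel
theorem n0_310 : M .g * o0_281 * (M .g).transpose = o0_310 := by decide +kernel
theorem n0_311 : M .h * o0_281 * (M .h).transpose = o0_311 := by decide +kernel
theorem n0_312 : M .h * o0_282 * (M .h).transpose = o0_312 := by decide +kernel
theorem n0_313 : M .d * o0_283 * (M .d).transpose = o0_313 := by decide +kernel
theorem n0_314 : M .e * o0_284 * (M .e).transpose = o0_314 := by decide +kernel
theorem n0_315 : M .f * o0_285 * (M .f).transpose = o0_315 := by decide +kernel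
theorem n0_316 : M .h * o0_285 * (M .h).transpose = o0_316 := by decide +kernel
theorem n0_317 : M .d * o0_286 * (M .d).transpose = o0_317 := by decide +kernel
theorem n0_318 : M .h * o0_288 * (M .h).transpose = o0_318 := by decide +kernel
theorem n0_319 : M .d * o0_289 * (M .d).transpose = o0_319 := by decide +kernel
theorem n0_320 : M .c * o0_290 * (M .c).transpose = o0_320 := by decide +kernel
theorem n0_321 : M .g * o0_291 * (M .g).transpose = o0_321 := by decide +kernel
theorem n0_322 : M .f * o0_292 * (M .f).transpose = o0_322 := by decide +kernel
theorem n0_323 : M .d * o0_294 * (M .d).transpose = o0_323 := by decide +kernel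
theorem n0_324 : M .g * o0_294 * (M .g).transpose = o0_324 := by decide +kernel
theorem n0_325 : M .f * o0_296 * (M .f).transpose = o0_325 := by decide +kernel
theorem n0_326 : M .h * o0_296 * (M .h).transpose = o0_326 := by decide +kernel
theorem n0_327 : M .d * o0_297 * (M .d).transpose = o0_327 := by decide +kernel
theorem n0_328 : M .h * o0_299 * (M .h).transpose = o0_328 := by decide +kernel
theorem n0_329 : M .d * o0_300 * (M .d).transpose = o0_329 := by decide +kernel
theorem n0_330 : M .f * o0_303 * (M .f).transpose = o0_330 := by decide +kernel
theorem n0_331 : M .h * o0_304 * (M .h).transpose = o0_331 := by decide +kernel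
theorem n0_332 : M .d * o0_305 * (M .d).transpose = o0_332 := by decide +kernel
theorem n0_333 : M .g * o0_309 * (M .g).transpose = o0_333 := by decide +kernel
theorem n0_334 : M .f * o0_310 * (M .f).transpose = o0_334 := by decide +kernel
theorem n0_335 : M .h * o0_310 * (M .h).transpose = o0_335 := by decide +kernel
theorem n0_336 : M .d * o0_312 * (M .d).transpose = o0_336 := by decide +kernel
theorem n0_337 : M .h * o0_315 * (M .h).transpose = o0_337 := by decide +kernel
theorem n0_338 : M .d * o0_316 * (M .d).transpose = o0_338 := by decide +kernel
theorem n0_339 : M .d * o0_318 * (M .d).transpose = o0_339 := by decide +kernel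
theorem n0_340 : M .c * o0_319 * (M .c).transpose = o0_340 := by decide +kernel
theorem n0_341 : M .f * o0_321 * (M .f).transpose = o0_341 := by decide +kernel
theorem n0_342 : M .g * o0_323 * (M .g).transpose = o0_342 := by decide +kernel
theorem n0_343 : M .f * o0_324 * (M .f).transpose = o0_343 := by decide +kernel
theorem n0_344 : M .h * o0_325 * (M .h).transpose = o0_344 := by decide +kernel
theorem n0_345 : M .d * o0_326 * (M .d).transpose = o0_345 := by decide +kernel
theorem n0_346 : M .d * o0_328 * (M .d).transpose = o0_346 := by decide +kernel
theorem n0_347 : M .d * o0_331 * (M .d).transpose = o0_347 := by decide +kernel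
theorem n0_348 : M .f * o0_333 * (M .f).transpose = o0_348 := by decide +kernel
theorem n0_349 : M .h * o0_334 * (M .h).transpose = o0_349 := by decide +kernel
theorem n0_350 : M .d * o0_337 * (M .d).transpose = o0_350 := by decide +kernel
theorem n0_351 : M .c * o0_339 * (M .c).transpose = o0_351 := by decide +kernel
theorem n0_352 : M .e * o0_339 * (M .e).transpose = o0_352 := by decide +kernel
theorem n0_353 : M .e * o0_341 * (M .e).transpose = o0_353 := by decide +kernel
theorem n0_354 : M .f * o0_342 * (M .f).transpose = o0_354 := by decide +kernel
theorem n0_355 : M .d * o0_344 * (M .d).transpose = o0_355 := by decide +kernel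
theorem n0_356 : M .e * o0_346 * (M .e).transpose = o0_356 := by decide +kernel
theorem n0_357 : M .e * o0_347 * (M .e).transpose = o0_357 := by decide +kernel
theorem n0_358 : M .e * o0_348 * (M .e).transpose = o0_358 := by decide +kernel
theorem n0_359 : M .e * o0_350 * (M .e).transpose = o0_359 := by decide +kernel
theorem n0_360 : M .e * o0_351 * (M .e).transpose = o0_360 := by decide +kernel

end Cfsg.Agent.Lead.O73
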