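import Cfsg.Agent.Lib.Lead.O73.Obj0

/-! # O73: orbit steps of level 0, part 4 -/

set_option autoImplicit false
set_option maxRecDepth 100000

namespace Cfsg.Agent.Lead.O73

open Cfsg.Spor.Fi22 (Gen)

theorem n0_361 : M .e * o0_354 * (M .e).transpose = o0_361 := by decide +kernel
theorem n0_362 : M .e * o0_355 * (M .e).transpose = o0_362 := by decide +kernel
theorem n0_363 : M .d * o0_360 * (M .d).transpose = o0_363 := by decide +kernel

end Cfsg.Agent.Lead.O73
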