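import Cfsg.Agent.Lib.Lead.O73.Node0_0
import Cfsg.Agent.Lib.Lead.O73.Node0_1
import Cfsg.Agent.Lib.Lead.O73.Node0_2
import Cfsg.Agent.Lib.Lead.O73.Node0_3
import Cfsg.Agent.Lib.Lead.O73.Node0_4

/-! # O73: level 0: the orbit of `o0_0` under `bcdefghi` has at least 364 elements, and `bcdefhi` fixes `o0_0` -/

set_option autoImplicit false
set_option maxRecDepth 100000

namespace Cfsg.Agent.Lead.O73

open Cfsg.Spor.Fi22 (Gen)

/-- generators of the group of level 0 -/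
abbrev GB0 : Set GL7 := GS [.b, .c, .d, .e, .f, .g, .h, .i] false
/-- generators of the stabilising subgroup of level 0 -/
abbrev GK0 : Set GL7 := GS [.b, .c, .d, .e, .f, .h, .i] false

theorem le0 : Subgroup.closure GK0 ≤ Subgroup.closure GB0 :=
  closure_GS_le (by decide) (fun h => absurd h (by decide))

theorem fixL0 : ∀ x ∈ ([.b, .c, .d, .e, .f, .h, .i] : List Gen), M x * o0_0 * (M x).transpose = o0_0 := by decide +kernel
theorem fix0 : ∀ k ∈ Subgroup.closure GK0, k • Obj.mk o0_0 = Obj.mk o0_0 :=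
  closure_fix _ _ (GS_fix o0_0 fixL0 (fun h => absurd h (by decide)))

theorem r0_0 : Reach GB0 (Obj.mk o0_0) (Obj.mk o0_0) := Reach.refl _ _
theorem r0_1 : Reach GB0 (Obj.mk o0_0) (Obj.mk o0_1) :=
  Reach.step (s := gen .g) (gen_mem_GS (by decide)) r0_0 (gen_smul _ _ _ n0_1)
theorem r0_2 : Reach GB0 (Obj.mk o0_0) (Obj.mk o0_2) :=
  Reach.step (s := gen .f) (gen_mem_GS (by decide)) r0_1 (gen_smul _ _ _ n0_2)
theorem r0_3 : Reach GB0 (Obj.mk o0_0) (Obj.mk o0_3) :=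
  Reach.step (s := gen .e) (gen_mem_GS (by decide)) r0_2 (gen_smul _ _ _ n0_3)
theorem r0_4 : Reach GB0 (Obj.mk o0_0) (Obj.mk o0_4) :=
  Reach.step (s := gen .d) (gen_mem_GS (by decide)) r0_3 (gen_smul _ _ _ n0_4)
theorem r0_5 : Reach GB0 (Obj.mk o0_0) (Obj.mk o0_5) :=
  Reach.step (s := gen .c) (gen_mem_GS (by decide)) r0_4 (gen_smul _ _ _ n0_5)
theorem r0_6 : Reach GB0 (Obj.mk o0_0) (Obj.mk o0_6) :=
  Reach.step (s := gen .h) (gen_mem_GS (by decide)) r0_4 (gen_smul _ _ _ n0_6)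
theorem r0_7 : Reach GB0 (Obj.mk o0_0) (Obj.mk o0_7) :=
  Reach.step (s := gen .b) (gen_mem_GS (by decide)) r0_5 (gen_smul _ _ _ n0_7)
theorem r0_8 : Reach GB0 (Obj.mk o0_0) (Obj.mk o0_8) :=
  Reach.step (s := gen .h) (gen_mem_GS (by decide)) r0_5 (gen_smul _ _ _ n0_8)
theorem r0_9 : Reach GB0 (Obj.mk o0_0) (Obj.mk o0_9) :=
  Reach.step (s := gen .i) (gen_mem_GS (by decide)) r0_6 (gen_smul _ _ _ n0_9)
theorem r0_10 : Reach GB0 (Obj.mk o0_0) (Obj.mk o0_10) :=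
  Reach.step (s := gen .h) (gen_mem_GS (by decide)) r0_7 (gen_smul _ _ _ n0_10)
theorem r0_11 : Reach GB0 (Obj.mk o0_0) (Obj.mk o0_11) :=
  Reach.step (s := gen .d) (gen_mem_GS (by decide)) r0_8 (gen_smul _ _ _ n0_11)
theorem r0_12 : Reach GB0 (Obj.mk o0_0) (Obj.mk o0_12) :=
  Reach.step (s := gen .i) (gen_mem_GS (by decide)) r0_8 (gen_smul _ _ _ n0_12)
theorem r0_13 : Reach GB0 (Obj.mk o0_0) (Obj.mk o0_13) :=
  Reach.step (s := gen .d) (gen_mem_GS (by decide)) r0_10 (gen_smul _ _ _ n0_13)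
theorem r0_14 : Reach GB0 (Obj.mk o0_0) (Obj.mk o0_14) :=
  Reach.step (s := gen .i) (gen_mem_GS (by decide)) r0_10 (gen_smul _ _ _ n0_14)
theorem r0_15 : Reach GB0 (Obj.mk o0_0) (Obj.mk o0_15) :=
  Reach.step (s := gen .e) (gen_mem_GS (by decide)) r0_11 (gen_smul _ _ _ n0_15)
theorem r0_16 : Reach GB0 (Obj.mk o0_0) (Obj.mk o0_16) :=
  Reach.step (s := gen .i) (gen_mem_GS (by decide)) r0_11 (gen_smul _ _ _ n0_16)
theorem r0_17 : Reach GB0 (Obj.mk o0_0) (Obj.mk o0_17) :=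
  Reach.step (s := gen .c) (gen_mem_GS (by decide)) r0_13 (gen_smul _ _ _ n0_17)
theorem r0_18 : Reach GB0 (Obj.mk o0_0) (Obj.mk o0_18) :=
  Reach.step (s := gen .e) (gen_mem_GS (by decide)) r0_13 (gen_smul _ _ _ n0_18)
theorem r0_19 : Reach GB0 (Obj.mk o0_0) (Obj.mk o0_19) :=
  Reach.step (s := gen .i) (gen_mem_GS (by decide)) r0_13 (gen_smul _ _ _ n0_19)
theorem r0_20 : Reach GB0 (Obj.mk o0_0) (Obj.mk o0_20) :=
  Reach.step (s := gen .f) (gen_mem_GS (by decide)) r0_15 (gen_smul _ _ _ n0_20)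
theorem r0_21 : Reach GB0 (Obj.mk o0_0) (Obj.mk o0_21) :=
  Reach.step (s := gen .i) (gen_mem_GS (by decide)) r0_15 (gen_smul _ _ _ n0_21)
theorem r0_22 : Reach GB0 (Obj.mk o0_0) (Obj.mk o0_22) :=
  Reach.step (s := gen .h) (gen_mem_GS (by decide)) r0_16 (gen_smul _ _ _ n0_22)
theorem r0_23 : Reach GB0 (Obj.mk o0_0) (Obj.mk o0_23) :=
  Reach.step (s := gen .e) (gen_mem_GS (by decide)) r0_17 (gen_smul _ _ _ n0_23)
theorem r0_24 : Reach GB0 (Obj.mk o0_0) (Obj.mk o0_24) :=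
  Reach.step (s := gen .i) (gen_mem_GS (by decide)) r0_17 (gen_smul _ _ _ n0_24)
theorem r0_25 : Reach GB0 (Obj.mk o0_0) (Obj.mk o0_25) :=
  Reach.step (s := gen .f) (gen_mem_GS (by decide)) r0_18 (gen_smul _ _ _ n0_25)
theorem r0_26 : Reach GB0 (Obj.mk o0_0) (Obj.mk o0_26) :=
  Reach.step (s := gen .i) (gen_mem_GS (by decide)) r0_18 (gen_smul _ _ _ n0_26)
theorem r0_27 : Reach GB0 (Obj.mk o0_0) (Obj.mk o0_27) :=
  Reach.step (s := gen .h) (gen_mem_GS (by decide)) r0_19 (gen_smul _ _ _ n0_27)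
theorem r0_28 : Reach GB0 (Obj.mk o0_0) (Obj.mk o0_28) :=
  Reach.step (s := gen .g) (gen_mem_GS (by decide)) r0_20 (gen_smul _ _ _ n0_28)
theorem r0_29 : Reach GB0 (Obj.mk o0_0) (Obj.mk o0_29) :=
  Reach.step (s := gen .i) (gen_mem_GS (by decide)) r0_20 (gen_smul _ _ _ n0_29)
theorem r0_30 : Reach GB0 (Obj.mk o0_0) (Obj.mk o0_30) :=
  Reach.step (s := gen .h) (gen_mem_GS (by decide)) r0_21 (gen_smul _ _ _ n0_30)
theorem r0_31 : Reach GB0 (Obj.mk o0_0) (Obj.mk o0_31) :=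
  Reach.step (s := gen .d) (gen_mem_GS (by decide)) r0_23 (gen_smul _ _ _ n0_31)
theorem r0_32 : Reach GB0 (Obj.mk o0_0) (Obj.mk o0_32) :=
  Reach.step (s := gen .f) (gen_mem_GS (by decide)) r0_23 (gen_smul _ _ _ n0_32)
theorem r0_33 : Reach GB0 (Obj.mk o0_0) (Obj.mk o0_33) :=
  Reach.step (s := gen .i) (gen_mem_GS (by decide)) r0_23 (gen_smul _ _ _ n0_33)
theorem r0_34 : Reach GB0 (Obj.mk o0_0) (Obj.mk o0_34) :=
  Reach.step (s := gen .h) (gen_mem_GS (by decide)) r0_24 (gen_smul _ _ _ n0_34)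
theorem r0_35 : Reach GB0 (Obj.mk o0_0) (Obj.mk o0_35) :=
  Reach.step (s := gen .g) (gen_mem_GS (by decide)) r0_25 (gen_smul _ _ _ n0_35)
theorem r0_36 : Reach GB0 (Obj.mk o0_0) (Obj.mk o0_36) :=
  Reach.step (s := gen .i) (gen_mem_GS (by decide)) r0_25 (gen_smul _ _ _ n0_36)
theorem r0_37 : Reach GB0 (Obj.mk o0_0) (Obj.mk o0_37) :=
  Reach.step (s := gen .h) (gen_mem_GS (by decide)) r0_26 (gen_smul _ _ _ n0_37)
theorem r0_38 : Reach GB0 (Obj.mk o0_0) (Obj.mk o0_38) :=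
  Reach.step (s := gen .i) (gen_mem_GS (by decide)) r0_28 (gen_smul _ _ _ n0_38)
theorem r0_39 : Reach GB0 (Obj.mk o0_0) (Obj.mk o0_39) :=
  Reach.step (s := gen .h) (gen_mem_GS (by decide)) r0_29 (gen_smul _ _ _ n0_39)
theorem r0_40 : Reach GB0 (Obj.mk o0_0) (Obj.mk o0_40) :=
  Reach.step (s := gen .d) (gen_mem_GS (by decide)) r0_30 (gen_smul _ _ _ n0_40)
theorem r0_41 : Reach GB0 (Obj.mk o0_0) (Obj.mk o0_41) :=
  Reach.step (s := gen .f) (gen_mem_GS (by decide)) r0_31 (gen_smul _ _ _ n0_41)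
theorem r0_42 : Reach GB0 (Obj.mk o0_0) (Obj.mk o0_42) :=
  Reach.step (s := gen .h) (gen_mem_GS (by decide)) r0_31 (gen_smul _ _ _ n0_42)
theorem r0_43 : Reach GB0 (Obj.mk o0_0) (Obj.mk o0_43) :=
  Reach.step (s := gen .i) (gen_mem_GS (by decide)) r0_31 (gen_smul _ _ _ n0_43)
theorem r0_44 : Reach GB0 (Obj.mk o0_0) (Obj.mk o0_44) :=
  Reach.step (s := gen .g) (gen_mem_GS (by decide)) r0_32 (gen_smul _ _ _ n0_44)
theorem r0_45 : Reach GB0 (Obj.mk o0_0) (Obj.mk o0_45) :=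
  Reach.step (s := gen .i) (gen_mem_GS (by decide)) r0_32 (gen_smul _ _ _ n0_45)
theorem r0_46 : Reach GB0 (Obj.mk o0_0) (Obj.mk o0_46) :=
  Reach.step (s := gen .h) (gen_mem_GS (by decide)) r0_33 (gen_smul _ _ _ n0_46)
theorem r0_47 : Reach GB0 (Obj.mk o0_0) (Obj.mk o0_47) :=
  Reach.step (s := gen .d) (gen_mem_GS (by decide)) r0_34 (gen_smul _ _ _ n0_47)
theorem r0_48 : Reach GB0 (Obj.mk o0_0) (Obj.mk o0_48) :=
  Reach.step (s := gen .i) (gen_mem_GS (by decide)) r0_35 (gen_smul _ _ _ n0_48)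
theorem r0_49 : Reach GB0 (Obj.mk o0_0) (Obj.mk o0_49) :=
  Reach.step (s := gen .h) (gen_mem_GS (by decide)) r0_36 (gen_smul _ _ _ n0_49)
theorem r0_50 : Reach GB0 (Obj.mk o0_0) (Obj.mk o0_50) :=
  Reach.step (s := gen .d) (gen_mem_GS (by decide)) r0_37 (gen_smul _ _ _ n0_50)
theorem r0_51 : Reach GB0 (Obj.mk o0_0) (Obj.mk o0_51) :=
  Reach.step (s := gen .h) (gen_mem_GS (by decide)) r0_38 (gen_smul _ _ _ n0_51)
theorem r0_52 : Reach GB0 (Obj.mk o0_0) (Obj.mk o0_52) :=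
  Reach.step (s := gen .d) (gen_mem_GS (by decide)) r0_39 (gen_smul _ _ _ n0_52)
theorem r0_53 : Reach GB0 (Obj.mk o0_0) (Obj.mk o0_53) :=
  Reach.step (s := gen .c) (gen_mem_GS (by decide)) r0_40 (gen_smul _ _ _ n0_53)
theorem r0_54 : Reach GB0 (Obj.mk o0_0) (Obj.mk o0_54) :=
  Reach.step (s := gen .e) (gen_mem_GS (by decide)) r0_41 (gen_smul _ _ _ n0_54)
theorem r0_55 : Reach GB0 (Obj.mk o0_0) (Obj.mk o0_55) :=
  Reach.step (s := gen .g) (gen_mem_GS (by decide)) r0_41 (gen_smul _ _ _ n0_55)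
theorem r0_56 : Reach GB0 (Obj.mk o0_0) (Obj.mk o0_56) :=
  Reach.step (s := gen .h) (gen_mem_GS (by decide)) r0_41 (gen_smul _ _ _ n0_56)
theorem r0_57 : Reach GB0 (Obj.mk o0_0) (Obj.mk o0_57) :=
  Reach.step (s := gen .i) (gen_mem_GS (by decide)) r0_41 (gen_smul _ _ _ n0_57)
theorem r0_58 : Reach GB0 (Obj.mk o0_0) (Obj.mk o0_58) :=
  Reach.step (s := gen .i) (gen_mem_GS (by decide)) r0_42 (gen_smul _ _ _ n0_58)
theorem r0_59 : Reach GB0 (Obj.mk o0_0) (Obj.mk o0_59) :=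
  Reach.step (s := gen .h) (gen_mem_GS (by decide)) r0_43 (gen_smul _ _ _ n0_59)
theorem r0_60 : Reach GB0 (Obj.mk o0_0) (Obj.mk o0_60) :=
  Reach.step (s := gen .i) (gen_mem_GS (by decide)) r0_44 (gen_smul _ _ _ n0_60)
theorem r0_61 : Reach GB0 (Obj.mk o0_0) (Obj.mk o0_61) :=
  Reach.step (s := gen .h) (gen_mem_GS (by decide)) r0_45 (gen_smul _ _ _ n0_61)
theorem r0_62 : Reach GB0 (Obj.mk o0_0) (Obj.mk o0_62) :=
  Reach.step (s := gen .d) (gen_mem_GS (by decide)) r0_46 (gen_smul _ _ _ n0_62)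
theorem r0_63 : Reach GB0 (Obj.mk o0_0) (Obj.mk o0_63) :=
  Reach.step (s := gen .e) (gen_mem_GS (by decide)) r0_47 (gen_smul _ _ _ n0_63)
theorem r0_64 : Reach GB0 (Obj.mk o0_0) (Obj.mk o0_64) :=
  Reach.step (s := gen .h) (gen_mem_GS (by decide)) r0_48 (gen_smul _ _ _ n0_64)
theorem r0_65 : Reach GB0 (Obj.mk o0_0) (Obj.mk o0_65) :=
  Reach.step (s := gen .d) (gen_mem_GS (by decide)) r0_49 (gen_smul _ _ _ n0_65)
theorem r0_66 : Reach GB0 (Obj.mk o0_0) (Obj.mk o0_66) :=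
  Reach.step (s := gen .c) (gen_mem_GS (by decide)) r0_50 (gen_smul _ _ _ n0_66)
theorem r0_67 : Reach GB0 (Obj.mk o0_0) (Obj.mk o0_67) :=
  Reach.step (s := gen .d) (gen_mem_GS (by decide)) r0_51 (gen_smul _ _ _ n0_67)
theorem r0_68 : Reach GB0 (Obj.mk o0_0) (Obj.mk o0_68) :=
  Reach.step (s := gen .c) (gen_mem_GS (by decide)) r0_52 (gen_smul _ _ _ n0_68)
theorem r0_69 : Reach GB0 (Obj.mk o0_0) (Obj.mk o0_69) :=
  Reach.step (s := gen .e) (gen_mem_GS (by decide)) r0_52 (gen_smul _ _ _ n0_69)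
theorem r0_70 : Reach GB0 (Obj.mk o0_0) (Obj.mk o0_70) :=
  Reach.step (s := gen .b) (gen_mem_GS (by decide)) r0_53 (gen_smul _ _ _ n0_70)
theorem r0_71 : Reach GB0 (Obj.mk o0_0) (Obj.mk o0_71) :=
  Reach.step (s := gen .i) (gen_mem_GS (by decide)) r0_54 (gen_smul _ _ _ n0_71)
theorem r0_72 : Reach GB0 (Obj.mk o0_0) (Obj.mk o0_72) :=
  Reach.step (s := gen .i) (gen_mem_GS (by decide)) r0_55 (gen_smul _ _ _ n0_72)
theorem r0_73 : Reach GB0 (Obj.mk o0_0) (Obj.mk o0_73) :=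
  Reach.step (s := gen .i) (gen_mem_GS (by decide)) r0_56 (gen_smul _ _ _ n0_73)
theorem r0_74 : Reach GB0 (Obj.mk o0_0) (Obj.mk o0_74) :=
  Reach.step (s := gen .h) (gen_mem_GS (by decide)) r0_57 (gen_smul _ _ _ n0_74)
theorem r0_75 : Reach GB0 (Obj.mk o0_0) (Obj.mk o0_75) :=
  Reach.step (s := gen .h) (gen_mem_GS (by decide)) r0_58 (gen_smul _ _ _ n0_75)
theorem r0_76 : Reach GB0 (Obj.mk o0_0) (Obj.mk o0_76) :=
  Reach.step (s := gen .d) (gen_mem_GS (by decide)) r0_59 (gen_smul _ _ _ n0_76)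
theorem r0_77 : Reach GB0 (Obj.mk o0_0) (Obj.mk o0_77) :=
  Reach.step (s := gen .h) (gen_mem_GS (by decide)) r0_60 (gen_smul _ _ _ n0_77)
theorem r0_78 : Reach GB0 (Obj.mk o0_0) (Obj.mk o0_78) :=
  Reach.step (s := gen .d) (gen_mem_GS (by decide)) r0_61 (gen_smul _ _ _ n0_78)
theorem r0_79 : Reach GB0 (Obj.mk o0_0) (Obj.mk o0_79) :=
  Reach.step (s := gen .c) (gen_mem_GS (by decide)) r0_62 (gen_smul _ _ _ n0_79)
theorem r0_80 : Reach GB0 (Obj.mk o0_0) (Obj.mk o0_80) :=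
  Reach.step (s := gen .e) (gen_mem_GS (by decide)) r0_62 (gen_smul _ _ _ n0_80)
theorem r0_81 : Reach GB0 (Obj.mk o0_0) (Obj.mk o0_81) :=
  Reach.step (s := gen .f) (gen_mem_GS (by decide)) r0_63 (gen_smul _ _ _ n0_81)
theorem r0_82 : Reach GB0 (Obj.mk o0_0) (Obj.mk o0_82) :=
  Reach.step (s := gen .d) (gen_mem_GS (by decide)) r0_64 (gen_smul _ _ _ n0_82)
theorem r0_83 : Reach GB0 (Obj.mk o0_0) (Obj.mk o0_83) :=
  Reach.step (s := gen .c) (gen_mem_GS (by decide)) r0_65 (gen_smul _ _ _ n0_83)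
theorem r0_84 : Reach GB0 (Obj.mk o0_0) (Obj.mk o0_84) :=
  Reach.step (s := gen .e) (gen_mem_GS (by decide)) r0_65 (gen_smul _ _ _ n0_84)
theorem r0_85 : Reach GB0 (Obj.mk o0_0) (Obj.mk o0_85) :=
  Reach.step (s := gen .b) (gen_mem_GS (by decide)) r0_66 (gen_smul _ _ _ n0_85)
theorem r0_86 : Reach GB0 (Obj.mk o0_0) (Obj.mk o0_86) :=
  Reach.step (s := gen .b) (gen_mem_GS (by decide)) r0_68 (gen_smul _ _ _ n0_86)
theorem r0_87 : Reach GB0 (Obj.mk o0_0) (Obj.mk o0_87) :=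
  Reach.step (s := gen .h) (gen_mem_GS (by decide)) r0_71 (gen_smul _ _ _ n0_87)
theorem r0_88 : Reach GB0 (Obj.mk o0_0) (Obj.mk o0_88) :=
  Reach.step (s := gen .h) (gen_mem_GS (by decide)) r0_72 (gen_smul _ _ _ n0_88)
theorem r0_89 : Reach GB0 (Obj.mk o0_0) (Obj.mk o0_89) :=
  Reach.step (s := gen .h) (gen_mem_GS (by decide)) r0_73 (gen_smul _ _ _ n0_89)
theorem r0_90 : Reach GB0 (Obj.mk o0_0) (Obj.mk o0_90) :=
  Reach.step (s := gen .d) (gen_mem_GS (by decide)) r0_74 (gen_smul _ _ _ n0_90)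
theorem r0_91 : Reach GB0 (Obj.mk o0_0) (Obj.mk o0_91) :=
  Reach.step (s := gen .d) (gen_mem_GS (by decide)) r0_75 (gen_smul _ _ _ n0_91)
theorem r0_92 : Reach GB0 (Obj.mk o0_0) (Obj.mk o0_92) :=
  Reach.step (s := gen .c) (gen_mem_GS (by decide)) r0_76 (gen_smul _ _ _ n0_92)
theorem r0_93 : Reach GB0 (Obj.mk o0_0) (Obj.mk o0_93) :=
  Reach.step (s := gen .e) (gen_mem_GS (by decide)) r0_76 (gen_smul _ _ _ n0_93)
theorem r0_94 : Reach GB0 (Obj.mk o0_0) (Obj.mk o0_94) :=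
  Reach.step (s := gen .d) (gen_mem_GS (by decide)) r0_77 (gen_smul _ _ _ n0_94)
theorem r0_95 : Reach GB0 (Obj.mk o0_0) (Obj.mk o0_95) :=
  Reach.step (s := gen .c) (gen_mem_GS (by decide)) r0_78 (gen_smul _ _ _ n0_95)
theorem r0_96 : Reach GB0 (Obj.mk o0_0) (Obj.mk o0_96) :=
  Reach.step (s := gen .e) (gen_mem_GS (by decide)) r0_78 (gen_smul _ _ _ n0_96)
theorem r0_97 : Reach GB0 (Obj.mk o0_0) (Obj.mk o0_97) :=
  Reach.step (s := gen .b) (gen_mem_GS (by decide)) r0_79 (gen_smul _ _ _ n0_97)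
theorem r0_98 : Reach GB0 (Obj.mk o0_0) (Obj.mk o0_98) :=
  Reach.step (s := gen .e) (gen_mem_GS (by decide)) r0_79 (gen_smul _ _ _ n0_98)
theorem r0_99 : Reach GB0 (Obj.mk o0_0) (Obj.mk o0_99) :=
  Reach.step (s := gen .f) (gen_mem_GS (by decide)) r0_80 (gen_smul _ _ _ n0_99)
theorem r0_100 : Reach GB0 (Obj.mk o0_0) (Obj.mk o0_100) :=
  Reach.step (s := gen .g) (gen_mem_GS (by decide)) r0_81 (gen_smul _ _ _ n0_100)
theorem r0_101 : Reach GB0 (Obj.mk o0_0) (Obj.mk o0_101) :=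
  Reach.step (s := gen .c) (gen_mem_GS (by decide)) r0_82 (gen_smul _ _ _ n0_101)
theorem r0_102 : Reach GB0 (Obj.mk o0_0) (Obj.mk o0_102) :=
  Reach.step (s := gen .b) (gen_mem_GS (by decide)) r0_83 (gen_smul _ _ _ n0_102)
theorem r0_103 : Reach GB0 (Obj.mk o0_0) (Obj.mk o0_103) :=
  Reach.step (s := gen .e) (gen_mem_GS (by decide)) r0_83 (gen_smul _ _ _ n0_103)
theorem r0_104 : Reach GB0 (Obj.mk o0_0) (Obj.mk o0_104) :=
  Reach.step (s := gen .d) (gen_mem_GS (by decide)) r0_87 (gen_smul _ _ _ n0_104)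
theorem r0_105 : Reach GB0 (Obj.mk o0_0) (Obj.mk o0_105) :=
  Reach.step (s := gen .d) (gen_mem_GS (by decide)) r0_88 (gen_smul _ _ _ n0_105)
theorem r0_106 : Reach GB0 (Obj.mk o0_0) (Obj.mk o0_106) :=
  Reach.step (s := gen .d) (gen_mem_GS (by decide)) r0_89 (gen_smul _ _ _ n0_106)
theorem r0_107 : Reach GB0 (Obj.mk o0_0) (Obj.mk o0_107) :=
  Reach.step (s := gen .c) (gen_mem_GS (by decide)) r0_90 (gen_smul _ _ _ n0_107)
theorem r0_108 : Reach GB0 (Obj.mk o0_0) (Obj.mk o0_108) :=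
  Reach.step (s := gen .e) (gen_mem_GS (by decide)) r0_90 (gen_smul _ _ _ n0_108)
theorem r0_109 : Reach GB0 (Obj.mk o0_0) (Obj.mk o0_109) :=
  Reach.step (s := gen .c) (gen_mem_GS (by decide)) r0_91 (gen_smul _ _ _ n0_109)
theorem r0_110 : Reach GB0 (Obj.mk o0_0) (Obj.mk o0_110) :=
  Reach.step (s := gen .e) (gen_mem_GS (by decide)) r0_91 (gen_smul _ _ _ n0_110)
theorem r0_111 : Reach GB0 (Obj.mk o0_0) (Obj.mk o0_111) :=
  Reach.step (s := gen .b) (gen_mem_GS (by decide)) r0_92 (gen_smul _ _ _ n0_111)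
theorem r0_112 : Reach GB0 (Obj.mk o0_0) (Obj.mk o0_112) :=
  Reach.step (s := gen .e) (gen_mem_GS (by decide)) r0_92 (gen_smul _ _ _ n0_112)
theorem r0_113 : Reach GB0 (Obj.mk o0_0) (Obj.mk o0_113) :=
  Reach.step (s := gen .f) (gen_mem_GS (by decide)) r0_93 (gen_smul _ _ _ n0_113)
theorem r0_114 : Reach GB0 (Obj.mk o0_0) (Obj.mk o0_114) :=
  Reach.step (s := gen .c) (gen_mem_GS (by decide)) r0_94 (gen_smul _ _ _ n0_114)
theorem r0_115 : Reach GB0 (Obj.mk o0_0) (Obj.mk o0_115) :=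
  Reach.step (s := gen .e) (gen_mem_GS (by decide)) r0_94 (gen_smul _ _ _ n0_115)
theorem r0_116 : Reach GB0 (Obj.mk o0_0) (Obj.mk o0_116) :=
  Reach.step (s := gen .b) (gen_mem_GS (by decide)) r0_95 (gen_smul _ _ _ n0_116)
theorem r0_117 : Reach GB0 (Obj.mk o0_0) (Obj.mk o0_117) :=
  Reach.step (s := gen .e) (gen_mem_GS (by decide)) r0_95 (gen_smul _ _ _ n0_117)
theorem r0_118 : Reach GB0 (Obj.mk o0_0) (Obj.mk o0_118) :=
  Reach.step (s := gen .f) (gen_mem_GS (by decide)) r0_96 (gen_smul _ _ _ n0_118)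
theorem r0_119 : Reach GB0 (Obj.mk o0_0) (Obj.mk o0_119) :=
  Reach.step (s := gen .e) (gen_mem_GS (by decide)) r0_97 (gen_smul _ _ _ n0_119)
theorem r0_120 : Reach GB0 (Obj.mk o0_0) (Obj.mk o0_120) :=
  Reach.step (s := gen .f) (gen_mem_GS (by decide)) r0_98 (gen_smul _ _ _ n0_120)
theorem r0_121 : Reach GB0 (Obj.mk o0_0) (Obj.mk o0_121) :=
  Reach.step (s := gen .g) (gen_mem_GS (by decide)) r0_99 (gen_smul _ _ _ n0_121)
theorem r0_122 : Reach GB0 (Obj.mk o0_0) (Obj.mk o0_122) :=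
  Reach.step (s := gen .d) (gen_mem_GS (by decide)) r0_103 (gen_smul _ _ _ n0_122)
theorem r0_123 : Reach GB0 (Obj.mk o0_0) (Obj.mk o0_123) :=
  Reach.step (s := gen .c) (gen_mem_GS (by decide)) r0_104 (gen_smul _ _ _ n0_123)
theorem r0_124 : Reach GB0 (Obj.mk o0_0) (Obj.mk o0_124) :=
  Reach.step (s := gen .e) (gen_mem_GS (by decide)) r0_104 (gen_smul _ _ _ n0_124)
theorem r0_125 : Reach GB0 (Obj.mk o0_0) (Obj.mk o0_125) :=
  Reach.step (s := gen .c) (gen_mem_GS (by decide)) r0_105 (gen_smul _ _ _ n0_125)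
theorem r0_126 : Reach GB0 (Obj.mk o0_0) (Obj.mk o0_126) :=
  Reach.step (s := gen .e) (gen_mem_GS (by decide)) r0_105 (gen_smul _ _ _ n0_126)
theorem r0_127 : Reach GB0 (Obj.mk o0_0) (Obj.mk o0_127) :=
  Reach.step (s := gen .c) (gen_mem_GS (by decide)) r0_106 (gen_smul _ _ _ n0_127)
theorem r0_128 : Reach GB0 (Obj.mk o0_0) (Obj.mk o0_128) :=
  Reach.step (s := gen .e) (gen_mem_GS (by decide)) r0_106 (gen_smul _ _ _ n0_128)
theorem r0_129 : Reach GB0 (Obj.mk o0_0) (Obj.mk o0_129) :=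
  Reach.step (s := gen .b) (gen_mem_GS (by decide)) r0_107 (gen_smul _ _ _ n0_129)
theorem r0_130 : Reach GB0 (Obj.mk o0_0) (Obj.mk o0_130) :=
  Reach.step (s := gen .e) (gen_mem_GS (by decide)) r0_107 (gen_smul _ _ _ n0_130)
theorem r0_131 : Reach GB0 (Obj.mk o0_0) (Obj.mk o0_131) :=
  Reach.step (s := gen .f) (gen_mem_GS (by decide)) r0_108 (gen_smul _ _ _ n0_131)
theorem r0_132 : Reach GB0 (Obj.mk o0_0) (Obj.mk o0_132) :=
  Reach.step (s := gen .b) (gen_mem_GS (by decide)) r0_109 (gen_smul _ _ _ n0_132)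
theorem r0_133 : Reach GB0 (Obj.mk o0_0) (Obj.mk o0_133) :=
  Reach.step (s := gen .e) (gen_mem_GS (by decide)) r0_109 (gen_smul _ _ _ n0_133)
theorem r0_134 : Reach GB0 (Obj.mk o0_0) (Obj.mk o0_134) :=
  Reach.step (s := gen .f) (gen_mem_GS (by decide)) r0_110 (gen_smul _ _ _ n0_134)
theorem r0_135 : Reach GB0 (Obj.mk o0_0) (Obj.mk o0_135) :=
  Reach.step (s := gen .e) (gen_mem_GS (by decide)) r0_111 (gen_smul _ _ _ n0_135)
theorem r0_136 : Reach GB0 (Obj.mk o0_0) (Obj.mk o0_136) :=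
  Reach.step (s := gen .d) (gen_mem_GS (by decide)) r0_112 (gen_smul _ _ _ n0_136)
theorem r0_137 : Reach GB0 (Obj.mk o0_0) (Obj.mk o0_137) :=
  Reach.step (s := gen .f) (gen_mem_GS (by decide)) r0_112 (gen_smul _ _ _ n0_137)
theorem r0_138 : Reach GB0 (Obj.mk o0_0) (Obj.mk o0_138) :=
  Reach.step (s := gen .g) (gen_mem_GS (by decide)) r0_113 (gen_smul _ _ _ n0_138)
theorem r0_139 : Reach GB0 (Obj.mk o0_0) (Obj.mk o0_139) :=
  Reach.step (s := gen .e) (gen_mem_GS (by decide)) r0_114 (gen_smul _ _ _ n0_139)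
theorem r0_140 : Reach GB0 (Obj.mk o0_0) (Obj.mk o0_140) :=
  Reach.step (s := gen .f) (gen_mem_GS (by decide)) r0_115 (gen_smul _ _ _ n0_140)
theorem r0_141 : Reach GB0 (Obj.mk o0_0) (Obj.mk o0_141) :=
  Reach.step (s := gen .e) (gen_mem_GS (by decide)) r0_116 (gen_smul _ _ _ n0_141)
theorem r0_142 : Reach GB0 (Obj.mk o0_0) (Obj.mk o0_142) :=
  Reach.step (s := gen .d) (gen_mem_GS (by decide)) r0_117 (gen_smul _ _ _ n0_142)
theorem r0_143 : Reach GB0 (Obj.mk o0_0) (Obj.mk o0_143) :=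
  Reach.step (s := gen .f) (gen_mem_GS (by decide)) r0_117 (gen_smul _ _ _ n0_143)
theorem r0_144 : Reach GB0 (Obj.mk o0_0) (Obj.mk o0_144) :=
  Reach.step (s := gen .g) (gen_mem_GS (by decide)) r0_118 (gen_smul _ _ _ n0_144)
theorem r0_145 : Reach GB0 (Obj.mk o0_0) (Obj.mk o0_145) :=
  Reach.step (s := gen .f) (gen_mem_GS (by decide)) r0_119 (gen_smul _ _ _ n0_145)
theorem r0_146 : Reach GB0 (Obj.mk o0_0) (Obj.mk o0_146) :=
  Reach.step (s := gen .g) (gen_mem_GS (by decide)) r0_120 (gen_smul _ _ _ n0_146)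
theorem r0_147 : Reach GB0 (Obj.mk o0_0) (Obj.mk o0_147) :=
  Reach.step (s := gen .h) (gen_mem_GS (by decide)) r0_122 (gen_smul _ _ _ n0_147)
theorem r0_148 : Reach GB0 (Obj.mk o0_0) (Obj.mk o0_148) :=
  Reach.step (s := gen .b) (gen_mem_GS (by decide)) r0_123 (gen_smul _ _ _ n0_148)
theorem r0_149 : Reach GB0 (Obj.mk o0_0) (Obj.mk o0_149) :=
  Reach.step (s := gen .e) (gen_mem_GS (by decide)) r0_123 (gen_smul _ _ _ n0_149)
theorem r0_150 : Reach GB0 (Obj.mk o0_0) (Obj.mk o0_150) :=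
  Reach.step (s := gen .f) (gen_mem_GS (by decide)) r0_124 (gen_smul _ _ _ n0_150)
theorem r0_151 : Reach GB0 (Obj.mk o0_0) (Obj.mk o0_151) :=
  Reach.step (s := gen .e) (gen_mem_GS (by decide)) r0_125 (gen_smul _ _ _ n0_151)
theorem r0_152 : Reach GB0 (Obj.mk o0_0) (Obj.mk o0_152) :=
  Reach.step (s := gen .f) (gen_mem_GS (by decide)) r0_126 (gen_smul _ _ _ n0_152)
theorem r0_153 : Reach GB0 (Obj.mk o0_0) (Obj.mk o0_153) :=
  Reach.step (s := gen .b) (gen_mem_GS (by decide)) r0_127 (gen_smul _ _ _ n0_153)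
theorem r0_154 : Reach GB0 (Obj.mk o0_0) (Obj.mk o0_154) :=
  Reach.step (s := gen .e) (gen_mem_GS (by decide)) r0_127 (gen_smul _ _ _ n0_154)
theorem r0_155 : Reach GB0 (Obj.mk o0_0) (Obj.mk o0_155) :=
  Reach.step (s := gen .f) (gen_mem_GS (by decide)) r0_128 (gen_smul _ _ _ n0_155)
theorem r0_156 : Reach GB0 (Obj.mk o0_0) (Obj.mk o0_156) :=
  Reach.step (s := gen .e) (gen_mem_GS (by decide)) r0_129 (gen_smul _ _ _ n0_156)
theorem r0_157 : Reach GB0 (Obj.mk o0_0) (Obj.mk o0_157) :=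
  Reach.step (s := gen .d) (gen_mem_GS (by decide)) r0_130 (gen_smul _ _ _ n0_157)
theorem r0_158 : Reach GB0 (Obj.mk o0_0) (Obj.mk o0_158) :=
  Reach.step (s := gen .f) (gen_mem_GS (by decide)) r0_130 (gen_smul _ _ _ n0_158)
theorem r0_159 : Reach GB0 (Obj.mk o0_0) (Obj.mk o0_159) :=
  Reach.step (s := gen .g) (gen_mem_GS (by decide)) r0_131 (gen_smul _ _ _ n0_159)
theorem r0_160 : Reach GB0 (Obj.mk o0_0) (Obj.mk o0_160) :=
  Reach.step (s := gen .e) (gen_mem_GS (by decide)) r0_132 (gen_smul _ _ _ n0_160)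
theorem r0_161 : Reach GB0 (Obj.mk o0_0) (Obj.mk o0_161) :=
  Reach.step (s := gen .d) (gen_mem_GS (by decide)) r0_133 (gen_smul _ _ _ n0_161)
theorem r0_162 : Reach GB0 (Obj.mk o0_0) (Obj.mk o0_162) :=
  Reach.step (s := gen .f) (gen_mem_GS (by decide)) r0_133 (gen_smul _ _ _ n0_162)
theorem r0_163 : Reach GB0 (Obj.mk o0_0) (Obj.mk o0_163) :=
  Reach.step (s := gen .g) (gen_mem_GS (by decide)) r0_134 (gen_smul _ _ _ n0_163)
theorem r0_164 : Reach GB0 (Obj.mk o0_0) (Obj.mk o0_164) :=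
  Reach.step (s := gen .d) (gen_mem_GS (by decide)) r0_135 (gen_smul _ _ _ n0_164)
theorem r0_165 : Reach GB0 (Obj.mk o0_0) (Obj.mk o0_165) :=
  Reach.step (s := gen .f) (gen_mem_GS (by decide)) r0_135 (gen_smul _ _ _ n0_165)
theorem r0_166 : Reach GB0 (Obj.mk o0_0) (Obj.mk o0_166) :=
  Reach.step (s := gen .f) (gen_mem_GS (by decide)) r0_136 (gen_smul _ _ _ n0_166)
theorem r0_167 : Reach GB0 (Obj.mk o0_0) (Obj.mk o0_167) :=
  Reach.step (s := gen .g) (gen_mem_GS (by decide)) r0_137 (gen_smul _ _ _ n0_167)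
theorem r0_168 : Reach GB0 (Obj.mk o0_0) (Obj.mk o0_168) :=
  Reach.step (s := gen .f) (gen_mem_GS (by decide)) r0_139 (gen_smul _ _ _ n0_168)
theorem r0_169 : Reach GB0 (Obj.mk o0_0) (Obj.mk o0_169) :=
  Reach.step (s := gen .g) (gen_mem_GS (by decide)) r0_140 (gen_smul _ _ _ n0_169)
theorem r0_170 : Reach GB0 (Obj.mk o0_0) (Obj.mk o0_170) :=
  Reach.step (s := gen .f) (gen_mem_GS (by decide)) r0_141 (gen_smul _ _ _ n0_170)
theorem r0_171 : Reach GB0 (Obj.mk o0_0) (Obj.mk o0_171) :=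
  Reach.step (s := gen .f) (gen_mem_GS (by decide)) r0_142 (gen_smul _ _ _ n0_171)
theorem r0_172 : Reach GB0 (Obj.mk o0_0) (Obj.mk o0_172) :=
  Reach.step (s := gen .h) (gen_mem_GS (by decide)) r0_142 (gen_smul _ _ _ n0_172)
theorem r0_173 : Reach GB0 (Obj.mk o0_0) (Obj.mk o0_173) :=
  Reach.step (s := gen .g) (gen_mem_GS (by decide)) r0_143 (gen_smul _ _ _ n0_173)
theorem r0_174 : Reach GB0 (Obj.mk o0_0) (Obj.mk o0_174) :=
  Reach.step (s := gen .g) (gen_mem_GS (by decide)) r0_145 (gen_smul _ _ _ n0_174)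
theorem r0_175 : Reach GB0 (Obj.mk o0_0) (Obj.mk o0_175) :=
  Reach.step (s := gen .e) (gen_mem_GS (by decide)) r0_148 (gen_smul _ _ _ n0_175)
theorem r0_176 : Reach GB0 (Obj.mk o0_0) (Obj.mk o0_176) :=
  Reach.step (s := gen .d) (gen_mem_GS (by decide)) r0_149 (gen_smul _ _ _ n0_176)
theorem r0_177 : Reach GB0 (Obj.mk o0_0) (Obj.mk o0_177) :=
  Reach.step (s := gen .f) (gen_mem_GS (by decide)) r0_149 (gen_smul _ _ _ n0_177)
theorem r0_178 : Reach GB0 (Obj.mk o0_0) (Obj.mk o0_178) :=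
  Reach.step (s := gen .g) (gen_mem_GS (by decide)) r0_150 (gen_smul _ _ _ n0_178)
theorem r0_179 : Reach GB0 (Obj.mk o0_0) (Obj.mk o0_179) :=
  Reach.step (s := gen .d) (gen_mem_GS (by decide)) r0_151 (gen_smul _ _ _ n0_179)
theorem r0_180 : Reach GB0 (Obj.mk o0_0) (Obj.mk o0_180) :=
  Reach.step (s := gen .f) (gen_mem_GS (by decide)) r0_151 (gen_smul _ _ _ n0_180)
theorem r0_181 : Reach GB0 (Obj.mk o0_0) (Obj.mk o0_181) :=
  Reach.step (s := gen .g) (gen_mem_GS (by decide)) r0_152 (gen_smul _ _ _ n0_181)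
theorem r0_182 : Reach GB0 (Obj.mk o0_0) (Obj.mk o0_182) :=
  Reach.step (s := gen .e) (gen_mem_GS (by decide)) r0_153 (gen_smul _ _ _ n0_182)
theorem r0_183 : Reach GB0 (Obj.mk o0_0) (Obj.mk o0_183) :=
  Reach.step (s := gen .d) (gen_mem_GS (by decide)) r0_154 (gen_smul _ _ _ n0_183)
theorem r0_184 : Reach GB0 (Obj.mk o0_0) (Obj.mk o0_184) :=
  Reach.step (s := gen .f) (gen_mem_GS (by decide)) r0_154 (gen_smul _ _ _ n0_184)
theorem r0_185 : Reach GB0 (Obj.mk o0_0) (Obj.mk o0_185) :=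
  Reach.step (s := gen .g) (gen_mem_GS (by decide)) r0_155 (gen_smul _ _ _ n0_185)
theorem r0_186 : Reach GB0 (Obj.mk o0_0) (Obj.mk o0_186) :=
  Reach.step (s := gen .d) (gen_mem_GS (by decide)) r0_156 (gen_smul _ _ _ n0_186)
theorem r0_187 : Reach GB0 (Obj.mk o0_0) (Obj.mk o0_187) :=
  Reach.step (s := gen .f) (gen_mem_GS (by decide)) r0_156 (gen_smul _ _ _ n0_187)
theorem r0_188 : Reach GB0 (Obj.mk o0_0) (Obj.mk o0_188) :=
  Reach.step (s := gen .f) (gen_mem_GS (by decide)) r0_157 (gen_smul _ _ _ n0_188)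
theorem r0_189 : Reach GB0 (Obj.mk o0_0) (Obj.mk o0_189) :=
  Reach.step (s := gen .h) (gen_mem_GS (by decide)) r0_157 (gen_smul _ _ _ n0_189)
theorem r0_190 : Reach GB0 (Obj.mk o0_0) (Obj.mk o0_190) :=
  Reach.step (s := gen .g) (gen_mem_GS (by decide)) r0_158 (gen_smul _ _ _ n0_190)
theorem r0_191 : Reach GB0 (Obj.mk o0_0) (Obj.mk o0_191) :=
  Reach.step (s := gen .d) (gen_mem_GS (by decide)) r0_160 (gen_smul _ _ _ n0_191)
theorem r0_192 : Reach GB0 (Obj.mk o0_0) (Obj.mk o0_192) :=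
  Reach.step (s := gen .f) (gen_mem_GS (by decide)) r0_160 (gen_smul _ _ _ n0_192)
theorem r0_193 : Reach GB0 (Obj.mk o0_0) (Obj.mk o0_193) :=
  Reach.step (s := gen .f) (gen_mem_GS (by decide)) r0_161 (gen_smul _ _ _ n0_193)
theorem r0_194 : Reach GB0 (Obj.mk o0_0) (Obj.mk o0_194) :=
  Reach.step (s := gen .h) (gen_mem_GS (by decide)) r0_161 (gen_smul _ _ _ n0_194)
theorem r0_195 : Reach GB0 (Obj.mk o0_0) (Obj.mk o0_195) :=
  Reach.step (s := gen .g) (gen_mem_GS (by decide)) r0_162 (gen_smul _ _ _ n0_195)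
theorem r0_196 : Reach GB0 (Obj.mk o0_0) (Obj.mk o0_196) :=
  Reach.step (s := gen .c) (gen_mem_GS (by decide)) r0_164 (gen_smul _ _ _ n0_196)
theorem r0_197 : Reach GB0 (Obj.mk o0_0) (Obj.mk o0_197) :=
  Reach.step (s := gen .f) (gen_mem_GS (by decide)) r0_164 (gen_smul _ _ _ n0_197)
theorem r0_198 : Reach GB0 (Obj.mk o0_0) (Obj.mk o0_198) :=
  Reach.step (s := gen .g) (gen_mem_GS (by decide)) r0_165 (gen_smul _ _ _ n0_198)
theorem r0_199 : Reach GB0 (Obj.mk o0_0) (Obj.mk o0_199) :=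
  Reach.step (s := gen .e) (gen_mem_GS (by decide)) r0_166 (gen_smul _ _ _ n0_199)
theorem r0_200 : Reach GB0 (Obj.mk o0_0) (Obj.mk o0_200) :=
  Reach.step (s := gen .g) (gen_mem_GS (by decide)) r0_166 (gen_smul _ _ _ n0_200)
theorem r0_201 : Reach GB0 (Obj.mk o0_0) (Obj.mk o0_201) :=
  Reach.step (s := gen .g) (gen_mem_GS (by decide)) r0_168 (gen_smul _ _ _ n0_201)
theorem r0_202 : Reach GB0 (Obj.mk o0_0) (Obj.mk o0_202) :=
  Reach.step (s := gen .g) (gen_mem_GS (by decide)) r0_170 (gen_smul _ _ _ n0_202)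
theorem r0_203 : Reach GB0 (Obj.mk o0_0) (Obj.mk o0_203) :=
  Reach.step (s := gen .g) (gen_mem_GS (by decide)) r0_171 (gen_smul _ _ _ n0_203)
theorem r0_204 : Reach GB0 (Obj.mk o0_0) (Obj.mk o0_204) :=
  Reach.step (s := gen .h) (gen_mem_GS (by decide)) r0_171 (gen_smul _ _ _ n0_204)
theorem r0_205 : Reach GB0 (Obj.mk o0_0) (Obj.mk o0_205) :=
  Reach.step (s := gen .d) (gen_mem_GS (by decide)) r0_175 (gen_smul _ _ _ n0_205)
theorem r0_206 : Reach GB0 (Obj.mk o0_0) (Obj.mk o0_206) :=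
  Reach.step (s := gen .f) (gen_mem_GS (by decide)) r0_175 (gen_smul _ _ _ n0_206)
theorem r0_207 : Reach GB0 (Obj.mk o0_0) (Obj.mk o0_207) :=
  Reach.step (s := gen .f) (gen_mem_GS (by decide)) r0_176 (gen_smul _ _ _ n0_207)
theorem r0_208 : Reach GB0 (Obj.mk o0_0) (Obj.mk o0_208) :=
  Reach.step (s := gen .h) (gen_mem_GS (by decide)) r0_176 (gen_smul _ _ _ n0_208)
theorem r0_209 : Reach GB0 (Obj.mk o0_0) (Obj.mk o0_209) :=
  Reach.step (s := gen .g) (gen_mem_GS (by decide)) r0_177 (gen_smul _ _ _ n0_209)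
theorem r0_210 : Reach GB0 (Obj.mk o0_0) (Obj.mk o0_210) :=
  Reach.step (s := gen .f) (gen_mem_GS (by decide)) r0_179 (gen_smul _ _ _ n0_210)
theorem r0_211 : Reach GB0 (Obj.mk o0_0) (Obj.mk o0_211) :=
  Reach.step (s := gen .g) (gen_mem_GS (by decide)) r0_180 (gen_smul _ _ _ n0_211)
theorem r0_212 : Reach GB0 (Obj.mk o0_0) (Obj.mk o0_212) :=
  Reach.step (s := gen .d) (gen_mem_GS (by decide)) r0_182 (gen_smul _ _ _ n0_212)
theorem r0_213 : Reach GB0 (Obj.mk o0_0) (Obj.mk o0_213) :=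
  Reach.step (s := gen .f) (gen_mem_GS (by decide)) r0_182 (gen_smul _ _ _ n0_213)
theorem r0_214 : Reach GB0 (Obj.mk o0_0) (Obj.mk o0_214) :=
  Reach.step (s := gen .f) (gen_mem_GS (by decide)) r0_183 (gen_smul _ _ _ n0_214)
theorem r0_215 : Reach GB0 (Obj.mk o0_0) (Obj.mk o0_215) :=
  Reach.step (s := gen .h) (gen_mem_GS (by decide)) r0_183 (gen_smul _ _ _ n0_215)
theorem r0_216 : Reach GB0 (Obj.mk o0_0) (Obj.mk o0_216) :=
  Reach.step (s := gen .g) (gen_mem_GS (by decide)) r0_184 (gen_smul _ _ _ n0_216)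
theorem r0_217 : Reach GB0 (Obj.mk o0_0) (Obj.mk o0_217) :=
  Reach.step (s := gen .f) (gen_mem_GS (by decide)) r0_186 (gen_smul _ _ _ n0_217)
theorem r0_218 : Reach GB0 (Obj.mk o0_0) (Obj.mk o0_218) :=
  Reach.step (s := gen .g) (gen_mem_GS (by decide)) r0_187 (gen_smul _ _ _ n0_218)
theorem r0_219 : Reach GB0 (Obj.mk o0_0) (Obj.mk o0_219) :=
  Reach.step (s := gen .e) (gen_mem_GS (by decide)) r0_188 (gen_smul _ _ _ n0_219)
theorem r0_220 : Reach GB0 (Obj.mk o0_0) (Obj.mk o0_220) :=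
  Reach.step (s := gen .g) (gen_mem_GS (by decide)) r0_188 (gen_smul _ _ _ n0_220)
theorem r0_221 : Reach GB0 (Obj.mk o0_0) (Obj.mk o0_221) :=
  Reach.step (s := gen .h) (gen_mem_GS (by decide)) r0_188 (gen_smul _ _ _ n0_221)
theorem r0_222 : Reach GB0 (Obj.mk o0_0) (Obj.mk o0_222) :=
  Reach.step (s := gen .c) (gen_mem_GS (by decide)) r0_191 (gen_smul _ _ _ n0_222)
theorem r0_223 : Reach GB0 (Obj.mk o0_0) (Obj.mk o0_223) :=
  Reach.step (s := gen .f) (gen_mem_GS (by decide)) r0_191 (gen_smul _ _ _ n0_223)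
theorem r0_224 : Reach GB0 (Obj.mk o0_0) (Obj.mk o0_224) :=
  Reach.step (s := gen .h) (gen_mem_GS (by decide)) r0_191 (gen_smul _ _ _ n0_224)
theorem r0_225 : Reach GB0 (Obj.mk o0_0) (Obj.mk o0_225) :=
  Reach.step (s := gen .g) (gen_mem_GS (by decide)) r0_192 (gen_smul _ _ _ n0_225)
theorem r0_226 : Reach GB0 (Obj.mk o0_0) (Obj.mk o0_226) :=
  Reach.step (s := gen .e) (gen_mem_GS (by decide)) r0_193 (gen_smul _ _ _ n0_226)
theorem r0_227 : Reach GB0 (Obj.mk o0_0) (Obj.mk o0_227) :=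
  Reach.step (s := gen .g) (gen_mem_GS (by decide)) r0_193 (gen_smul _ _ _ n0_227)
theorem r0_228 : Reach GB0 (Obj.mk o0_0) (Obj.mk o0_228) :=
  Reach.step (s := gen .h) (gen_mem_GS (by decide)) r0_193 (gen_smul _ _ _ n0_228)
theorem r0_229 : Reach GB0 (Obj.mk o0_0) (Obj.mk o0_229) :=
  Reach.step (s := gen .f) (gen_mem_GS (by decide)) r0_196 (gen_smul _ _ _ n0_229)
theorem r0_230 : Reach GB0 (Obj.mk o0_0) (Obj.mk o0_230) :=
  Reach.step (s := gen .e) (gen_mem_GS (by decide)) r0_197 (gen_smul _ _ _ n0_230)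
theorem r0_231 : Reach GB0 (Obj.mk o0_0) (Obj.mk o0_231) :=
  Reach.step (s := gen .g) (gen_mem_GS (by decide)) r0_197 (gen_smul _ _ _ n0_231)
theorem r0_232 : Reach GB0 (Obj.mk o0_0) (Obj.mk o0_232) :=
  Reach.step (s := gen .g) (gen_mem_GS (by decide)) r0_199 (gen_smul _ _ _ n0_232)
theorem r0_233 : Reach GB0 (Obj.mk o0_0) (Obj.mk o0_233) :=
  Reach.step (s := gen .h) (gen_mem_GS (by decide)) r0_203 (gen_smul _ _ _ n0_233)
theorem r0_234 : Reach GB0 (Obj.mk o0_0) (Obj.mk o0_234) :=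
  Reach.step (s := gen .c) (gen_mem_GS (by decide)) r0_205 (gen_smul _ _ _ n0_234)
theorem r0_235 : Reach GB0 (Obj.mk o0_0) (Obj.mk o0_235) :=
  Reach.step (s := gen .f) (gen_mem_GS (by decide)) r0_205 (gen_smul _ _ _ n0_235)
theorem r0_236 : Reach GB0 (Obj.mk o0_0) (Obj.mk o0_236) :=
  Reach.step (s := gen .h) (gen_mem_GS (by decide)) r0_205 (gen_smul _ _ _ n0_236)
theorem r0_237 : Reach GB0 (Obj.mk o0_0) (Obj.mk o0_237) :=
  Reach.step (s := gen .g) (gen_mem_GS (by decide)) r0_206 (gen_smul _ _ _ n0_237)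
theorem r0_238 : Reach GB0 (Obj.mk o0_0) (Obj.mk o0_238) :=
  Reach.step (s := gen .e) (gen_mem_GS (by decide)) r0_207 (gen_smul _ _ _ n0_238)
theorem r0_239 : Reach GB0 (Obj.mk o0_0) (Obj.mk o0_239) :=
  Reach.step (s := gen .g) (gen_mem_GS (by decide)) r0_207 (gen_smul _ _ _ n0_239)
theorem r0_240 : Reach GB0 (Obj.mk o0_0) (Obj.mk o0_240) :=
  Reach.step (s := gen .h) (gen_mem_GS (by decide)) r0_207 (gen_smul _ _ _ n0_240)
theorem r0_241 : Reach GB0 (Obj.mk o0_0) (Obj.mk o0_241) :=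
  Reach.step (s := gen .e) (gen_mem_GS (by decide)) r0_210 (gen_smul _ _ _ n0_241)
theorem r0_242 : Reach GB0 (Obj.mk o0_0) (Obj.mk o0_242) :=
  Reach.step (s := gen .g) (gen_mem_GS (by decide)) r0_210 (gen_smul _ _ _ n0_242)
theorem r0_243 : Reach GB0 (Obj.mk o0_0) (Obj.mk o0_243) :=
  Reach.step (s := gen .f) (gen_mem_GS (by decide)) r0_212 (gen_smul _ _ _ n0_243)
theorem r0_244 : Reach GB0 (Obj.mk o0_0) (Obj.mk o0_244) :=
  Reach.step (s := gen .g) (gen_mem_GS (by decide)) r0_213 (gen_smul _ _ _ n0_244)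
theorem r0_245 : Reach GB0 (Obj.mk o0_0) (Obj.mk o0_245) :=
  Reach.step (s := gen .e) (gen_mem_GS (by decide)) r0_214 (gen_smul _ _ _ n0_245)
theorem r0_246 : Reach GB0 (Obj.mk o0_0) (Obj.mk o0_246) :=
  Reach.step (s := gen .g) (gen_mem_GS (by decide)) r0_214 (gen_smul _ _ _ n0_246)
theorem r0_247 : Reach GB0 (Obj.mk o0_0) (Obj.mk o0_247) :=
  Reach.step (s := gen .h) (gen_mem_GS (by decide)) r0_214 (gen_smul _ _ _ n0_247)
theorem r0_248 : Reach GB0 (Obj.mk o0_0) (Obj.mk o0_248) :=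
  Reach.step (s := gen .e) (gen_mem_GS (by decide)) r0_217 (gen_smul _ _ _ n0_248)
theorem r0_249 : Reach GB0 (Obj.mk o0_0) (Obj.mk o0_249) :=
  Reach.step (s := gen .g) (gen_mem_GS (by decide)) r0_217 (gen_smul _ _ _ n0_249)
theorem r0_250 : Reach GB0 (Obj.mk o0_0) (Obj.mk o0_250) :=
  Reach.step (s := gen .g) (gen_mem_GS (by decide)) r0_219 (gen_smul _ _ _ n0_250)
theorem r0_251 : Reach GB0 (Obj.mk o0_0) (Obj.mk o0_251) :=
  Reach.step (s := gen .h) (gen_mem_GS (by decide)) r0_219 (gen_smul _ _ _ n0_251)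
theorem r0_252 : Reach GB0 (Obj.mk o0_0) (Obj.mk o0_252) :=
  Reach.step (s := gen .h) (gen_mem_GS (by decide)) r0_220 (gen_smul _ _ _ n0_252)
theorem r0_253 : Reach GB0 (Obj.mk o0_0) (Obj.mk o0_253) :=
  Reach.step (s := gen .f) (gen_mem_GS (by decide)) r0_222 (gen_smul _ _ _ n0_253)
theorem r0_254 : Reach GB0 (Obj.mk o0_0) (Obj.mk o0_254) :=
  Reach.step (s := gen .h) (gen_mem_GS (by decide)) r0_222 (gen_smul _ _ _ n0_254)
theorem r0_255 : Reach GB0 (Obj.mk o0_0) (Obj.mk o0_255) :=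
  Reach.step (s := gen .e) (gen_mem_GS (by decide)) r0_223 (gen_smul _ _ _ n0_255)
theorem r0_256 : Reach GB0 (Obj.mk o0_0) (Obj.mk o0_256) :=
  Reach.step (s := gen .g) (gen_mem_GS (by decide)) r0_223 (gen_smul _ _ _ n0_256)
theorem r0_257 : Reach GB0 (Obj.mk o0_0) (Obj.mk o0_257) :=
  Reach.step (s := gen .h) (gen_mem_GS (by decide)) r0_223 (gen_smul _ _ _ n0_257)
theorem r0_258 : Reach GB0 (Obj.mk o0_0) (Obj.mk o0_258) :=
  Reach.step (s := gen .g) (gen_mem_GS (by decide)) r0_226 (gen_smul _ _ _ n0_258)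
theorem r0_259 : Reach GB0 (Obj.mk o0_0) (Obj.mk o0_259) :=
  Reach.step (s := gen .h) (gen_mem_GS (by decide)) r0_226 (gen_smul _ _ _ n0_259)
theorem r0_260 : Reach GB0 (Obj.mk o0_0) (Obj.mk o0_260) :=
  Reach.step (s := gen .h) (gen_mem_GS (by decide)) r0_227 (gen_smul _ _ _ n0_260)
theorem r0_261 : Reach GB0 (Obj.mk o0_0) (Obj.mk o0_261) :=
  Reach.step (s := gen .e) (gen_mem_GS (by decide)) r0_229 (gen_smul _ _ _ n0_261)
theorem r0_262 : Reach GB0 (Obj.mk o0_0) (Obj.mk o0_262) :=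
  Reach.step (s := gen .g) (gen_mem_GS (by decide)) r0_229 (gen_smul _ _ _ n0_262)
theorem r0_263 : Reach GB0 (Obj.mk o0_0) (Obj.mk o0_263) :=
  Reach.step (s := gen .g) (gen_mem_GS (by decide)) r0_230 (gen_smul _ _ _ n0_263)
theorem r0_264 : Reach GB0 (Obj.mk o0_0) (Obj.mk o0_264) :=
  Reach.step (s := gen .f) (gen_mem_GS (by decide)) r0_232 (gen_smul _ _ _ n0_264)
theorem r0_265 : Reach GB0 (Obj.mk o0_0) (Obj.mk o0_265) :=
  Reach.step (s := gen .f) (gen_mem_GS (by decide)) r0_234 (gen_smul _ _ _ n0_265)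
theorem r0_266 : Reach GB0 (Obj.mk o0_0) (Obj.mk o0_266) :=
  Reach.step (s := gen .e) (gen_mem_GS (by decide)) r0_235 (gen_smul _ _ _ n0_266)
theorem r0_267 : Reach GB0 (Obj.mk o0_0) (Obj.mk o0_267) :=
  Reach.step (s := gen .g) (gen_mem_GS (by decide)) r0_235 (gen_smul _ _ _ n0_267)
theorem r0_268 : Reach GB0 (Obj.mk o0_0) (Obj.mk o0_268) :=
  Reach.step (s := gen .h) (gen_mem_GS (by decide)) r0_235 (gen_smul _ _ _ n0_268)
theorem r0_269 : Reach GB0 (Obj.mk o0_0) (Obj.mk o0_269) :=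
  Reach.step (s := gen .g) (gen_mem_GS (by decide)) r0_238 (gen_smul _ _ _ n0_269)
theorem r0_270 : Reach GB0 (Obj.mk o0_0) (Obj.mk o0_270) :=
  Reach.step (s := gen .h) (gen_mem_GS (by decide)) r0_238 (gen_smul _ _ _ n0_270)
theorem r0_271 : Reach GB0 (Obj.mk o0_0) (Obj.mk o0_271) :=
  Reach.step (s := gen .h) (gen_mem_GS (by decide)) r0_239 (gen_smul _ _ _ n0_271)
theorem r0_272 : Reach GB0 (Obj.mk o0_0) (Obj.mk o0_272) :=
  Reach.step (s := gen .g) (gen_mem_GS (by decide)) r0_241 (gen_smul _ _ _ n0_272)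
theorem r0_273 : Reach GB0 (Obj.mk o0_0) (Obj.mk o0_273) :=
  Reach.step (s := gen .e) (gen_mem_GS (by decide)) r0_243 (gen_smul _ _ _ n0_273)
theorem r0_274 : Reach GB0 (Obj.mk o0_0) (Obj.mk o0_274) :=
  Reach.step (s := gen .g) (gen_mem_GS (by decide)) r0_243 (gen_smul _ _ _ n0_274)
theorem r0_275 : Reach GB0 (Obj.mk o0_0) (Obj.mk o0_275) :=
  Reach.step (s := gen .g) (gen_mem_GS (by decide)) r0_245 (gen_smul _ _ _ n0_275)
theorem r0_276 : Reach GB0 (Obj.mk o0_0) (Obj.mk o0_276) :=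
  Reach.step (s := gen .h) (gen_mem_GS (by decide)) r0_245 (gen_smul _ _ _ n0_276)
theorem r0_277 : Reach GB0 (Obj.mk o0_0) (Obj.mk o0_277) :=
  Reach.step (s := gen .h) (gen_mem_GS (by decide)) r0_246 (gen_smul _ _ _ n0_277)
theorem r0_278 : Reach GB0 (Obj.mk o0_0) (Obj.mk o0_278) :=
  Reach.step (s := gen .g) (gen_mem_GS (by decide)) r0_248 (gen_smul _ _ _ n0_278)
theorem r0_279 : Reach GB0 (Obj.mk o0_0) (Obj.mk o0_279) :=
  Reach.step (s := gen .f) (gen_mem_GS (by decide)) r0_250 (gen_smul _ _ _ n0_279)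
theorem r0_280 : Reach GB0 (Obj.mk o0_0) (Obj.mk o0_280) :=
  Reach.step (s := gen .h) (gen_mem_GS (by decide)) r0_250 (gen_smul _ _ _ n0_280)
theorem r0_281 : Reach GB0 (Obj.mk o0_0) (Obj.mk o0_281) :=
  Reach.step (s := gen .e) (gen_mem_GS (by decide)) r0_253 (gen_smul _ _ _ n0_281)
theorem r0_282 : Reach GB0 (Obj.mk o0_0) (Obj.mk o0_282) :=
  Reach.step (s := gen .g) (gen_mem_GS (by decide)) r0_253 (gen_smul _ _ _ n0_282)
theorem r0_283 : Reach GB0 (Obj.mk o0_0) (Obj.mk o0_283) :=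
  Reach.step (s := gen .h) (gen_mem_GS (by decide)) r0_253 (gen_smul _ _ _ n0_283)
theorem r0_284 : Reach GB0 (Obj.mk o0_0) (Obj.mk o0_284) :=
  Reach.step (s := gen .d) (gen_mem_GS (by decide)) r0_254 (gen_smul _ _ _ n0_284)
theorem r0_285 : Reach GB0 (Obj.mk o0_0) (Obj.mk o0_285) :=
  Reach.step (s := gen .g) (gen_mem_GS (by decide)) r0_255 (gen_smul _ _ _ n0_285)
theorem r0_286 : Reach GB0 (Obj.mk o0_0) (Obj.mk o0_286) :=
  Reach.step (s := gen .h) (gen_mem_GS (by decide)) r0_255 (gen_smul _ _ _ n0_286)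
theorem r0_287 : Reach GB0 (Obj.mk o0_0) (Obj.mk o0_287) :=
  Reach.step (s := gen .h) (gen_mem_GS (by decide)) r0_256 (gen_smul _ _ _ n0_287)
theorem r0_288 : Reach GB0 (Obj.mk o0_0) (Obj.mk o0_288) :=
  Reach.step (s := gen .f) (gen_mem_GS (by decide)) r0_258 (gen_smul _ _ _ n0_288)
theorem r0_289 : Reach GB0 (Obj.mk o0_0) (Obj.mk o0_289) :=
  Reach.step (s := gen .h) (gen_mem_GS (by decide)) r0_258 (gen_smul _ _ _ n0_289)
theorem r0_290 : Reach GB0 (Obj.mk o0_0) (Obj.mk o0_290) :=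
  Reach.step (s := gen .d) (gen_mem_GS (by decide)) r0_259 (gen_smul _ _ _ n0_290)
theorem r0_291 : Reach GB0 (Obj.mk o0_0) (Obj.mk o0_291) :=
  Reach.step (s := gen .d) (gen_mem_GS (by decide)) r0_261 (gen_smul _ _ _ n0_291)
theorem r0_292 : Reach GB0 (Obj.mk o0_0) (Obj.mk o0_292) :=
  Reach.step (s := gen .g) (gen_mem_GS (by decide)) r0_261 (gen_smul _ _ _ n0_292)
theorem r0_293 : Reach GB0 (Obj.mk o0_0) (Obj.mk o0_293) :=
  Reach.step (s := gen .f) (gen_mem_GS (by decide)) r0_263 (gen_smul _ _ _ n0_293)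
theorem r0_294 : Reach GB0 (Obj.mk o0_0) (Obj.mk o0_294) :=
  Reach.step (s := gen .e) (gen_mem_GS (by decide)) r0_265 (gen_smul _ _ _ n0_294)
theorem r0_295 : Reach GB0 (Obj.mk o0_0) (Obj.mk o0_295) :=
  Reach.step (s := gen .g) (gen_mem_GS (by decide)) r0_265 (gen_smul _ _ _ n0_295)
theorem r0_296 : Reach GB0 (Obj.mk o0_0) (Obj.mk o0_296) :=
  Reach.step (s := gen .g) (gen_mem_GS (by decide)) r0_266 (gen_smul _ _ _ n0_296)
theorem r0_297 : Reach GB0 (Obj.mk o0_0) (Obj.mk o0_297) :=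
  Reach.step (s := gen .h) (gen_mem_GS (by decide)) r0_266 (gen_smul _ _ _ n0_297)
theorem r0_298 : Reach GB0 (Obj.mk o0_0) (Obj.mk o0_298) :=
  Reach.step (s := gen .h) (gen_mem_GS (by decide)) r0_267 (gen_smul _ _ _ n0_298)
theorem r0_299 : Reach GB0 (Obj.mk o0_0) (Obj.mk o0_299) :=
  Reach.step (s := gen .f) (gen_mem_GS (by decide)) r0_269 (gen_smul _ _ _ n0_299)
theorem r0_300 : Reach GB0 (Obj.mk o0_0) (Obj.mk o0_300) :=
  Reach.step (s := gen .h) (gen_mem_GS (by decide)) r0_269 (gen_smul _ _ _ n0_300)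
theorem r0_301 : Reach GB0 (Obj.mk o0_0) (Obj.mk o0_301) :=
  Reach.step (s := gen .d) (gen_mem_GS (by decide)) r0_270 (gen_smul _ _ _ n0_301)
theorem r0_302 : Reach GB0 (Obj.mk o0_0) (Obj.mk o0_302) :=
  Reach.step (s := gen .f) (gen_mem_GS (by decide)) r0_272 (gen_smul _ _ _ n0_302)
theorem r0_303 : Reach GB0 (Obj.mk o0_0) (Obj.mk o0_303) :=
  Reach.step (s := gen .g) (gen_mem_GS (by decide)) r0_273 (gen_smul _ _ _ n0_303)
theorem r0_304 : Reach GB0 (Obj.mk o0_0) (Obj.mk o0_304) :=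
  Reach.step (s := gen .f) (gen_mem_GS (by decide)) r0_275 (gen_smul _ _ _ n0_304)
theorem r0_305 : Reach GB0 (Obj.mk o0_0) (Obj.mk o0_305) :=
  Reach.step (s := gen .h) (gen_mem_GS (by decide)) r0_275 (gen_smul _ _ _ n0_305)
theorem r0_306 : Reach GB0 (Obj.mk o0_0) (Obj.mk o0_306) :=
  Reach.step (s := gen .d) (gen_mem_GS (by decide)) r0_276 (gen_smul _ _ _ n0_306)
theorem r0_307 : Reach GB0 (Obj.mk o0_0) (Obj.mk o0_307) :=
  Reach.step (s := gen .f) (gen_mem_GS (by decide)) r0_278 (gen_smul _ _ _ n0_307)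
theorem r0_308 : Reach GB0 (Obj.mk o0_0) (Obj.mk o0_308) :=
  Reach.step (s := gen .h) (gen_mem_GS (by decide)) r0_279 (gen_smul _ _ _ n0_308)
theorem r0_309 : Reach GB0 (Obj.mk o0_0) (Obj.mk o0_309) :=
  Reach.step (s := gen .d) (gen_mem_GS (by decide)) r0_281 (gen_smul _ _ _ n0_309)
theorem r0_310 : Reach GB0 (Obj.mk o0_0) (Obj.mk o0_310) :=
  Reach.step (s := gen .g) (gen_mem_GS (by decide)) r0_281 (gen_smul _ _ _ n0_310)
theorem r0_311 : Reach GB0 (Obj.mk o0_0) (Obj.mk o0_311) :=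
  Reach.step (s := gen .h) (gen_mem_GS (by decide)) r0_281 (gen_smul _ _ _ n0_311)
theorem r0_312 : Reach GB0 (Obj.mk o0_0) (Obj.mk o0_312) :=
  Reach.step (s := gen .h) (gen_mem_GS (by decide)) r0_282 (gen_smul _ _ _ n0_312)
theorem r0_313 : Reach GB0 (Obj.mk o0_0) (Obj.mk o0_313) :=
  Reach.step (s := gen .d) (gen_mem_GS (by decide)) r0_283 (gen_smul _ _ _ n0_313)
theorem r0_314 : Reach GB0 (Obj.mk o0_0) (Obj.mk o0_314) :=
  Reach.step (s := gen .e) (gen_mem_GS (by decide)) r0_284 (gen_smul _ _ _ n0_314)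
theorem r0_315 : Reach GB0 (Obj.mk o0_0) (Obj.mk o0_315) :=
  Reach.step (s := gen .f) (gen_mem_GS (by decide)) r0_285 (gen_smul _ _ _ n0_315)
theorem r0_316 : Reach GB0 (Obj.mk o0_0) (Obj.mk o0_316) :=
  Reach.step (s := gen .h) (gen_mem_GS (by decide)) r0_285 (gen_smul _ _ _ n0_316)
theorem r0_317 : Reach GB0 (Obj.mk o0_0) (Obj.mk o0_317) :=
  Reach.step (s := gen .d) (gen_mem_GS (by decide)) r0_286 (gen_smul _ _ _ n0_317)
theorem r0_318 : Reach GB0 (Obj.mk o0_0) (Obj.mk o0_318) :=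
  Reach.step (s := gen .h) (gen_mem_GS (by decide)) r0_288 (gen_smul _ _ _ n0_318)
theorem r0_319 : Reach GB0 (Obj.mk o0_0) (Obj.mk o0_319) :=
  Reach.step (s := gen .d) (gen_mem_GS (by decide)) r0_289 (gen_smul _ _ _ n0_319)
theorem r0_320 : Reach GB0 (Obj.mk o0_0) (Obj.mk o0_320) :=
  Reach.step (s := gen .c) (gen_mem_GS (by decide)) r0_290 (gen_smul _ _ _ n0_320)
theorem r0_321 : Reach GB0 (Obj.mk o0_0) (Obj.mk o0_321) :=
  Reach.step (s := gen .g) (gen_mem_GS (by decide)) r0_291 (gen_smul _ _ _ n0_321)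
theorem r0_322 : Reach GB0 (Obj.mk o0_0) (Obj.mk o0_322) :=
  Reach.step (s := gen .f) (gen_mem_GS (by decide)) r0_292 (gen_smul _ _ _ n0_322)
theorem r0_323 : Reach GB0 (Obj.mk o0_0) (Obj.mk o0_323) :=
  Reach.step (s := gen .d) (gen_mem_GS (by decide)) r0_294 (gen_smul _ _ _ n0_323)
theorem r0_324 : Reach GB0 (Obj.mk o0_0) (Obj.mk o0_324) :=
  Reach.step (s := gen .g) (gen_mem_GS (by decide)) r0_294 (gen_smul _ _ _ n0_324)
theorem r0_325 : Reach GB0 (Obj.mk o0_0) (Obj.mk o0_325) :=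
  Reach.step (s := gen .f) (gen_mem_GS (by decide)) r0_296 (gen_smul _ _ _ n0_325)
theorem r0_326 : Reach GB0 (Obj.mk o0_0) (Obj.mk o0_326) :=
  Reach.step (s := gen .h) (gen_mem_GS (by decide)) r0_296 (gen_smul _ _ _ n0_326)
theorem r0_327 : Reach GB0 (Obj.mk o0_0) (Obj.mk o0_327) :=
  Reach.step (s := gen .d) (gen_mem_GS (by decide)) r0_297 (gen_smul _ _ _ n0_327)
theorem r0_328 : Reach GB0 (Obj.mk o0_0) (Obj.mk o0_328) :=
  Reach.step (s := gen .h) (gen_mem_GS (by decide)) r0_299 (gen_smul _ _ _ n0_328)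
theorem r0_329 : Reach GB0 (Obj.mk o0_0) (Obj.mk o0_329) :=
  Reach.step (s := gen .d) (gen_mem_GS (by decide)) r0_300 (gen_smul _ _ _ n0_329)
theorem r0_330 : Reach GB0 (Obj.mk o0_0) (Obj.mk o0_330) :=
  Reach.step (s := gen .f) (gen_mem_GS (by decide)) r0_303 (gen_smul _ _ _ n0_330)
theorem r0_331 : Reach GB0 (Obj.mk o0_0) (Obj.mk o0_331) :=
  Reach.step (s := gen .h) (gen_mem_GS (by decide)) r0_304 (gen_smul _ _ _ n0_331)
theorem r0_332 : Reach GB0 (Obj.mk o0_0) (Obj.mk o0_332) :=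
  Reach.step (s := gen .d) (gen_mem_GS (by decide)) r0_305 (gen_smul _ _ _ n0_332)
theorem r0_333 : Reach GB0 (Obj.mk o0_0) (Obj.mk o0_333) :=
  Reach.step (s := gen .g) (gen_mem_GS (by decide)) r0_309 (gen_smul _ _ _ n0_333)
theorem r0_334 : Reach GB0 (Obj.mk o0_0) (Obj.mk o0_334) :=
  Reach.step (s := gen .f) (gen_mem_GS (by decide)) r0_310 (gen_smul _ _ _ n0_334)
theorem r0_335 : Reach GB0 (Obj.mk o0_0) (Obj.mk o0_335) :=
  Reach.step (s := gen .h) (gen_mem_GS (by decide)) r0_310 (gen_smul _ _ _ n0_335)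
theorem r0_336 : Reach GB0 (Obj.mk o0_0) (Obj.mk o0_336) :=
  Reach.step (s := gen .d) (gen_mem_GS (by decide)) r0_312 (gen_smul _ _ _ n0_336)
theorem r0_337 : Reach GB0 (Obj.mk o0_0) (Obj.mk o0_337) :=
  Reach.step (s := gen .h) (gen_mem_GS (by decide)) r0_315 (gen_smul _ _ _ n0_337)
theorem r0_338 : Reach GB0 (Obj.mk o0_0) (Obj.mk o0_338) :=
  Reach.step (s := gen .d) (gen_mem_GS (by decide)) r0_316 (gen_smul _ _ _ n0_338)
theorem r0_339 : Reach GB0 (Obj.mk o0_0) (Obj.mk o0_339) :=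
  Reach.step (s := gen .d) (gen_mem_GS (by decide)) r0_318 (gen_smul _ _ _ n0_339)
theorem r0_340 : Reach GB0 (Obj.mk o0_0) (Obj.mk o0_340) :=
  Reach.step (s := gen .c) (gen_mem_GS (by decide)) r0_319 (gen_smul _ _ _ n0_340)
theorem r0_341 : Reach GB0 (Obj.mk o0_0) (Obj.mk o0_341) :=
  Reach.step (s := gen .f) (gen_mem_GS (by decide)) r0_321 (gen_smul _ _ _ n0_341)
theorem r0_342 : Reach GB0 (Obj.mk o0_0) (Obj.mk o0_342) :=
  Reach.step (s := gen .g) (gen_mem_GS (by decide)) r0_323 (gen_smul _ _ _ n0_342)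
theorem r0_343 : Reach GB0 (Obj.mk o0_0) (Obj.mk o0_343) :=
  Reach.step (s := gen .f) (gen_mem_GS (by decide)) r0_324 (gen_smul _ _ _ n0_343)
theorem r0_344 : Reach GB0 (Obj.mk o0_0) (Obj.mk o0_344) :=
  Reach.step (s := gen .h) (gen_mem_GS (by decide)) r0_325 (gen_smul _ _ _ n0_344)
theorem r0_345 : Reach GB0 (Obj.mk o0_0) (Obj.mk o0_345) :=
  Reach.step (s := gen .d) (gen_mem_GS (by decide)) r0_326 (gen_smul _ _ _ n0_345)
theorem r0_346 : Reach GB0 (Obj.mk o0_0) (Obj.mk o0_346) :=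
  Reach.step (s := gen .d) (gen_mem_GS (by decide)) r0_328 (gen_smul _ _ _ n0_346)
theorem r0_347 : Reach GB0 (Obj.mk o0_0) (Obj.mk o0_347) :=
  Reach.step (s := gen .d) (gen_mem_GS (by decide)) r0_331 (gen_smul _ _ _ n0_347)
theorem r0_348 : Reach GB0 (Obj.mk o0_0) (Obj.mk o0_348) :=
  Reach.step (s := gen .f) (gen_mem_GS (by decide)) r0_333 (gen_smul _ _ _ n0_348)
theorem r0_349 : Reach GB0 (Obj.mk o0_0) (Obj.mk o0_349) :=
  Reach.step (s := gen .h) (gen_mem_GS (by decide)) r0_334 (gen_smul _ _ _ n0_349)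
theorem r0_350 : Reach GB0 (Obj.mk o0_0) (Obj.mk o0_350) :=
  Reach.step (s := gen .d) (gen_mem_GS (by decide)) r0_337 (gen_smul _ _ _ n0_350)
theorem r0_351 : Reach GB0 (Obj.mk o0_0) (Obj.mk o0_351) :=
  Reach.step (s := gen .c) (gen_mem_GS (by decide)) r0_339 (gen_smul _ _ _ n0_351)
theorem r0_352 : Reach GB0 (Obj.mk o0_0) (Obj.mk o0_352) :=
  Reach.step (s := gen .e) (gen_mem_GS (by decide)) r0_339 (gen_smul _ _ _ n0_352)
theorem r0_353 : Reach GB0 (Obj.mk o0_0) (Obj.mk o0_353) :=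
  Reach.step (s := gen .e) (gen_mem_GS (by decide)) r0_341 (gen_smul _ _ _ n0_353)
theorem r0_354 : Reach GB0 (Obj.mk o0_0) (Obj.mk o0_354) :=
  Reach.step (s := gen .f) (gen_mem_GS (by decide)) r0_342 (gen_smul _ _ _ n0_354)
theorem r0_355 : Reach GB0 (Obj.mk o0_0) (Obj.mk o0_355) :=
  Reach.step (s := gen .d) (gen_mem_GS (by decide)) r0_344 (gen_smul _ _ _ n0_355)
theorem r0_356 : Reach GB0 (Obj.mk o0_0) (Obj.mk o0_356) :=
  Reach.step (s := gen .e) (gen_mem_GS (by decide)) r0_346 (gen_smul _ _ _ n0_356)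
theorem r0_357 : Reach GB0 (Obj.mk o0_0) (Obj.mk o0_357) :=
  Reach.step (s := gen .e) (gen_mem_GS (by decide)) r0_347 (gen_smul _ _ _ n0_357)
theorem r0_358 : Reach GB0 (Obj.mk o0_0) (Obj.mk o0_358) :=
  Reach.step (s := gen .e) (gen_mem_GS (by decide)) r0_348 (gen_smul _ _ _ n0_358)
theorem r0_359 : Reach GB0 (Obj.mk o0_0) (Obj.mk o0_359) :=
  Reach.step (s := gen .e) (gen_mem_GS (by decide)) r0_350 (gen_smul _ _ _ n0_359)
theorem r0_360 : Reach GB0 (Obj.mk o0_0) (Obj.mk o0_360) :=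
  Reach.step (s := gen .e) (gen_mem_GS (by decide)) r0_351 (gen_smul _ _ _ n0_360)
theorem r0_361 : Reach GB0 (Obj.mk o0_0) (Obj.mk o0_361) :=
  Reach.step (s := gen .e) (gen_mem_GS (by decide)) r0_354 (gen_smul _ _ _ n0_361)
theorem r0_362 : Reach GB0 (Obj.mk o0_0) (Obj.mk o0_362) :=
  Reach.step (s := gen .e) (gen_mem_GS (by decide)) r0_355 (gen_smul _ _ _ n0_362)
theorem r0_363 : Reach GB0 (Obj.mk o0_0) (Obj.mk o0_363) :=
  Reach.step (s := gen .d) (gen_mem_GS (by decide)) r0_360 (gen_smul _ _ _ n0_363)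

def C0_0 : List Obj := [Obj.mk o0_0, Obj.mk o0_1, Obj.mk o0_2, Obj.mk o0_3, Obj.mk o0_4, Obj.mk o0_5, Obj.mk o0_6, Obj.mk o0_7, Obj.mk o0_8, Obj.mk o0_9, Obj.mk o0_10, Obj.mk o0_11, Obj.mk o0_12, Obj.mk o0_13, Obj.mk o0_14, Obj.mk o0_15, Obj.mk o0_16, Obj.mk o0_17, Obj.mk o0_18, Obj.mk o0_19]
theorem hC0_0 : ∀ y ∈ C0_0, Reach GB0 (Obj.mk o0_0) y := by
  unfold C0_0
  exact List.forall_mem_cons.2 ⟨r0_0, List.forall_mem_cons.2 ⟨r0_1, List.forall_mem_cons.2 ⟨r0_2, List.forall_mem_cons.2 ⟨r0_3, List.forall_mem_cons.2 ⟨r0_4, List.forall_mem_cons.2 ⟨r0_5, List.forall_mem_cons.2 ⟨r0_6, List.forall_mem_cons.2 ⟨r0_7, List.forall_mem_cons.2 ⟨r0_8, List.forall_mem_cons.2 ⟨r0_9, List.forall_mem_cons.2 ⟨r0_10, List.forall_mem_cons.2 ⟨r0_11, List.forall_mem_cons.2 ⟨r0_12, List.forall_mem_cons.2 ⟨r0_13, List.forall_mem_cons.2 ⟨r0_14, List.forall_mem_cons.2 ⟨r0_15, List.forall_mem_cons.2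 ⟨r0_16, List.forall_mem_cons.2 ⟨r0_17, List.forall_mem_cons.2 ⟨r0_18, List.forall_mem_cons.2 ⟨r0_19, forall_mem_nil' _⟩⟩⟩⟩⟩⟩⟩⟩⟩⟩⟩⟩⟩⟩⟩⟩⟩⟩⟩⟩

def C0_1 : List Obj := [Obj.mk o0_20, Obj.mk o0_21, Obj.mk o0_22, Obj.mk o0_23, Obj.mk o0_24, Obj.mk o0_25, Obj.mk o0_26, Obj.mk o0_27, Obj.mk o0_28, Obj.mk o0_29, Obj.mk o0_30, Obj.mk o0_31, Obj.mk o0_32, Obj.mk o0_33, Obj.mk o0_34, Obj.mk o0_35, Obj.mk o0_36, Obj.mk o0_37, Obj.mk o0_38, Obj.mk o0_39]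
theorem hC0_1 : ∀ y ∈ C0_1, Reach GB0 (Obj.mk o0_0) y := by
  unfold C0_1
  exact List.forall_mem_cons.2 ⟨r0_20, List.forall_mem_cons.2 ⟨r0_21, List.forall_mem_cons.2 ⟨r0_22, List.forall_mem_cons.2 ⟨r0_23, List.forall_mem_cons.2 ⟨r0_24, List.forall_mem_cons.2 ⟨r0_25, List.forall_mem_cons.2 ⟨r0_26, List.forall_mem_cons.2 ⟨r0_27, List.forall_mem_cons.2 ⟨r0_28, List.forall_mem_cons.2 ⟨r0_29, List.forall_mem_cons.2 ⟨r0_30, List.forall_mem_cons.2 ⟨r0_31, List.forall_mem_cons.2 ⟨r0_32, List.forall_mem_cons.2 ⟨r0_33, List.forall_mem_cons.2 ⟨r0_34, List.forall_mem_cons.2 ⟨r0_35, List.forall_mem_cons.2 ⟨r0_36, List.forall_mem_cons.2 ⟨r0_37, List.forall_mem_cons.2 ⟨r0_38, List.forall_mem_cons.2 ⟨r0_39, forall_mem_nil' _⟩⟩⟩⟩⟩⟩⟩⟩⟩⟩⟩⟩⟩⟩⟩⟩⟩⟩⟩⟩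

def C0_2 : List Obj := [Obj.mk o0_40, Obj.mk o0_41, Obj.mk o0_42, Obj.mk o0_43, Obj.mk o0_44, Obj.mk o0_45, Obj.mk o0_46, Obj.mk o0_47, Obj.mk o0_48, Obj.mk o0_49, Obj.mk o0_50, Obj.mk o0_51, Obj.mk o0_52, Obj.mk o0_53, Obj.mk o0_54, Obj.mk o0_55, Obj.mk o0_56, Obj.mk o0_57, Obj.mk o0_58, Obj.mk o0_59]
theorem hC0_2 : ∀ y ∈ C0_2, Reach GB0 (Obj.mk o0_0) y := by
  unfold C0_2
  exact List.forall_mem_cons.2 ⟨r0_40, List.forall_mem_cons.2 ⟨r0_41, List.forall_mem_cons.2 ⟨r0_42, List.forall_mem_cons.2 ⟨r0_43, List.forall_mem_cons.2 ⟨r0_44, List.forall_mem_cons.2 ⟨r0_45, List.forall_mem_cons.2 ⟨r0_46, List.forall_mem_cons.2 ⟨r0_47, List.forall_mem_cons.2 ⟨r0_48, List.forall_mem_cons.2 ⟨r0_49, List.forall_mem_cons.2 ⟨r0_50, List.forall_mem_cons.2 ⟨r0_51, List.forall_mem_cons.2 ⟨r0_52, List.forall_mem_cons.2 ⟨r0_53, List.forall_mem_cons.2 ⟨r0_54, List.forall_mem_cons.2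 ⟨r0_55, List.forall_mem_cons.2 ⟨r0_56, List.forall_mem_cons.2 ⟨r0_57, List.forall_mem_cons.2 ⟨r0_58, List.forall_mem_cons.2 ⟨r0_59, forall_mem_nil' _⟩⟩⟩⟩⟩⟩⟩⟩⟩⟩⟩⟩⟩⟩⟩⟩⟩⟩⟩⟩

def C0_3 : List Obj := [Obj.mk o0_60, Obj.mk o0_61, Obj.mk o0_62, Obj.mk o0_63, Obj.mk o0_64, Obj.mk o0_65, Obj.mk o0_66, Obj.mk o0_67, Obj.mk o0_68, Obj.mk o0_69, Obj.mk o0_70, Obj.mk o0_71, Obj.mk o0_72, Obj.mk o0_73, Obj.mk o0_74, Obj.mk o0_75, Obj.mk o0_76, Obj.mk o0_77, Obj.mk o0_78, Obj.mk o0_79]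
theorem hC0_3 : ∀ y ∈ C0_3, Reach GB0 (Obj.mk o0_0) y := by
  unfold C0_3
  exact List.forall_mem_cons.2 ⟨r0_60, List.forall_mem_cons.2 ⟨r0_61, List.forall_mem_cons.2 ⟨r0_62, List.forall_mem_cons.2 ⟨r0_63, List.forall_mem_cons.2 ⟨r0_64, List.forall_mem_cons.2 ⟨r0_65, List.forall_mem_cons.2 ⟨r0_66, List.forall_mem_cons.2 ⟨r0_67, List.forall_mem_cons.2 ⟨r0_68, List.forall_mem_cons.2 ⟨r0_69, List.forall_mem_cons.2 ⟨r0_70, List.forall_mem_cons.2 ⟨r0_71, List.forall_mem_cons.2 ⟨r0_72, List.forall_mem_cons.2 ⟨r0_73, List.forall_mem_cons.2 ⟨r0_74, List.forall_mem_cons.2 ⟨r0_75, List.forall_mem_cons.2 ⟨r0_76, List.forall_mem_cons.2 ⟨r0_77, List.forall_mem_cons.2 ⟨r0_78, List.forall_mem_cons.2 ⟨r0_79, forall_mem_nil' _⟩⟩⟩⟩⟩⟩⟩⟩⟩⟩⟩⟩⟩⟩⟩⟩⟩⟩⟩⟩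

def C0_4 : List Obj := [Obj.mk o0_80, Obj.mk o0_81, Obj.mk o0_82, Obj.mk o0_83, Obj.mk o0_84, Obj.mk o0_85, Obj.mk o0_86, Obj.mk o0_87, Obj.mk o0_88, Obj.mk o0_89, Obj.mk o0_90, Obj.mk o0_91, Obj.mk o0_92, Obj.mk o0_93, Obj.mk o0_94, Obj.mk o0_95, Obj.mk o0_96, Obj.mk o0_97, Obj.mk o0_98, Obj.mk o0_99]
theorem hC0_4 : ∀ y ∈ C0_4, Reach GB0 (Obj.mk o0_0) y := by
  unfold C0_4
  exact List.forall_mem_cons.2 ⟨r0_80, List.forall_mem_cons.2 ⟨r0_81, List.forall_mem_cons.2 ⟨r0_82, List.forall_mem_cons.2 ⟨r0_83, List.forall_mem_cons.2 ⟨r0_84, List.forall_mem_cons.2 ⟨r0_85, List.forall_mem_cons.2 ⟨r0_86, List.forall_mem_cons.2 ⟨r0_87, List.forall_mem_cons.2 ⟨r0_88, List.forall_mem_cons.2 ⟨r0_89, List.forall_mem_cons.2 ⟨r0_90, List.forall_mem_cons.2 ⟨r0_91, List.forall_mem_cons.2 ⟨r0_92, List.forall_mem_cons.2 ⟨r0_93, List.forall_mem_cons.2 ⟨r0_94, List.forall_mem_cons.2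 ⟨r0_95, List.forall_mem_cons.2 ⟨r0_96, List.forall_mem_cons.2 ⟨r0_97, List.forall_mem_cons.2 ⟨r0_98, List.forall_mem_cons.2 ⟨r0_99, forall_mem_nil' _⟩⟩⟩⟩⟩⟩⟩⟩⟩⟩⟩⟩⟩⟩⟩⟩⟩⟩⟩⟩

def C0_5 : List Obj := [Obj.mk o0_100, Obj.mk o0_101, Obj.mk o0_102, Obj.mk o0_103, Obj.mk o0_104, Obj.mk o0_105, Obj.mk o0_106, Obj.mk o0_107, Obj.mk o0_108, Obj.mk o0_109, Obj.mk o0_110, Obj.mk o0_111, Obj.mk o0_112, Obj.mk o0_113, Obj.mk o0_114, Obj.mk o0_115, Obj.mk o0_116, Obj.mk o0_117, Obj.mk o0_118, Obj.mk o0_119]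
theorem hC0_5 : ∀ y ∈ C0_5, Reach GB0 (Obj.mk o0_0) y := by
  unfold C0_5
  exact List.forall_mem_cons.2 ⟨r0_100, List.forall_mem_cons.2 ⟨r0_101, List.forall_mem_cons.2 ⟨r0_102, List.forall_mem_cons.2 ⟨r0_103, List.forall_mem_cons.2 ⟨r0_104, List.forall_mem_cons.2 ⟨r0_105, List.forall_mem_cons.2 ⟨r0_106, List.forall_mem_cons.2 ⟨r0_107, List.forall_mem_cons.2 ⟨r0_108, List.forall_mem_cons.2 ⟨r0_109, List.forall_mem_cons.2 ⟨r0_110, List.forall_mem_cons.2 ⟨r0_111, List.forall_mem_cons.2 ⟨r0_112, List.forall_mem_cons.2 ⟨r0_113, List.forall_mem_cons.2 ⟨r0_114, List.forall_mem_cons.2 ⟨r0_115, List.forall_mem_cons.2 ⟨r0_116, List.forall_mem_cons.2 ⟨r0_117, List.forall_mem_cons.2 ⟨r0_118, List.forall_mem_cons.2 ⟨r0_119, forall_mem_nil' _⟩⟩⟩⟩⟩⟩⟩⟩⟩⟩⟩⟩⟩⟩⟩⟩⟩⟩⟩⟩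

def C0_6 : List Obj := [Obj.mk o0_120, Obj.mk o0_121, Obj.mk o0_122, Obj.mk o0_123, Obj.mk o0_124, Obj.mk o0_125, Obj.mk o0_126, Obj.mk o0_127, Obj.mk o0_128, Obj.mk o0_129, Obj.mk o0_130, Obj.mk o0_131, Obj.mk o0_132, Obj.mk o0_133, Obj.mk o0_134, Obj.mk o0_135, Obj.mk o0_136, Obj.mk o0_137, Obj.mk o0_138, Obj.mk o0_139]
theorem hC0_6 : ∀ y ∈ C0_6, Reach GB0 (Obj.mk o0_0) y := by
  unfold C0_6
  exact List.forall_mem_cons.2 ⟨r0_120, List.forall_mem_cons.2 ⟨r0_121, List.forall_mem_cons.2 ⟨r0_122, List.forall_mem_cons.2 ⟨r0_123, List.forall_mem_cons.2 ⟨r0_124, List.forall_mem_cons.2 ⟨r0_125, List.forall_mem_cons.2 ⟨r0_126, List.forall_mem_cons.2 ⟨r0_127, List.forall_mem_cons.2 ⟨r0_128, List.forall_mem_cons.2 ⟨r0_129, List.forall_mem_cons.2 ⟨r0_130, List.forall_mem_cons.2 ⟨r0_131, List.forall_mem_cons.2 ⟨r0_132, List.forall_mem_cons.2 ⟨r0_133, List.forall_mem_cons.2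 ⟨r0_134, List.forall_mem_cons.2 ⟨r0_135, List.forall_mem_cons.2 ⟨r0_136, List.forall_mem_cons.2 ⟨r0_137, List.forall_mem_cons.2 ⟨r0_138, List.forall_mem_cons.2 ⟨r0_139, forall_mem_nil' _⟩⟩⟩⟩⟩⟩⟩⟩⟩⟩⟩⟩⟩⟩⟩⟩⟩⟩⟩⟩

def C0_7 : List Obj := [Obj.mk o0_140, Obj.mk o0_141, Obj.mk o0_142, Obj.mk o0_143, Obj.mk o0_144, Obj.mk o0_145, Obj.mk o0_146, Obj.mk o0_147, Obj.mk o0_148, Obj.mk o0_149, Obj.mk o0_150, Obj.mk o0_151, Obj.mk o0_152, Obj.mk o0_153, Obj.mk o0_154, Obj.mk o0_155, Obj.mk o0_156, Obj.mk o0_157, Obj.mk o0_158, Obj.mk o0_159]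
theorem hC0_7 : ∀ y ∈ C0_7, Reach GB0 (Obj.mk o0_0) y := by
  unfold C0_7
  exact List.forall_mem_cons.2 ⟨r0_140, List.forall_mem_cons.2 ⟨r0_141, List.forall_mem_cons.2 ⟨r0_142, List.forall_mem_cons.2 ⟨r0_143, List.forall_mem_cons.2 ⟨r0_144, List.forall_mem_cons.2 ⟨r0_145, List.forall_mem_cons.2 ⟨r0_146, List.forall_mem_cons.2 ⟨r0_147, List.forall_mem_cons.2 ⟨r0_148, List.forall_mem_cons.2 ⟨r0_149, List.forall_mem_cons.2 ⟨r0_150, List.forall_mem_cons.2 ⟨r0_151, List.forall_mem_cons.2 ⟨r0_152, List.forall_mem_cons.2 ⟨r0_153, List.forall_mem_cons.2 ⟨r0_154, List.forall_mem_cons.2 ⟨r0_155, List.forall_mem_cons.2 ⟨r0_156, List.forall_mem_cons.2 ⟨r0_157, List.forall_mem_cons.2 ⟨r0_158, List.forall_mem_cons.2 ⟨r0_159, forall_mem_nil' _⟩⟩⟩⟩⟩⟩⟩⟩⟩⟩⟩⟩⟩⟩⟩⟩⟩⟩⟩⟩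

def C0_8 : List Obj := [Obj.mk o0_160, Obj.mk o0_161, Obj.mk o0_162, Obj.mk o0_163, Obj.mk o0_164, Obj.mk o0_165, Obj.mk o0_166, Obj.mk o0_167, Obj.mk o0_168, Obj.mk o0_169, Obj.mk o0_170, Obj.mk o0_171, Obj.mk o0_172, Obj.mk o0_173, Obj.mk o0_174, Obj.mk o0_175, Obj.mk o0_176, Obj.mk o0_177, Obj.mk o0_178, Obj.mk o0_179]
theorem hC0_8 : ∀ y ∈ C0_8, Reach GB0 (Obj.mk o0_0) y := by
  unfold C0_8
  exact List.forall_mem_cons.2 ⟨r0_160, List.forall_mem_cons.2 ⟨r0_161, List.forall_mem_cons.2 ⟨r0_162, List.forall_mem_cons.2 ⟨r0_163, List.forall_mem_cons.2 ⟨r0_164, List.forall_mem_cons.2 ⟨r0_165, List.forall_mem_cons.2 ⟨r0_166, List.forall_mem_cons.2 ⟨r0_167, List.forall_mem_cons.2 ⟨r0_168, List.forall_mem_cons.2 ⟨r0_169, List.forall_mem_cons.2 ⟨r0_170, List.forall_mem_cons.2 ⟨r0_171, List.forall_mem_cons.2 ⟨r0_172, List.forall_mem_cons.2 ⟨r0_173, List.forall_mem_cons.2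 ⟨r0_174, List.forall_mem_cons.2 ⟨r0_175, List.forall_mem_cons.2 ⟨r0_176, List.forall_mem_cons.2 ⟨r0_177, List.forall_mem_cons.2 ⟨r0_178, List.forall_mem_cons.2 ⟨r0_179, forall_mem_nil' _⟩⟩⟩⟩⟩⟩⟩⟩⟩⟩⟩⟩⟩⟩⟩⟩⟩⟩⟩⟩

def C0_9 : List Obj := [Obj.mk o0_180, Obj.mk o0_181, Obj.mk o0_182, Obj.mk o0_183, Obj.mk o0_184, Obj.mk o0_185, Obj.mk o0_186, Obj.mk o0_187, Obj.mk o0_188, Obj.mk o0_189, Obj.mk o0_190, Obj.mk o0_191, Obj.mk o0_192, Obj.mk o0_193, Obj.mk o0_194, Obj.mk o0_195, Obj.mk o0_196, Obj.mk o0_197, Obj.mk o0_198, Obj.mk o0_199]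
theorem hC0_9 : ∀ y ∈ C0_9, Reach GB0 (Obj.mk o0_0) y := by
  unfold C0_9
  exact List.forall_mem_cons.2 ⟨r0_180, List.forall_mem_cons.2 ⟨r0_181, List.forall_mem_cons.2 ⟨r0_182, List.forall_mem_cons.2 ⟨r0_183, List.forall_mem_cons.2 ⟨r0_184, List.forall_mem_cons.2 ⟨r0_185, List.forall_mem_cons.2 ⟨r0_186, List.forall_mem_cons.2 ⟨r0_187, List.forall_mem_cons.2 ⟨r0_188, List.forall_mem_cons.2 ⟨r0_189, List.forall_mem_cons.2 ⟨r0_190, List.forall_mem_cons.2 ⟨r0_191, List.forall_mem_cons.2 ⟨r0_192, List.forall_mem_cons.2 ⟨r0_193, List.forall_mem_cons.2 ⟨r0_194, List.forall_mem_cons.2 ⟨r0_195, List.forall_mem_cons.2 ⟨r0_196, List.forall_mem_cons.2 ⟨r0_197, List.forall_mem_cons.2 ⟨r0_198, List.forall_mem_cons.2 ⟨r0_199, forall_mem_nil' _⟩⟩⟩⟩⟩⟩⟩⟩⟩⟩⟩⟩⟩⟩⟩⟩⟩⟩⟩⟩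

def C0_10 : List Obj := [Obj.mk o0_200, Obj.mk o0_201, Obj.mk o0_202, Obj.mk o0_203, Obj.mk o0_204, Obj.mk o0_205, Obj.mk o0_206, Obj.mk o0_207, Obj.mk o0_208, Obj.mk o0_209, Obj.mk o0_210, Obj.mk o0_211, Obj.mk o0_212, Obj.mk o0_213, Obj.mk o0_214, Obj.mk o0_215, Obj.mk o0_216, Obj.mk o0_217, Obj.mk o0_218, Obj.mk o0_219]
theorem hC0_10 : ∀ y ∈ C0_10, Reach GB0 (Obj.mk o0_0) y := by
  unfold C0_10
  exact List.forall_mem_cons.2 ⟨r0_200, List.forall_mem_cons.2 ⟨r0_201, List.forall_mem_cons.2 ⟨r0_202, List.forall_mem_cons.2 ⟨r0_203, List.forall_mem_cons.2 ⟨r0_204, List.forall_mem_cons.2 ⟨r0_205, List.forall_mem_cons.2 ⟨r0_206, List.forall_mem_cons.2 ⟨r0_207, List.forall_mem_cons.2 ⟨r0_208, List.forall_mem_cons.2 ⟨r0_209, List.forall_mem_cons.2 ⟨r0_210, List.forall_mem_cons.2 ⟨r0_211, List.forall_mem_cons.2 ⟨r0_212, List.forall_mem_cons.2 ⟨r0_213, List.forall_mem_cons.2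 ⟨r0_214, List.forall_mem_cons.2 ⟨r0_215, List.forall_mem_cons.2 ⟨r0_216, List.forall_mem_cons.2 ⟨r0_217, List.forall_mem_cons.2 ⟨r0_218, List.forall_mem_cons.2 ⟨r0_219, forall_mem_nil' _⟩⟩⟩⟩⟩⟩⟩⟩⟩⟩⟩⟩⟩⟩⟩⟩⟩⟩⟩⟩

def C0_11 : List Obj := [Obj.mk o0_220, Obj.mk o0_221, Obj.mk o0_222, Obj.mk o0_223, Obj.mk o0_224, Obj.mk o0_225, Obj.mk o0_226, Obj.mk o0_227, Obj.mk o0_228, Obj.mk o0_229, Obj.mk o0_230, Obj.mk o0_231, Obj.mk o0_232, Obj.mk o0_233, Obj.mk o0_234, Obj.mk o0_235, Obj.mk o0_236, Obj.mk o0_237, Obj.mk o0_238, Obj.mk o0_239]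
theorem hC0_11 : ∀ y ∈ C0_11, Reach GB0 (Obj.mk o0_0) y := by
  unfold C0_11
  exact List.forall_mem_cons.2 ⟨r0_220, List.forall_mem_cons.2 ⟨r0_221, List.forall_mem_cons.2 ⟨r0_222, List.forall_mem_cons.2 ⟨r0_223, List.forall_mem_cons.2 ⟨r0_224, List.forall_mem_cons.2 ⟨r0_225, List.forall_mem_cons.2 ⟨r0_226, List.forall_mem_cons.2 ⟨r0_227, List.forall_mem_cons.2 ⟨r0_228, List.forall_mem_cons.2 ⟨r0_229, List.forall_mem_cons.2 ⟨r0_230, List.forall_mem_cons.2 ⟨r0_231, List.forall_mem_cons.2 ⟨r0_232, List.forall_mem_cons.2 ⟨r0_233, List.forall_mem_cons.2 ⟨r0_234, List.forall_mem_cons.2 ⟨r0_235, List.forall_mem_cons.2 ⟨r0_236, List.forall_mem_cons.2 ⟨r0_237, List.forall_mem_cons.2 ⟨r0_238, List.forall_mem_cons.2 ⟨r0_239, forall_mem_nil' _⟩⟩⟩⟩⟩⟩⟩⟩⟩⟩⟩⟩⟩⟩⟩⟩⟩⟩⟩⟩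

def C0_12 : List Obj := [Obj.mk o0_240, Obj.mk o0_241, Obj.mk o0_242, Obj.mk o0_243, Obj.mk o0_244, Obj.mk o0_245, Obj.mk o0_246, Obj.mk o0_247, Obj.mk o0_248, Obj.mk o0_249, Obj.mk o0_250, Obj.mk o0_251, Obj.mk o0_252, Obj.mk o0_253, Obj.mk o0_254, Obj.mk o0_255, Obj.mk o0_256, Obj.mk o0_257, Obj.mk o0_258, Obj.mk o0_259]
theorem hC0_12 : ∀ y ∈ C0_12, Reach GB0 (Obj.mk o0_0) y := by
  unfold C0_12
  exact List.forall_mem_cons.2 ⟨r0_240, List.forall_mem_cons.2 ⟨r0_241, List.forall_mem_cons.2 ⟨r0_242, List.forall_mem_cons.2 ⟨r0_243, List.forall_mem_cons.2 ⟨r0_244, List.forall_mem_cons.2 ⟨r0_245, List.forall_mem_cons.2 ⟨r0_246, List.forall_mem_cons.2 ⟨r0_247, List.forall_mem_cons.2 ⟨r0_248, List.forall_mem_cons.2 ⟨r0_249, List.forall_mem_cons.2 ⟨r0_250, List.forall_mem_cons.2 ⟨r0_251, List.forall_mem_cons.2 ⟨r0_252, List.forall_mem_cons.2 ⟨r0_253, List.forall_mem_cons.2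 ⟨r0_254, List.forall_mem_cons.2 ⟨r0_255, List.forall_mem_cons.2 ⟨r0_256, List.forall_mem_cons.2 ⟨r0_257, List.forall_mem_cons.2 ⟨r0_258, List.forall_mem_cons.2 ⟨r0_259, forall_mem_nil' _⟩⟩⟩⟩⟩⟩⟩⟩⟩⟩⟩⟩⟩⟩⟩⟩⟩⟩⟩⟩

def C0_13 : List Obj := [Obj.mk o0_260, Obj.mk o0_261, Obj.mk o0_262, Obj.mk o0_263, Obj.mk o0_264, Obj.mk o0_265, Obj.mk o0_266, Obj.mk o0_267, Obj.mk o0_268, Obj.mk o0_269, Obj.mk o0_270, Obj.mk o0_271, Obj.mk o0_272, Obj.mk o0_273, Obj.mk o0_274, Obj.mk o0_275, Obj.mk o0_276, Obj.mk o0_277, Obj.mk o0_278, Obj.mk o0_279]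
theorem hC0_13 : ∀ y ∈ C0_13, Reach GB0 (Obj.mk o0_0) y := by
  unfold C0_13
  exact List.forall_mem_cons.2 ⟨r0_260, List.forall_mem_cons.2 ⟨r0_261, List.forall_mem_cons.2 ⟨r0_262, List.forall_mem_cons.2 ⟨r0_263, List.forall_mem_cons.2 ⟨r0_264, List.forall_mem_cons.2 ⟨r0_265, List.forall_mem_cons.2 ⟨r0_266, List.forall_mem_cons.2 ⟨r0_267, List.forall_mem_cons.2 ⟨r0_268, List.forall_mem_cons.2 ⟨r0_269, List.forall_mem_cons.2 ⟨r0_270, List.forall_mem_cons.2 ⟨r0_271, List.forall_mem_cons.2 ⟨r0_272, List.forall_mem_cons.2 ⟨r0_273, List.forall_mem_cons.2 ⟨r0_274, List.forall_mem_cons.2 ⟨r0_275, List.forall_mem_cons.2 ⟨r0_276, List.forall_mem_cons.2 ⟨r0_277, List.forall_mem_cons.2 ⟨r0_278, List.forall_mem_cons.2 ⟨r0_279, forall_mem_nil' _⟩⟩⟩⟩⟩⟩⟩⟩⟩⟩⟩⟩⟩⟩⟩⟩⟩⟩⟩⟩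

def C0_14 : List Obj := [Obj.mk o0_280, Obj.mk o0_281, Obj.mk o0_282, Obj.mk o0_283, Obj.mk o0_284, Obj.mk o0_285, Obj.mk o0_286, Obj.mk o0_287, Obj.mk o0_288, Obj.mk o0_289, Obj.mk o0_290, Obj.mk o0_291, Obj.mk o0_292, Obj.mk o0_293, Obj.mk o0_294, Obj.mk o0_295, Obj.mk o0_296, Obj.mk o0_297, Obj.mk o0_298, Obj.mk o0_299]
theorem hC0_14 : ∀ y ∈ C0_14, Reach GB0 (Obj.mk o0_0) y := by
  unfold C0_14
  exact List.forall_mem_cons.2 ⟨r0_280, List.forall_mem_cons.2 ⟨r0_281, List.forall_mem_cons.2 ⟨r0_282, List.forall_mem_cons.2 ⟨r0_283, List.forall_mem_cons.2 ⟨r0_284, List.forall_mem_cons.2 ⟨r0_285, List.forall_mem_cons.2 ⟨r0_286, List.forall_mem_cons.2 ⟨r0_287, List.forall_mem_cons.2 ⟨r0_288, List.forall_mem_cons.2 ⟨r0_289, List.forall_mem_cons.2 ⟨r0_290, List.forall_mem_cons.2 ⟨r0_291, List.forall_mem_cons.2 ⟨r0_292, List.forall_mem_cons.2 ⟨r0_293, List.forall_mem_cons.2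 ⟨r0_294, List.forall_mem_cons.2 ⟨r0_295, List.forall_mem_cons.2 ⟨r0_296, List.forall_mem_cons.2 ⟨r0_297, List.forall_mem_cons.2 ⟨r0_298, List.forall_mem_cons.2 ⟨r0_299, forall_mem_nil' _⟩⟩⟩⟩⟩⟩⟩⟩⟩⟩⟩⟩⟩⟩⟩⟩⟩⟩⟩⟩

def C0_15 : List Obj := [Obj.mk o0_300, Obj.mk o0_301, Obj.mk o0_302, Obj.mk o0_303, Obj.mk o0_304, Obj.mk o0_305, Obj.mk o0_306, Obj.mk o0_307, Obj.mk o0_308, Obj.mk o0_309, Obj.mk o0_310, Obj.mk o0_311, Obj.mk o0_312, Obj.mk o0_313, Obj.mk o0_314, Obj.mk o0_315, Obj.mk o0_316, Obj.mk o0_317, Obj.mk o0_318, Obj.mk o0_319]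
theorem hC0_15 : ∀ y ∈ C0_15, Reach GB0 (Obj.mk o0_0) y := by
  unfold C0_15
  exact List.forall_mem_cons.2 ⟨r0_300, List.forall_mem_cons.2 ⟨r0_301, List.forall_mem_cons.2 ⟨r0_302, List.forall_mem_cons.2 ⟨r0_303, List.forall_mem_cons.2 ⟨r0_304, List.forall_mem_cons.2 ⟨r0_305, List.forall_mem_cons.2 ⟨r0_306, List.forall_mem_cons.2 ⟨r0_307, List.forall_mem_cons.2 ⟨r0_308, List.forall_mem_cons.2 ⟨r0_309, List.forall_mem_cons.2 ⟨r0_310, List.forall_mem_cons.2 ⟨r0_311, List.forall_mem_cons.2 ⟨r0_312, List.forall_mem_cons.2 ⟨r0_313, List.forall_mem_cons.2 ⟨r0_314, List.forall_mem_cons.2 ⟨r0_315, List.forall_mem_cons.2 ⟨r0_316, List.forall_mem_cons.2 ⟨r0_317, List.forall_mem_cons.2 ⟨r0_318, List.forall_mem_cons.2 ⟨r0_319, forall_mem_nil' _⟩⟩⟩⟩⟩⟩⟩⟩⟩⟩⟩⟩⟩⟩⟩⟩⟩⟩⟩⟩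

def C0_16 : List Obj := [Obj.mk o0_320, Obj.mk o0_321, Obj.mk o0_322, Obj.mk o0_323, Obj.mk o0_324, Obj.mk o0_325, Obj.mk o0_326, Obj.mk o0_327, Obj.mk o0_328, Obj.mk o0_329, Obj.mk o0_330, Obj.mk o0_331, Obj.mk o0_332, Obj.mk o0_333, Obj.mk o0_334, Obj.mk o0_335, Obj.mk o0_336, Obj.mk o0_337, Obj.mk o0_338, Obj.mk o0_339]
theorem hC0_16 : ∀ y ∈ C0_16, Reach GB0 (Obj.mk o0_0) y := by
  unfold C0_16
  exact List.forall_mem_cons.2 ⟨r0_320, List.forall_mem_cons.2 ⟨r0_321, List.forall_mem_cons.2 ⟨r0_322, List.forall_mem_cons.2 ⟨r0_323, List.forall_mem_cons.2 ⟨r0_324, List.forall_mem_cons.2 ⟨r0_325, List.forall_mem_cons.2 ⟨r0_326, List.forall_mem_cons.2 ⟨r0_327, List.forall_mem_cons.2 ⟨r0_328, List.forall_mem_cons.2 ⟨r0_329, List.forall_mem_cons.2 ⟨r0_330, List.forall_mem_cons.2 ⟨r0_331, List.forall_mem_cons.2 ⟨r0_332, List.forall_mem_cons.2 ⟨r0_333, List.forall_mem_cons.2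 ⟨r0_334, List.forall_mem_cons.2 ⟨r0_335, List.forall_mem_cons.2 ⟨r0_336, List.forall_mem_cons.2 ⟨r0_337, List.forall_mem_cons.2 ⟨r0_338, List.forall_mem_cons.2 ⟨r0_339, forall_mem_nil' _⟩⟩⟩⟩⟩⟩⟩⟩⟩⟩⟩⟩⟩⟩⟩⟩⟩⟩⟩⟩

def C0_17 : List Obj := [Obj.mk o0_340, Obj.mk o0_341, Obj.mk o0_342, Obj.mk o0_343, Obj.mk o0_344, Obj.mk o0_345, Obj.mk o0_346, Obj.mk o0_347, Obj.mk o0_348, Obj.mk o0_349, Obj.mk o0_350, Obj.mk o0_351, Obj.mk o0_352, Obj.mk o0_353, Obj.mk o0_354, Obj.mk o0_355, Obj.mk o0_356, Obj.mk o0_357, Obj.mk o0_358, Obj.mk o0_359]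
theorem hC0_17 : ∀ y ∈ C0_17, Reach GB0 (Obj.mk o0_0) y := by
  unfold C0_17
  exact List.forall_mem_cons.2 ⟨r0_340, List.forall_mem_cons.2 ⟨r0_341, List.forall_mem_cons.2 ⟨r0_342, List.forall_mem_cons.2 ⟨r0_343, List.forall_mem_cons.2 ⟨r0_344, List.forall_mem_cons.2 ⟨r0_345, List.forall_mem_cons.2 ⟨r0_346, List.forall_mem_cons.2 ⟨r0_347, List.forall_mem_cons.2 ⟨r0_348, List.forall_mem_cons.2 ⟨r0_349, List.forall_mem_cons.2 ⟨r0_350, List.forall_mem_cons.2 ⟨r0_351, List.forall_mem_cons.2 ⟨r0_352, List.forall_mem_cons.2 ⟨r0_353, List.forall_mem_cons.2 ⟨r0_354, List.forall_mem_cons.2 ⟨r0_355, List.forall_mem_cons.2 ⟨r0_356, List.forall_mem_cons.2 ⟨r0_357, List.forall_mem_cons.2 ⟨r0_358, List.forall_mem_cons.2 ⟨r0_359, forall_mem_nil' _⟩⟩⟩⟩⟩⟩⟩⟩⟩⟩⟩⟩⟩⟩⟩⟩⟩⟩⟩⟩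

def C0_18 : List Obj := [Obj.mk o0_360, Obj.mk o0_361, Obj.mk o0_362, Obj.mk o0_363]
theorem hC0_18 : ∀ y ∈ C0_18, Reach GB0 (Obj.mk o0_0) y := by
  unfold C0_18
  exact List.forall_mem_cons.2 ⟨r0_360, List.forall_mem_cons.2 ⟨r0_361, List.forall_mem_cons.2 ⟨r0_362, List.forall_mem_cons.2 ⟨r0_363, forall_mem_nil' _⟩⟩⟩⟩

def LL0 : List Obj := C0_0 ++ C0_1 ++ C0_2 ++ C0_3 ++ C0_4 ++ C0_5 ++ C0_6 ++ C0_7 ++ C0_8 ++ C0_9 ++ C0_10 ++ C0_11 ++ C0_12 ++ C0_13 ++ C0_14 ++ C0_15 ++ C0_16 ++ C0_17 ++ C0_18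
theorem hLL0 : ∀ y ∈ LL0, Reach GB0 (Obj.mk o0_0) y := by
  unfold LL0
  exact List.forall_mem_append.2 ⟨List.forall_mem_append.2 ⟨List.forall_mem_append.2 ⟨List.forall_mem_append.2 ⟨List.forall_mem_append.2 ⟨List.forall_mem_append.2 ⟨List.forall_mem_append.2 ⟨List.forall_mem_append.2 ⟨List.forall_mem_append.2 ⟨List.forall_mem_append.2 ⟨List.forall_mem_append.2 ⟨List.forall_mem_append.2 ⟨List.forall_mem_append.2 ⟨List.forall_mem_append.2 ⟨List.forall_mem_append.2 ⟨List.forall_mem_append.2 ⟨List.forall_mem_append.2 ⟨List.forall_mem_append.2 ⟨hC0_0, hC0_1⟩, hC0_2⟩, hC0_3⟩, hC0_4⟩, hC0_5⟩, hC0_6⟩, hC0_7⟩, hC0_8⟩, hC0_9⟩, hC0_10⟩, hC0_11⟩, hC0_12⟩, hC0_13⟩, hC0_14⟩, hC0_15⟩, hC0_16⟩, hC0_17⟩, hC0_18⟩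
theorem len0 : LL0.length = 364 := by decide +kernel
theorem nodupKey0 : (LL0.map key).Nodup := by decide +kernel
theorem nodup0 : LL0.Nodup := List.Nodup.of_map key nodupKey0

theorem level0 : 364 * Nat.card (Subgroup.closure GK0) ≤ Nat.card (Subgroup.closure GB0) := by
  have h := card_ge_mul (Subgroup.closure GB0) (Subgroup.closure GK0) (Obj.mk o0_0) le0 fix0 LL0 nodup0 hLL0
  rwa [len0] at h

end Cfsg.Agent.Lead.O73
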