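import Cfsg.Agent.Lib.Lead.O73.Obj1

/-! # O73: orbit steps of level 1, part 1 -/

set_option autoImplicit false
set_option maxRecDepth 100000

namespace Cfsg.Agent.Lead.O73

open Cfsg.Spor.Fi22 (Gen)

theorem n1_91 : M .i * o1_63 * (M .i).transpose = o1_91 := by decide +kernel
theorem n1_92 : M .i * o1_64 * (M .i).transpose = o1_92 := by decide +kernel
theorem n1_93 : M .h * o1_65 * (M .h).transpose = o1_93 := by decide +kernel
theorem n1_94 : M .d * o1_66 * (M .d).transpose = o1_94 := by decide +kernel
theorem n1_95 : M .c * o1_67 * (M .c).transpose = o1_95 := by decide +kernel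
theorem n1_96 : M .e * o1_67 * (M .e).transpose = o1_96 := by decide +kernel
theorem n1_97 : M .d * o1_70 * (M .d).transpose = o1_97 := by decide +kernel
theorem n1_98 : M .c * o1_71 * (M .c).transpose = o1_98 := by decide +kernel
theorem n1_99 : M .e * o1_71 * (M .e).transpose = o1_99 := by decide +kernel
theorem n1_100 : M .b * o1_72 * (M .b).transpose = o1_100 := by decide +kernel
theorem n1_101 : M .e * o1_72 * (M .e).transpose = o1_101 := by decide +kernel
theorem n1_102 : M .f * o1_73 * (M .f).transpose = o1_102 := by decide +kernel
theorem n1_103 : M .b * o1_74 * (M .b).transpose = o1_103 := by decide +kernel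
theorem n1_104 : M .e * o1_74 * (M .e).transpose = o1_104 := by decide +kernel
theorem n1_105 : M .f * o1_75 * (M .f).transpose = o1_105 := by decide +kernel
theorem n1_106 : M .e * o1_76 * (M .e).transpose = o1_106 := by decide +kernel
theorem n1_107 : M .d * o1_77 * (M .d).transpose = o1_107 := by decide +kernel
theorem n1_108 : M .f * o1_77 * (M .f).transpose = o1_108 := by decide +kernel
theorem n1_109 : M .d * o1_79 * (M .d).transpose = o1_109 := by decide +kernel
theorem n1_110 : M .f * o1_79 * (M .f).transpose = o1_110 := by decide +kernel
theorem n1_111 : M .f * o1_80 * (M .f).transpose = o1_111 := by decide +kernel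
theorem n1_112 : M .h * o1_80 * (M .h).transpose = o1_112 := by decide +kernel
theorem n1_113 : M .f * o1_82 * (M .f).transpose = o1_113 := by decide +kernel
theorem n1_114 : M .e * o1_84 * (M .e).transpose = o1_114 := by decide +kernel
theorem n1_115 : M .h * o1_84 * (M .h).transpose = o1_115 := by decide +kernel
theorem n1_116 : M .e * o1_86 * (M .e).transpose = o1_116 := by decide +kernel
theorem n1_117 : M .h * o1_87 * (M .h).transpose = o1_117 := by decide +kernel
theorem n1_118 : M .e * o1_89 * (M .e).transpose = o1_118 := by decide +kernel
theorem n1_119 : M .d * o1_90 * (M .d).transpose = o1_119 := by decide +kernel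
theorem n1_120 : M .i * o1_90 * (M .i).transpose = o1_120 := by decide +kernel
theorem n1_121 : M .h * o1_92 * (M .h).transpose = o1_121 := by decide +kernel
theorem n1_122 : M .d * o1_93 * (M .d).transpose = o1_122 := by decide +kernel
theorem n1_123 : M .c * o1_94 * (M .c).transpose = o1_123 := by decide +kernel
theorem n1_124 : M .e * o1_94 * (M .e).transpose = o1_124 := by decide +kernel
theorem n1_125 : M .b * o1_95 * (M .b).transpose = o1_125 := by decide +kernel
theorem n1_126 : M .e * o1_95 * (M .e).transpose = o1_126 := by decide +kernel
theorem n1_127 : M .f * o1_96 * (M .f).transpose = o1_127 := by decide +kernel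
theorem n1_128 : M .e * o1_97 * (M .e).transpose = o1_128 := by decide +kernel
theorem n1_129 : M .e * o1_98 * (M .e).transpose = o1_129 := by decide +kernel
theorem n1_130 : M .f * o1_99 * (M .f).transpose = o1_130 := by decide +kernel
theorem n1_131 : M .e * o1_100 * (M .e).transpose = o1_131 := by decide +kernel
theorem n1_132 : M .d * o1_101 * (M .d).transpose = o1_132 := by decide +kernel
theorem n1_133 : M .f * o1_101 * (M .f).transpose = o1_133 := by decide +kernel
theorem n1_134 : M .e * o1_103 * (M .e).transpose = o1_134 := by decide +kernel
theorem n1_135 : M .d * o1_104 * (M .d).transpose = o1_135 := by decide +kernel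
theorem n1_136 : M .f * o1_104 * (M .f).transpose = o1_136 := by decide +kernel
theorem n1_137 : M .d * o1_106 * (M .d).transpose = o1_137 := by decide +kernel
theorem n1_138 : M .f * o1_106 * (M .f).transpose = o1_138 := by decide +kernel
theorem n1_139 : M .f * o1_107 * (M .f).transpose = o1_139 := by decide +kernel
theorem n1_140 : M .h * o1_107 * (M .h).transpose = o1_140 := by decide +kernel
theorem n1_141 : M .f * o1_109 * (M .f).transpose = o1_141 := by decide +kernel
theorem n1_142 : M .e * o1_111 * (M .e).transpose = o1_142 := by decide +kernel
theorem n1_143 : M .h * o1_111 * (M .h).transpose = o1_143 := by decide +kernel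
theorem n1_144 : M .e * o1_113 * (M .e).transpose = o1_144 := by decide +kernel
theorem n1_145 : M .h * o1_114 * (M .h).transpose = o1_145 := by decide +kernel
theorem n1_146 : M .d * o1_117 * (M .d).transpose = o1_146 := by decide +kernel
theorem n1_147 : M .d * o1_118 * (M .d).transpose = o1_147 := by decide +kernel
theorem n1_148 : M .h * o1_119 * (M .h).transpose = o1_148 := by decide +kernel
theorem n1_149 : M .i * o1_119 * (M .i).transpose = o1_149 := by decide +kernel
theorem n1_150 : M .d * o1_121 * (M .d).transpose = o1_150 := by decide +kernel
theorem n1_151 : M .e * o1_122 * (M .e).transpose = o1_151 := by decide +kernel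
theorem n1_152 : M .e * o1_123 * (M .e).transpose = o1_152 := by decide +kernel
theorem n1_153 : M .f * o1_124 * (M .f).transpose = o1_153 := by decide +kernel
theorem n1_154 : M .e * o1_125 * (M .e).transpose = o1_154 := by decide +kernel
theorem n1_155 : M .d * o1_126 * (M .d).transpose = o1_155 := by decide +kernel
theorem n1_156 : M .f * o1_126 * (M .f).transpose = o1_156 := by decide +kernel
theorem n1_157 : M .f * o1_128 * (M .f).transpose = o1_157 := by decide +kernel
theorem n1_158 : M .d * o1_129 * (M .d).transpose = o1_158 := by decide +kernel
theorem n1_159 : M .f * o1_129 * (M .f).transpose = o1_159 := by decide +kernel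
theorem n1_160 : M .d * o1_131 * (M .d).transpose = o1_160 := by decide +kernel
theorem n1_161 : M .f * o1_131 * (M .f).transpose = o1_161 := by decide +kernel
theorem n1_162 : M .f * o1_132 * (M .f).transpose = o1_162 := by decide +kernel
theorem n1_163 : M .h * o1_132 * (M .h).transpose = o1_163 := by decide +kernel
theorem n1_164 : M .d * o1_134 * (M .d).transpose = o1_164 := by decide +kernel
theorem n1_165 : M .f * o1_134 * (M .f).transpose = o1_165 := by decide +kernel
theorem n1_166 : M .f * o1_135 * (M .f).transpose = o1_166 := by decide +kernel
theorem n1_167 : M .h * o1_135 * (M .h).transpose = o1_167 := by decide +kernel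
theorem n1_168 : M .f * o1_137 * (M .f).transpose = o1_168 := by decide +kernel
theorem n1_169 : M .e * o1_139 * (M .e).transpose = o1_169 := by decide +kernel
theorem n1_170 : M .h * o1_139 * (M .h).transpose = o1_170 := by decide +kernel
theorem n1_171 : M .e * o1_141 * (M .e).transpose = o1_171 := by decide +kernel
theorem n1_172 : M .h * o1_142 * (M .h).transpose = o1_172 := by decide +kernel
theorem n1_173 : M .d * o1_145 * (M .d).transpose = o1_173 := by decide +kernel
theorem n1_174 : M .c * o1_146 * (M .c).transpose = o1_174 := by decide +kernel
theorem n1_175 : M .c * o1_147 * (M .c).transpose = o1_175 := by decide +kernel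
theorem n1_176 : M .h * o1_147 * (M .h).transpose = o1_176 := by decide +kernel
theorem n1_177 : M .e * o1_150 * (M .e).transpose = o1_177 := by decide +kernel
theorem n1_178 : M .f * o1_151 * (M .f).transpose = o1_178 := by decide +kernel
theorem n1_179 : M .d * o1_152 * (M .d).transpose = o1_179 := by decide +kernel
theorem n1_180 : M .f * o1_152 * (M .f).transpose = o1_180 := by decide +kernel

end Cfsg.Agent.Lead.O73
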