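import Cfsg.Agent.Lib.Lead.O73.Obj1

/-! # O73: orbit steps of level 1, part 2 -/

set_option autoImplicit false
set_option maxRecDepth 100000

namespace Cfsg.Agent.Lead.O73

open Cfsg.Spor.Fi22 (Gen)

theorem n1_181 : M .d * o1_154 * (M .d).transpose = o1_181 := by decide +kernel
theorem n1_182 : M .f * o1_154 * (M .f).transpose = o1_182 := by decide +kernel
theorem n1_183 : M .f * o1_155 * (M .f).transpose = o1_183 := by decide +kernel
theorem n1_184 : M .h * o1_155 * (M .h).transpose = o1_184 := by decide +kernel
theorem n1_185 : M .f * o1_158 * (M .f).transpose = o1_185 := by decide +kernel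
theorem n1_186 : M .c * o1_160 * (M .c).transpose = o1_186 := by decide +kernel
theorem n1_187 : M .f * o1_160 * (M .f).transpose = o1_187 := by decide +kernel
theorem n1_188 : M .h * o1_160 * (M .h).transpose = o1_188 := by decide +kernel
theorem n1_189 : M .e * o1_162 * (M .e).transpose = o1_189 := by decide +kernel
theorem n1_190 : M .h * o1_162 * (M .h).transpose = o1_190 := by decide +kernel
theorem n1_191 : M .f * o1_164 * (M .f).transpose = o1_191 := by decide +kernel
theorem n1_192 : M .e * o1_166 * (M .e).transpose = o1_192 := by decide +kernel
theorem n1_193 : M .h * o1_166 * (M .h).transpose = o1_193 := by decide +kernel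
theorem n1_194 : M .e * o1_168 * (M .e).transpose = o1_194 := by decide +kernel
theorem n1_195 : M .h * o1_169 * (M .h).transpose = o1_195 := by decide +kernel
theorem n1_196 : M .d * o1_172 * (M .d).transpose = o1_196 := by decide +kernel
theorem n1_197 : M .c * o1_173 * (M .c).transpose = o1_197 := by decide +kernel
theorem n1_198 : M .h * o1_175 * (M .h).transpose = o1_198 := by decide +kernel
theorem n1_199 : M .f * o1_177 * (M .f).transpose = o1_199 := by decide +kernel
theorem n1_200 : M .f * o1_179 * (M .f).transpose = o1_200 := by decide +kernel
theorem n1_201 : M .c * o1_181 * (M .c).transpose = o1_201 := by decide +kernel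
theorem n1_202 : M .f * o1_181 * (M .f).transpose = o1_202 := by decide +kernel
theorem n1_203 : M .h * o1_181 * (M .h).transpose = o1_203 := by decide +kernel
theorem n1_204 : M .e * o1_183 * (M .e).transpose = o1_204 := by decide +kernel
theorem n1_205 : M .h * o1_183 * (M .h).transpose = o1_205 := by decide +kernel
theorem n1_206 : M .e * o1_185 * (M .e).transpose = o1_206 := by decide +kernel
theorem n1_207 : M .f * o1_186 * (M .f).transpose = o1_207 := by decide +kernel
theorem n1_208 : M .e * o1_187 * (M .e).transpose = o1_208 := by decide +kernel
theorem n1_209 : M .h * o1_187 * (M .h).transpose = o1_209 := by decide +kernel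
theorem n1_210 : M .h * o1_189 * (M .h).transpose = o1_210 := by decide +kernel
theorem n1_211 : M .e * o1_191 * (M .e).transpose = o1_211 := by decide +kernel
theorem n1_212 : M .h * o1_192 * (M .h).transpose = o1_212 := by decide +kernel
theorem n1_213 : M .d * o1_195 * (M .d).transpose = o1_213 := by decide +kernel
theorem n1_214 : M .c * o1_196 * (M .c).transpose = o1_214 := by decide +kernel
theorem n1_215 : M .d * o1_198 * (M .d).transpose = o1_215 := by decide +kernel
theorem n1_216 : M .e * o1_200 * (M .e).transpose = o1_216 := by decide +kernel
theorem n1_217 : M .f * o1_201 * (M .f).transpose = o1_217 := by decide +kernel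
theorem n1_218 : M .h * o1_201 * (M .h).transpose = o1_218 := by decide +kernel
theorem n1_219 : M .e * o1_202 * (M .e).transpose = o1_219 := by decide +kernel
theorem n1_220 : M .h * o1_202 * (M .h).transpose = o1_220 := by decide +kernel
theorem n1_221 : M .h * o1_204 * (M .h).transpose = o1_221 := by decide +kernel
theorem n1_222 : M .e * o1_207 * (M .e).transpose = o1_222 := by decide +kernel
theorem n1_223 : M .h * o1_208 * (M .h).transpose = o1_223 := by decide +kernel
theorem n1_224 : M .d * o1_210 * (M .d).transpose = o1_224 := by decide +kernel
theorem n1_225 : M .d * o1_212 * (M .d).transpose = o1_225 := by decide +kernel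
theorem n1_226 : M .c * o1_213 * (M .c).transpose = o1_226 := by decide +kernel
theorem n1_227 : M .e * o1_215 * (M .e).transpose = o1_227 := by decide +kernel
theorem n1_228 : M .e * o1_217 * (M .e).transpose = o1_228 := by decide +kernel
theorem n1_229 : M .h * o1_217 * (M .h).transpose = o1_229 := by decide +kernel
theorem n1_230 : M .d * o1_218 * (M .d).transpose = o1_230 := by decide +kernel
theorem n1_231 : M .h * o1_219 * (M .h).transpose = o1_231 := by decide +kernel
theorem n1_232 : M .d * o1_221 * (M .d).transpose = o1_232 := by decide +kernel
theorem n1_233 : M .d * o1_222 * (M .d).transpose = o1_233 := by decide +kernel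
theorem n1_234 : M .d * o1_223 * (M .d).transpose = o1_234 := by decide +kernel
theorem n1_235 : M .c * o1_224 * (M .c).transpose = o1_235 := by decide +kernel
theorem n1_236 : M .f * o1_227 * (M .f).transpose = o1_236 := by decide +kernel
theorem n1_237 : M .d * o1_228 * (M .d).transpose = o1_237 := by decide +kernel
theorem n1_238 : M .h * o1_228 * (M .h).transpose = o1_238 := by decide +kernel
theorem n1_239 : M .d * o1_229 * (M .d).transpose = o1_239 := by decide +kernel
theorem n1_240 : M .e * o1_230 * (M .e).transpose = o1_240 := by decide +kernel
theorem n1_241 : M .d * o1_231 * (M .d).transpose = o1_241 := by decide +kernel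
theorem n1_242 : M .c * o1_232 * (M .c).transpose = o1_242 := by decide +kernel

end Cfsg.Agent.Lead.O73
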