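import Cfsg.Agent.Lib.Lead.O73.Node1_0
import Cfsg.Agent.Lib.Lead.O73.Node1_1
import Cfsg.Agent.Lib.Lead.O73.Node1_2

/-! # O73: level 1: the orbit of `o1_0` under `bcdefhi` has at least 243 elements, and `Bcdefh` fixes `o1_0` -/

set_option autoImplicit false
set_option maxRecDepth 100000

namespace Cfsg.Agent.Lead.O73

open Cfsg.Spor.Fi22 (Gen)

/-- generators of the group of level 1 -/
abbrev GB1 : Set GL7 := GS [.b, .c, .d, .e, .f, .h, .i] false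
/-- generators of the stabilising subgroup of level 1 -/
abbrev GK1 : Set GL7 := GS [.c, .d, .e, .f, .h] true

theorem le1 : Subgroup.closure GK1 ≤ Subgroup.closure GB1 :=
  closure_GS_le (by decide) (fun _ => gB_mem_closure (by decide))

theorem fixL1 : ∀ x ∈ ([.c, .d, .e, .f, .h] : List Gen), M x * o1_0 * (M x).transpose = o1_0 := by decide +kernel
theorem fixB1 : MB * o1_0 * MB.transpose = o1_0 := by decide +kernel
theorem fix1 : ∀ k ∈ Subgroup.closure GK1, k • Obj.mk o1_0 = Obj.mk o1_0 :=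
  closure_fix _ _ (GS_fix o1_0 fixL1 (fun _ => fixB1))

theorem r1_0 : Reach GB1 (Obj.mk o1_0) (Obj.mk o1_0) := Reach.refl _ _
theorem r1_1 : Reach GB1 (Obj.mk o1_0) (Obj.mk o1_1) :=
  Reach.step (s := gen .b) (gen_mem_GS (by decide)) r1_0 (gen_smul _ _ _ n1_1)
theorem r1_2 : Reach GB1 (Obj.mk o1_0) (Obj.mk o1_2) :=
  Reach.step (s := gen .i) (gen_mem_GS (by decide)) r1_0 (gen_smul _ _ _ n1_2)
theorem r1_3 : Reach GB1 (Obj.mk o1_0) (Obj.mk o1_3) :=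
  Reach.step (s := gen .c) (gen_mem_GS (by decide)) r1_1 (gen_smul _ _ _ n1_3)
theorem r1_4 : Reach GB1 (Obj.mk o1_0) (Obj.mk o1_4) :=
  Reach.step (s := gen .i) (gen_mem_GS (by decide)) r1_1 (gen_smul _ _ _ n1_4)
theorem r1_5 : Reach GB1 (Obj.mk o1_0) (Obj.mk o1_5) :=
  Reach.step (s := gen .h) (gen_mem_GS (by decide)) r1_2 (gen_smul _ _ _ n1_5)
theorem r1_6 : Reach GB1 (Obj.mk o1_0) (Obj.mk o1_6) :=
  Reach.step (s := gen .d) (gen_mem_GS (by decide)) r1_3 (gen_smul _ _ _ n1_6)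
theorem r1_7 : Reach GB1 (Obj.mk o1_0) (Obj.mk o1_7) :=
  Reach.step (s := gen .i) (gen_mem_GS (by decide)) r1_3 (gen_smul _ _ _ n1_7)
theorem r1_8 : Reach GB1 (Obj.mk o1_0) (Obj.mk o1_8) :=
  Reach.step (s := gen .h) (gen_mem_GS (by decide)) r1_4 (gen_smul _ _ _ n1_8)
theorem r1_9 : Reach GB1 (Obj.mk o1_0) (Obj.mk o1_9) :=
  Reach.step (s := gen .d) (gen_mem_GS (by decide)) r1_5 (gen_smul _ _ _ n1_9)
theorem r1_10 : Reach GB1 (Obj.mk o1_0) (Obj.mk o1_10) :=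
  Reach.step (s := gen .e) (gen_mem_GS (by decide)) r1_6 (gen_smul _ _ _ n1_10)
theorem r1_11 : Reach GB1 (Obj.mk o1_0) (Obj.mk o1_11) :=
  Reach.step (s := gen .h) (gen_mem_GS (by decide)) r1_6 (gen_smul _ _ _ n1_11)
theorem r1_12 : Reach GB1 (Obj.mk o1_0) (Obj.mk o1_12) :=
  Reach.step (s := gen .i) (gen_mem_GS (by decide)) r1_6 (gen_smul _ _ _ n1_12)
theorem r1_13 : Reach GB1 (Obj.mk o1_0) (Obj.mk o1_13) :=
  Reach.step (s := gen .h) (gen_mem_GS (by decide)) r1_7 (gen_smul _ _ _ n1_13)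
theorem r1_14 : Reach GB1 (Obj.mk o1_0) (Obj.mk o1_14) :=
  Reach.step (s := gen .d) (gen_mem_GS (by decide)) r1_8 (gen_smul _ _ _ n1_14)
theorem r1_15 : Reach GB1 (Obj.mk o1_0) (Obj.mk o1_15) :=
  Reach.step (s := gen .c) (gen_mem_GS (by decide)) r1_9 (gen_smul _ _ _ n1_15)
theorem r1_16 : Reach GB1 (Obj.mk o1_0) (Obj.mk o1_16) :=
  Reach.step (s := gen .e) (gen_mem_GS (by decide)) r1_9 (gen_smul _ _ _ n1_16)
theorem r1_17 : Reach GB1 (Obj.mk o1_0) (Obj.mk o1_17) :=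
  Reach.step (s := gen .f) (gen_mem_GS (by decide)) r1_10 (gen_smul _ _ _ n1_17)
theorem r1_18 : Reach GB1 (Obj.mk o1_0) (Obj.mk o1_18) :=
  Reach.step (s := gen .h) (gen_mem_GS (by decide)) r1_10 (gen_smul _ _ _ n1_18)
theorem r1_19 : Reach GB1 (Obj.mk o1_0) (Obj.mk o1_19) :=
  Reach.step (s := gen .i) (gen_mem_GS (by decide)) r1_10 (gen_smul _ _ _ n1_19)
theorem r1_20 : Reach GB1 (Obj.mk o1_0) (Obj.mk o1_20) :=
  Reach.step (s := gen .i) (gen_mem_GS (by decide)) r1_11 (gen_smul _ _ _ n1_20)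
theorem r1_21 : Reach GB1 (Obj.mk o1_0) (Obj.mk o1_21) :=
  Reach.step (s := gen .h) (gen_mem_GS (by decide)) r1_12 (gen_smul _ _ _ n1_21)
theorem r1_22 : Reach GB1 (Obj.mk o1_0) (Obj.mk o1_22) :=
  Reach.step (s := gen .d) (gen_mem_GS (by decide)) r1_13 (gen_smul _ _ _ n1_22)
theorem r1_23 : Reach GB1 (Obj.mk o1_0) (Obj.mk o1_23) :=
  Reach.step (s := gen .c) (gen_mem_GS (by decide)) r1_14 (gen_smul _ _ _ n1_23)
theorem r1_24 : Reach GB1 (Obj.mk o1_0) (Obj.mk o1_24) :=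
  Reach.step (s := gen .e) (gen_mem_GS (by decide)) r1_14 (gen_smul _ _ _ n1_24)
theorem r1_25 : Reach GB1 (Obj.mk o1_0) (Obj.mk o1_25) :=
  Reach.step (s := gen .b) (gen_mem_GS (by decide)) r1_15 (gen_smul _ _ _ n1_25)
theorem r1_26 : Reach GB1 (Obj.mk o1_0) (Obj.mk o1_26) :=
  Reach.step (s := gen .e) (gen_mem_GS (by decide)) r1_15 (gen_smul _ _ _ n1_26)
theorem r1_27 : Reach GB1 (Obj.mk o1_0) (Obj.mk o1_27) :=
  Reach.step (s := gen .f) (gen_mem_GS (by decide)) r1_16 (gen_smul _ _ _ n1_27)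
theorem r1_28 : Reach GB1 (Obj.mk o1_0) (Obj.mk o1_28) :=
  Reach.step (s := gen .h) (gen_mem_GS (by decide)) r1_17 (gen_smul _ _ _ n1_28)
theorem r1_29 : Reach GB1 (Obj.mk o1_0) (Obj.mk o1_29) :=
  Reach.step (s := gen .i) (gen_mem_GS (by decide)) r1_17 (gen_smul _ _ _ n1_29)
theorem r1_30 : Reach GB1 (Obj.mk o1_0) (Obj.mk o1_30) :=
  Reach.step (s := gen .d) (gen_mem_GS (by decide)) r1_18 (gen_smul _ _ _ n1_30)
theorem r1_31 : Reach GB1 (Obj.mk o1_0) (Obj.mk o1_31) :=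
  Reach.step (s := gen .i) (gen_mem_GS (by decide)) r1_18 (gen_smul _ _ _ n1_31)
theorem r1_32 : Reach GB1 (Obj.mk o1_0) (Obj.mk o1_32) :=
  Reach.step (s := gen .h) (gen_mem_GS (by decide)) r1_19 (gen_smul _ _ _ n1_32)
theorem r1_33 : Reach GB1 (Obj.mk o1_0) (Obj.mk o1_33) :=
  Reach.step (s := gen .h) (gen_mem_GS (by decide)) r1_20 (gen_smul _ _ _ n1_33)
theorem r1_34 : Reach GB1 (Obj.mk o1_0) (Obj.mk o1_34) :=
  Reach.step (s := gen .d) (gen_mem_GS (by decide)) r1_21 (gen_smul _ _ _ n1_34)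
theorem r1_35 : Reach GB1 (Obj.mk o1_0) (Obj.mk o1_35) :=
  Reach.step (s := gen .c) (gen_mem_GS (by decide)) r1_22 (gen_smul _ _ _ n1_35)
theorem r1_36 : Reach GB1 (Obj.mk o1_0) (Obj.mk o1_36) :=
  Reach.step (s := gen .e) (gen_mem_GS (by decide)) r1_22 (gen_smul _ _ _ n1_36)
theorem r1_37 : Reach GB1 (Obj.mk o1_0) (Obj.mk o1_37) :=
  Reach.step (s := gen .b) (gen_mem_GS (by decide)) r1_23 (gen_smul _ _ _ n1_37)
theorem r1_38 : Reach GB1 (Obj.mk o1_0) (Obj.mk o1_38) :=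
  Reach.step (s := gen .e) (gen_mem_GS (by decide)) r1_23 (gen_smul _ _ _ n1_38)
theorem r1_39 : Reach GB1 (Obj.mk o1_0) (Obj.mk o1_39) :=
  Reach.step (s := gen .f) (gen_mem_GS (by decide)) r1_24 (gen_smul _ _ _ n1_39)
theorem r1_40 : Reach GB1 (Obj.mk o1_0) (Obj.mk o1_40) :=
  Reach.step (s := gen .e) (gen_mem_GS (by decide)) r1_25 (gen_smul _ _ _ n1_40)
theorem r1_41 : Reach GB1 (Obj.mk o1_0) (Obj.mk o1_41) :=
  Reach.step (s := gen .d) (gen_mem_GS (by decide)) r1_26 (gen_smul _ _ _ n1_41)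
theorem r1_42 : Reach GB1 (Obj.mk o1_0) (Obj.mk o1_42) :=
  Reach.step (s := gen .f) (gen_mem_GS (by decide)) r1_26 (gen_smul _ _ _ n1_42)
theorem r1_43 : Reach GB1 (Obj.mk o1_0) (Obj.mk o1_43) :=
  Reach.step (s := gen .d) (gen_mem_GS (by decide)) r1_28 (gen_smul _ _ _ n1_43)
theorem r1_44 : Reach GB1 (Obj.mk o1_0) (Obj.mk o1_44) :=
  Reach.step (s := gen .i) (gen_mem_GS (by decide)) r1_28 (gen_smul _ _ _ n1_44)
theorem r1_45 : Reach GB1 (Obj.mk o1_0) (Obj.mk o1_45) :=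
  Reach.step (s := gen .h) (gen_mem_GS (by decide)) r1_29 (gen_smul _ _ _ n1_45)
theorem r1_46 : Reach GB1 (Obj.mk o1_0) (Obj.mk o1_46) :=
  Reach.step (s := gen .c) (gen_mem_GS (by decide)) r1_30 (gen_smul _ _ _ n1_46)
theorem r1_47 : Reach GB1 (Obj.mk o1_0) (Obj.mk o1_47) :=
  Reach.step (s := gen .i) (gen_mem_GS (by decide)) r1_30 (gen_smul _ _ _ n1_47)
theorem r1_48 : Reach GB1 (Obj.mk o1_0) (Obj.mk o1_48) :=
  Reach.step (s := gen .h) (gen_mem_GS (by decide)) r1_31 (gen_smul _ _ _ n1_48)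
theorem r1_49 : Reach GB1 (Obj.mk o1_0) (Obj.mk o1_49) :=
  Reach.step (s := gen .d) (gen_mem_GS (by decide)) r1_32 (gen_smul _ _ _ n1_49)
theorem r1_50 : Reach GB1 (Obj.mk o1_0) (Obj.mk o1_50) :=
  Reach.step (s := gen .d) (gen_mem_GS (by decide)) r1_33 (gen_smul _ _ _ n1_50)
theorem r1_51 : Reach GB1 (Obj.mk o1_0) (Obj.mk o1_51) :=
  Reach.step (s := gen .c) (gen_mem_GS (by decide)) r1_34 (gen_smul _ _ _ n1_51)
theorem r1_52 : Reach GB1 (Obj.mk o1_0) (Obj.mk o1_52) :=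
  Reach.step (s := gen .e) (gen_mem_GS (by decide)) r1_34 (gen_smul _ _ _ n1_52)
theorem r1_53 : Reach GB1 (Obj.mk o1_0) (Obj.mk o1_53) :=
  Reach.step (s := gen .b) (gen_mem_GS (by decide)) r1_35 (gen_smul _ _ _ n1_53)
theorem r1_54 : Reach GB1 (Obj.mk o1_0) (Obj.mk o1_54) :=
  Reach.step (s := gen .e) (gen_mem_GS (by decide)) r1_35 (gen_smul _ _ _ n1_54)
theorem r1_55 : Reach GB1 (Obj.mk o1_0) (Obj.mk o1_55) :=
  Reach.step (s := gen .f) (gen_mem_GS (by decide)) r1_36 (gen_smul _ _ _ n1_55)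
theorem r1_56 : Reach GB1 (Obj.mk o1_0) (Obj.mk o1_56) :=
  Reach.step (s := gen .e) (gen_mem_GS (by decide)) r1_37 (gen_smul _ _ _ n1_56)
theorem r1_57 : Reach GB1 (Obj.mk o1_0) (Obj.mk o1_57) :=
  Reach.step (s := gen .d) (gen_mem_GS (by decide)) r1_38 (gen_smul _ _ _ n1_57)
theorem r1_58 : Reach GB1 (Obj.mk o1_0) (Obj.mk o1_58) :=
  Reach.step (s := gen .f) (gen_mem_GS (by decide)) r1_38 (gen_smul _ _ _ n1_58)
theorem r1_59 : Reach GB1 (Obj.mk o1_0) (Obj.mk o1_59) :=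
  Reach.step (s := gen .d) (gen_mem_GS (by decide)) r1_40 (gen_smul _ _ _ n1_59)
theorem r1_60 : Reach GB1 (Obj.mk o1_0) (Obj.mk o1_60) :=
  Reach.step (s := gen .f) (gen_mem_GS (by decide)) r1_40 (gen_smul _ _ _ n1_60)
theorem r1_61 : Reach GB1 (Obj.mk o1_0) (Obj.mk o1_61) :=
  Reach.step (s := gen .f) (gen_mem_GS (by decide)) r1_41 (gen_smul _ _ _ n1_61)
theorem r1_62 : Reach GB1 (Obj.mk o1_0) (Obj.mk o1_62) :=
  Reach.step (s := gen .h) (gen_mem_GS (by decide)) r1_41 (gen_smul _ _ _ n1_62)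
theorem r1_63 : Reach GB1 (Obj.mk o1_0) (Obj.mk o1_63) :=
  Reach.step (s := gen .c) (gen_mem_GS (by decide)) r1_43 (gen_smul _ _ _ n1_63)
theorem r1_64 : Reach GB1 (Obj.mk o1_0) (Obj.mk o1_64) :=
  Reach.step (s := gen .e) (gen_mem_GS (by decide)) r1_43 (gen_smul _ _ _ n1_64)
theorem r1_65 : Reach GB1 (Obj.mk o1_0) (Obj.mk o1_65) :=
  Reach.step (s := gen .i) (gen_mem_GS (by decide)) r1_43 (gen_smul _ _ _ n1_65)
theorem r1_66 : Reach GB1 (Obj.mk o1_0) (Obj.mk o1_66) :=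
  Reach.step (s := gen .h) (gen_mem_GS (by decide)) r1_44 (gen_smul _ _ _ n1_66)
theorem r1_67 : Reach GB1 (Obj.mk o1_0) (Obj.mk o1_67) :=
  Reach.step (s := gen .d) (gen_mem_GS (by decide)) r1_45 (gen_smul _ _ _ n1_67)
theorem r1_68 : Reach GB1 (Obj.mk o1_0) (Obj.mk o1_68) :=
  Reach.step (s := gen .b) (gen_mem_GS (by decide)) r1_46 (gen_smul _ _ _ n1_68)
theorem r1_69 : Reach GB1 (Obj.mk o1_0) (Obj.mk o1_69) :=
  Reach.step (s := gen .i) (gen_mem_GS (by decide)) r1_46 (gen_smul _ _ _ n1_69)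
theorem r1_70 : Reach GB1 (Obj.mk o1_0) (Obj.mk o1_70) :=
  Reach.step (s := gen .h) (gen_mem_GS (by decide)) r1_47 (gen_smul _ _ _ n1_70)
theorem r1_71 : Reach GB1 (Obj.mk o1_0) (Obj.mk o1_71) :=
  Reach.step (s := gen .d) (gen_mem_GS (by decide)) r1_48 (gen_smul _ _ _ n1_71)
theorem r1_72 : Reach GB1 (Obj.mk o1_0) (Obj.mk o1_72) :=
  Reach.step (s := gen .c) (gen_mem_GS (by decide)) r1_49 (gen_smul _ _ _ n1_72)
theorem r1_73 : Reach GB1 (Obj.mk o1_0) (Obj.mk o1_73) :=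
  Reach.step (s := gen .e) (gen_mem_GS (by decide)) r1_49 (gen_smul _ _ _ n1_73)
theorem r1_74 : Reach GB1 (Obj.mk o1_0) (Obj.mk o1_74) :=
  Reach.step (s := gen .c) (gen_mem_GS (by decide)) r1_50 (gen_smul _ _ _ n1_74)
theorem r1_75 : Reach GB1 (Obj.mk o1_0) (Obj.mk o1_75) :=
  Reach.step (s := gen .e) (gen_mem_GS (by decide)) r1_50 (gen_smul _ _ _ n1_75)
theorem r1_76 : Reach GB1 (Obj.mk o1_0) (Obj.mk o1_76) :=
  Reach.step (s := gen .b) (gen_mem_GS (by decide)) r1_51 (gen_smul _ _ _ n1_76)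
theorem r1_77 : Reach GB1 (Obj.mk o1_0) (Obj.mk o1_77) :=
  Reach.step (s := gen .e) (gen_mem_GS (by decide)) r1_51 (gen_smul _ _ _ n1_77)
theorem r1_78 : Reach GB1 (Obj.mk o1_0) (Obj.mk o1_78) :=
  Reach.step (s := gen .f) (gen_mem_GS (by decide)) r1_52 (gen_smul _ _ _ n1_78)
theorem r1_79 : Reach GB1 (Obj.mk o1_0) (Obj.mk o1_79) :=
  Reach.step (s := gen .e) (gen_mem_GS (by decide)) r1_53 (gen_smul _ _ _ n1_79)
theorem r1_80 : Reach GB1 (Obj.mk o1_0) (Obj.mk o1_80) :=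
  Reach.step (s := gen .d) (gen_mem_GS (by decide)) r1_54 (gen_smul _ _ _ n1_80)
theorem r1_81 : Reach GB1 (Obj.mk o1_0) (Obj.mk o1_81) :=
  Reach.step (s := gen .f) (gen_mem_GS (by decide)) r1_54 (gen_smul _ _ _ n1_81)
theorem r1_82 : Reach GB1 (Obj.mk o1_0) (Obj.mk o1_82) :=
  Reach.step (s := gen .d) (gen_mem_GS (by decide)) r1_56 (gen_smul _ _ _ n1_82)
theorem r1_83 : Reach GB1 (Obj.mk o1_0) (Obj.mk o1_83) :=
  Reach.step (s := gen .f) (gen_mem_GS (by decide)) r1_56 (gen_smul _ _ _ n1_83)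
theorem r1_84 : Reach GB1 (Obj.mk o1_0) (Obj.mk o1_84) :=
  Reach.step (s := gen .f) (gen_mem_GS (by decide)) r1_57 (gen_smul _ _ _ n1_84)
theorem r1_85 : Reach GB1 (Obj.mk o1_0) (Obj.mk o1_85) :=
  Reach.step (s := gen .h) (gen_mem_GS (by decide)) r1_57 (gen_smul _ _ _ n1_85)
theorem r1_86 : Reach GB1 (Obj.mk o1_0) (Obj.mk o1_86) :=
  Reach.step (s := gen .f) (gen_mem_GS (by decide)) r1_59 (gen_smul _ _ _ n1_86)
theorem r1_87 : Reach GB1 (Obj.mk o1_0) (Obj.mk o1_87) :=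
  Reach.step (s := gen .e) (gen_mem_GS (by decide)) r1_61 (gen_smul _ _ _ n1_87)
theorem r1_88 : Reach GB1 (Obj.mk o1_0) (Obj.mk o1_88) :=
  Reach.step (s := gen .h) (gen_mem_GS (by decide)) r1_61 (gen_smul _ _ _ n1_88)
theorem r1_89 : Reach GB1 (Obj.mk o1_0) (Obj.mk o1_89) :=
  Reach.step (s := gen .b) (gen_mem_GS (by decide)) r1_63 (gen_smul _ _ _ n1_89)
theorem r1_90 : Reach GB1 (Obj.mk o1_0) (Obj.mk o1_90) :=
  Reach.step (s := gen .e) (gen_mem_GS (by decide)) r1_63 (gen_smul _ _ _ n1_90)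
theorem r1_91 : Reach GB1 (Obj.mk o1_0) (Obj.mk o1_91) :=
  Reach.step (s := gen .i) (gen_mem_GS (by decide)) r1_63 (gen_smul _ _ _ n1_91)
theorem r1_92 : Reach GB1 (Obj.mk o1_0) (Obj.mk o1_92) :=
  Reach.step (s := gen .i) (gen_mem_GS (by decide)) r1_64 (gen_smul _ _ _ n1_92)
theorem r1_93 : Reach GB1 (Obj.mk o1_0) (Obj.mk o1_93) :=
  Reach.step (s := gen .h) (gen_mem_GS (by decide)) r1_65 (gen_smul _ _ _ n1_93)
theorem r1_94 : Reach GB1 (Obj.mk o1_0) (Obj.mk o1_94) :=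
  Reach.step (s := gen .d) (gen_mem_GS (by decide)) r1_66 (gen_smul _ _ _ n1_94)
theorem r1_95 : Reach GB1 (Obj.mk o1_0) (Obj.mk o1_95) :=
  Reach.step (s := gen .c) (gen_mem_GS (by decide)) r1_67 (gen_smul _ _ _ n1_95)
theorem r1_96 : Reach GB1 (Obj.mk o1_0) (Obj.mk o1_96) :=
  Reach.step (s := gen .e) (gen_mem_GS (by decide)) r1_67 (gen_smul _ _ _ n1_96)
theorem r1_97 : Reach GB1 (Obj.mk o1_0) (Obj.mk o1_97) :=
  Reach.step (s := gen .d) (gen_mem_GS (by decide)) r1_70 (gen_smul _ _ _ n1_97)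
theorem r1_98 : Reach GB1 (Obj.mk o1_0) (Obj.mk o1_98) :=
  Reach.step (s := gen .c) (gen_mem_GS (by decide)) r1_71 (gen_smul _ _ _ n1_98)
theorem r1_99 : Reach GB1 (Obj.mk o1_0) (Obj.mk o1_99) :=
  Reach.step (s := gen .e) (gen_mem_GS (by decide)) r1_71 (gen_smul _ _ _ n1_99)
theorem r1_100 : Reach GB1 (Obj.mk o1_0) (Obj.mk o1_100) :=
  Reach.step (s := gen .b) (gen_mem_GS (by decide)) r1_72 (gen_smul _ _ _ n1_100)
theorem r1_101 : Reach GB1 (Obj.mk o1_0) (Obj.mk o1_101) :=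
  Reach.step (s := gen .e) (gen_mem_GS (by decide)) r1_72 (gen_smul _ _ _ n1_101)
theorem r1_102 : Reach GB1 (Obj.mk o1_0) (Obj.mk o1_102) :=
  Reach.step (s := gen .f) (gen_mem_GS (by decide)) r1_73 (gen_smul _ _ _ n1_102)
theorem r1_103 : Reach GB1 (Obj.mk o1_0) (Obj.mk o1_103) :=
  Reach.step (s := gen .b) (gen_mem_GS (by decide)) r1_74 (gen_smul _ _ _ n1_103)
theorem r1_104 : Reach GB1 (Obj.mk o1_0) (Obj.mk o1_104) :=
  Reach.step (s := gen .e) (gen_mem_GS (by decide)) r1_74 (gen_smul _ _ _ n1_104)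
theorem r1_105 : Reach GB1 (Obj.mk o1_0) (Obj.mk o1_105) :=
  Reach.step (s := gen .f) (gen_mem_GS (by decide)) r1_75 (gen_smul _ _ _ n1_105)
theorem r1_106 : Reach GB1 (Obj.mk o1_0) (Obj.mk o1_106) :=
  Reach.step (s := gen .e) (gen_mem_GS (by decide)) r1_76 (gen_smul _ _ _ n1_106)
theorem r1_107 : Reach GB1 (Obj.mk o1_0) (Obj.mk o1_107) :=
  Reach.step (s := gen .d) (gen_mem_GS (by decide)) r1_77 (gen_smul _ _ _ n1_107)
theorem r1_108 : Reach GB1 (Obj.mk o1_0) (Obj.mk o1_108) :=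
  Reach.step (s := gen .f) (gen_mem_GS (by decide)) r1_77 (gen_smul _ _ _ n1_108)
theorem r1_109 : Reach GB1 (Obj.mk o1_0) (Obj.mk o1_109) :=
  Reach.step (s := gen .d) (gen_mem_GS (by decide)) r1_79 (gen_smul _ _ _ n1_109)
theorem r1_110 : Reach GB1 (Obj.mk o1_0) (Obj.mk o1_110) :=
  Reach.step (s := gen .f) (gen_mem_GS (by decide)) r1_79 (gen_smul _ _ _ n1_110)
theorem r1_111 : Reach GB1 (Obj.mk o1_0) (Obj.mk o1_111) :=
  Reach.step (s := gen .f) (gen_mem_GS (by decide)) r1_80 (gen_smul _ _ _ n1_111)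
theorem r1_112 : Reach GB1 (Obj.mk o1_0) (Obj.mk o1_112) :=
  Reach.step (s := gen .h) (gen_mem_GS (by decide)) r1_80 (gen_smul _ _ _ n1_112)
theorem r1_113 : Reach GB1 (Obj.mk o1_0) (Obj.mk o1_113) :=
  Reach.step (s := gen .f) (gen_mem_GS (by decide)) r1_82 (gen_smul _ _ _ n1_113)
theorem r1_114 : Reach GB1 (Obj.mk o1_0) (Obj.mk o1_114) :=
  Reach.step (s := gen .e) (gen_mem_GS (by decide)) r1_84 (gen_smul _ _ _ n1_114)
theorem r1_115 : Reach GB1 (Obj.mk o1_0) (Obj.mk o1_115) :=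
  Reach.step (s := gen .h) (gen_mem_GS (by decide)) r1_84 (gen_smul _ _ _ n1_115)
theorem r1_116 : Reach GB1 (Obj.mk o1_0) (Obj.mk o1_116) :=
  Reach.step (s := gen .e) (gen_mem_GS (by decide)) r1_86 (gen_smul _ _ _ n1_116)
theorem r1_117 : Reach GB1 (Obj.mk o1_0) (Obj.mk o1_117) :=
  Reach.step (s := gen .h) (gen_mem_GS (by decide)) r1_87 (gen_smul _ _ _ n1_117)
theorem r1_118 : Reach GB1 (Obj.mk o1_0) (Obj.mk o1_118) :=
  Reach.step (s := gen .e) (gen_mem_GS (by decide)) r1_89 (gen_smul _ _ _ n1_118)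
theorem r1_119 : Reach GB1 (Obj.mk o1_0) (Obj.mk o1_119) :=
  Reach.step (s := gen .d) (gen_mem_GS (by decide)) r1_90 (gen_smul _ _ _ n1_119)
theorem r1_120 : Reach GB1 (Obj.mk o1_0) (Obj.mk o1_120) :=
  Reach.step (s := gen .i) (gen_mem_GS (by decide)) r1_90 (gen_smul _ _ _ n1_120)
theorem r1_121 : Reach GB1 (Obj.mk o1_0) (Obj.mk o1_121) :=
  Reach.step (s := gen .h) (gen_mem_GS (by decide)) r1_92 (gen_smul _ _ _ n1_121)
theorem r1_122 : Reach GB1 (Obj.mk o1_0) (Obj.mk o1_122) :=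
  Reach.step (s := gen .d) (gen_mem_GS (by decide)) r1_93 (gen_smul _ _ _ n1_122)
theorem r1_123 : Reach GB1 (Obj.mk o1_0) (Obj.mk o1_123) :=
  Reach.step (s := gen .c) (gen_mem_GS (by decide)) r1_94 (gen_smul _ _ _ n1_123)
theorem r1_124 : Reach GB1 (Obj.mk o1_0) (Obj.mk o1_124) :=
  Reach.step (s := gen .e) (gen_mem_GS (by decide)) r1_94 (gen_smul _ _ _ n1_124)
theorem r1_125 : Reach GB1 (Obj.mk o1_0) (Obj.mk o1_125) :=
  Reach.step (s := gen .b) (gen_mem_GS (by decide)) r1_95 (gen_smul _ _ _ n1_125)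
theorem r1_126 : Reach GB1 (Obj.mk o1_0) (Obj.mk o1_126) :=
  Reach.step (s := gen .e) (gen_mem_GS (by decide)) r1_95 (gen_smul _ _ _ n1_126)
theorem r1_127 : Reach GB1 (Obj.mk o1_0) (Obj.mk o1_127) :=
  Reach.step (s := gen .f) (gen_mem_GS (by decide)) r1_96 (gen_smul _ _ _ n1_127)
theorem r1_128 : Reach GB1 (Obj.mk o1_0) (Obj.mk o1_128) :=
  Reach.step (s := gen .e) (gen_mem_GS (by decide)) r1_97 (gen_smul _ _ _ n1_128)
theorem r1_129 : Reach GB1 (Obj.mk o1_0) (Obj.mk o1_129) :=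
  Reach.step (s := gen .e) (gen_mem_GS (by decide)) r1_98 (gen_smul _ _ _ n1_129)
theorem r1_130 : Reach GB1 (Obj.mk o1_0) (Obj.mk o1_130) :=
  Reach.step (s := gen .f) (gen_mem_GS (by decide)) r1_99 (gen_smul _ _ _ n1_130)
theorem r1_131 : Reach GB1 (Obj.mk o1_0) (Obj.mk o1_131) :=
  Reach.step (s := gen .e) (gen_mem_GS (by decide)) r1_100 (gen_smul _ _ _ n1_131)
theorem r1_132 : Reach GB1 (Obj.mk o1_0) (Obj.mk o1_132) :=
  Reach.step (s := gen .d) (gen_mem_GS (by decide)) r1_101 (gen_smul _ _ _ n1_132)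
theorem r1_133 : Reach GB1 (Obj.mk o1_0) (Obj.mk o1_133) :=
  Reach.step (s := gen .f) (gen_mem_GS (by decide)) r1_101 (gen_smul _ _ _ n1_133)
theorem r1_134 : Reach GB1 (Obj.mk o1_0) (Obj.mk o1_134) :=
  Reach.step (s := gen .e) (gen_mem_GS (by decide)) r1_103 (gen_smul _ _ _ n1_134)
theorem r1_135 : Reach GB1 (Obj.mk o1_0) (Obj.mk o1_135) :=
  Reach.step (s := gen .d) (gen_mem_GS (by decide)) r1_104 (gen_smul _ _ _ n1_135)
theorem r1_136 : Reach GB1 (Obj.mk o1_0) (Obj.mk o1_136) :=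
  Reach.step (s := gen .f) (gen_mem_GS (by decide)) r1_104 (gen_smul _ _ _ n1_136)
theorem r1_137 : Reach GB1 (Obj.mk o1_0) (Obj.mk o1_137) :=
  Reach.step (s := gen .d) (gen_mem_GS (by decide)) r1_106 (gen_smul _ _ _ n1_137)
theorem r1_138 : Reach GB1 (Obj.mk o1_0) (Obj.mk o1_138) :=
  Reach.step (s := gen .f) (gen_mem_GS (by decide)) r1_106 (gen_smul _ _ _ n1_138)
theorem r1_139 : Reach GB1 (Obj.mk o1_0) (Obj.mk o1_139) :=
  Reach.step (s := gen .f) (gen_mem_GS (by decide)) r1_107 (gen_smul _ _ _ n1_139)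
theorem r1_140 : Reach GB1 (Obj.mk o1_0) (Obj.mk o1_140) :=
  Reach.step (s := gen .h) (gen_mem_GS (by decide)) r1_107 (gen_smul _ _ _ n1_140)
theorem r1_141 : Reach GB1 (Obj.mk o1_0) (Obj.mk o1_141) :=
  Reach.step (s := gen .f) (gen_mem_GS (by decide)) r1_109 (gen_smul _ _ _ n1_141)
theorem r1_142 : Reach GB1 (Obj.mk o1_0) (Obj.mk o1_142) :=
  Reach.step (s := gen .e) (gen_mem_GS (by decide)) r1_111 (gen_smul _ _ _ n1_142)
theorem r1_143 : Reach GB1 (Obj.mk o1_0) (Obj.mk o1_143) :=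
  Reach.step (s := gen .h) (gen_mem_GS (by decide)) r1_111 (gen_smul _ _ _ n1_143)
theorem r1_144 : Reach GB1 (Obj.mk o1_0) (Obj.mk o1_144) :=
  Reach.step (s := gen .e) (gen_mem_GS (by decide)) r1_113 (gen_smul _ _ _ n1_144)
theorem r1_145 : Reach GB1 (Obj.mk o1_0) (Obj.mk o1_145) :=
  Reach.step (s := gen .h) (gen_mem_GS (by decide)) r1_114 (gen_smul _ _ _ n1_145)
theorem r1_146 : Reach GB1 (Obj.mk o1_0) (Obj.mk o1_146) :=
  Reach.step (s := gen .d) (gen_mem_GS (by decide)) r1_117 (gen_smul _ _ _ n1_146)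
theorem r1_147 : Reach GB1 (Obj.mk o1_0) (Obj.mk o1_147) :=
  Reach.step (s := gen .d) (gen_mem_GS (by decide)) r1_118 (gen_smul _ _ _ n1_147)
theorem r1_148 : Reach GB1 (Obj.mk o1_0) (Obj.mk o1_148) :=
  Reach.step (s := gen .h) (gen_mem_GS (by decide)) r1_119 (gen_smul _ _ _ n1_148)
theorem r1_149 : Reach GB1 (Obj.mk o1_0) (Obj.mk o1_149) :=
  Reach.step (s := gen .i) (gen_mem_GS (by decide)) r1_119 (gen_smul _ _ _ n1_149)
theorem r1_150 : Reach GB1 (Obj.mk o1_0) (Obj.mk o1_150) :=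
  Reach.step (s := gen .d) (gen_mem_GS (by decide)) r1_121 (gen_smul _ _ _ n1_150)
theorem r1_151 : Reach GB1 (Obj.mk o1_0) (Obj.mk o1_151) :=
  Reach.step (s := gen .e) (gen_mem_GS (by decide)) r1_122 (gen_smul _ _ _ n1_151)
theorem r1_152 : Reach GB1 (Obj.mk o1_0) (Obj.mk o1_152) :=
  Reach.step (s := gen .e) (gen_mem_GS (by decide)) r1_123 (gen_smul _ _ _ n1_152)
theorem r1_153 : Reach GB1 (Obj.mk o1_0) (Obj.mk o1_153) :=
  Reach.step (s := gen .f) (gen_mem_GS (by decide)) r1_124 (gen_smul _ _ _ n1_153)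
theorem r1_154 : Reach GB1 (Obj.mk o1_0) (Obj.mk o1_154) :=
  Reach.step (s := gen .e) (gen_mem_GS (by decide)) r1_125 (gen_smul _ _ _ n1_154)
theorem r1_155 : Reach GB1 (Obj.mk o1_0) (Obj.mk o1_155) :=
  Reach.step (s := gen .d) (gen_mem_GS (by decide)) r1_126 (gen_smul _ _ _ n1_155)
theorem r1_156 : Reach GB1 (Obj.mk o1_0) (Obj.mk o1_156) :=
  Reach.step (s := gen .f) (gen_mem_GS (by decide)) r1_126 (gen_smul _ _ _ n1_156)
theorem r1_157 : Reach GB1 (Obj.mk o1_0) (Obj.mk o1_157) :=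
  Reach.step (s := gen .f) (gen_mem_GS (by decide)) r1_128 (gen_smul _ _ _ n1_157)
theorem r1_158 : Reach GB1 (Obj.mk o1_0) (Obj.mk o1_158) :=
  Reach.step (s := gen .d) (gen_mem_GS (by decide)) r1_129 (gen_smul _ _ _ n1_158)
theorem r1_159 : Reach GB1 (Obj.mk o1_0) (Obj.mk o1_159) :=
  Reach.step (s := gen .f) (gen_mem_GS (by decide)) r1_129 (gen_smul _ _ _ n1_159)
theorem r1_160 : Reach GB1 (Obj.mk o1_0) (Obj.mk o1_160) :=
  Reach.step (s := gen .d) (gen_mem_GS (by decide)) r1_131 (gen_smul _ _ _ n1_160)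
theorem r1_161 : Reach GB1 (Obj.mk o1_0) (Obj.mk o1_161) :=
  Reach.step (s := gen .f) (gen_mem_GS (by decide)) r1_131 (gen_smul _ _ _ n1_161)
theorem r1_162 : Reach GB1 (Obj.mk o1_0) (Obj.mk o1_162) :=
  Reach.step (s := gen .f) (gen_mem_GS (by decide)) r1_132 (gen_smul _ _ _ n1_162)
theorem r1_163 : Reach GB1 (Obj.mk o1_0) (Obj.mk o1_163) :=
  Reach.step (s := gen .h) (gen_mem_GS (by decide)) r1_132 (gen_smul _ _ _ n1_163)
theorem r1_164 : Reach GB1 (Obj.mk o1_0) (Obj.mk o1_164) :=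
  Reach.step (s := gen .d) (gen_mem_GS (by decide)) r1_134 (gen_smul _ _ _ n1_164)
theorem r1_165 : Reach GB1 (Obj.mk o1_0) (Obj.mk o1_165) :=
  Reach.step (s := gen .f) (gen_mem_GS (by decide)) r1_134 (gen_smul _ _ _ n1_165)
theorem r1_166 : Reach GB1 (Obj.mk o1_0) (Obj.mk o1_166) :=
  Reach.step (s := gen .f) (gen_mem_GS (by decide)) r1_135 (gen_smul _ _ _ n1_166)
theorem r1_167 : Reach GB1 (Obj.mk o1_0) (Obj.mk o1_167) :=
  Reach.step (s := gen .h) (gen_mem_GS (by decide)) r1_135 (gen_smul _ _ _ n1_167)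
theorem r1_168 : Reach GB1 (Obj.mk o1_0) (Obj.mk o1_168) :=
  Reach.step (s := gen .f) (gen_mem_GS (by decide)) r1_137 (gen_smul _ _ _ n1_168)
theorem r1_169 : Reach GB1 (Obj.mk o1_0) (Obj.mk o1_169) :=
  Reach.step (s := gen .e) (gen_mem_GS (by decide)) r1_139 (gen_smul _ _ _ n1_169)
theorem r1_170 : Reach GB1 (Obj.mk o1_0) (Obj.mk o1_170) :=
  Reach.step (s := gen .h) (gen_mem_GS (by decide)) r1_139 (gen_smul _ _ _ n1_170)
theorem r1_171 : Reach GB1 (Obj.mk o1_0) (Obj.mk o1_171) :=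
  Reach.step (s := gen .e) (gen_mem_GS (by decide)) r1_141 (gen_smul _ _ _ n1_171)
theorem r1_172 : Reach GB1 (Obj.mk o1_0) (Obj.mk o1_172) :=
  Reach.step (s := gen .h) (gen_mem_GS (by decide)) r1_142 (gen_smul _ _ _ n1_172)
theorem r1_173 : Reach GB1 (Obj.mk o1_0) (Obj.mk o1_173) :=
  Reach.step (s := gen .d) (gen_mem_GS (by decide)) r1_145 (gen_smul _ _ _ n1_173)
theorem r1_174 : Reach GB1 (Obj.mk o1_0) (Obj.mk o1_174) :=
  Reach.step (s := gen .c) (gen_mem_GS (by decide)) r1_146 (gen_smul _ _ _ n1_174)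
theorem r1_175 : Reach GB1 (Obj.mk o1_0) (Obj.mk o1_175) :=
  Reach.step (s := gen .c) (gen_mem_GS (by decide)) r1_147 (gen_smul _ _ _ n1_175)
theorem r1_176 : Reach GB1 (Obj.mk o1_0) (Obj.mk o1_176) :=
  Reach.step (s := gen .h) (gen_mem_GS (by decide)) r1_147 (gen_smul _ _ _ n1_176)
theorem r1_177 : Reach GB1 (Obj.mk o1_0) (Obj.mk o1_177) :=
  Reach.step (s := gen .e) (gen_mem_GS (by decide)) r1_150 (gen_smul _ _ _ n1_177)
theorem r1_178 : Reach GB1 (Obj.mk o1_0) (Obj.mk o1_178) :=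
  Reach.step (s := gen .f) (gen_mem_GS (by decide)) r1_151 (gen_smul _ _ _ n1_178)
theorem r1_179 : Reach GB1 (Obj.mk o1_0) (Obj.mk o1_179) :=
  Reach.step (s := gen .d) (gen_mem_GS (by decide)) r1_152 (gen_smul _ _ _ n1_179)
theorem r1_180 : Reach GB1 (Obj.mk o1_0) (Obj.mk o1_180) :=
  Reach.step (s := gen .f) (gen_mem_GS (by decide)) r1_152 (gen_smul _ _ _ n1_180)
theorem r1_181 : Reach GB1 (Obj.mk o1_0) (Obj.mk o1_181) :=
  Reach.step (s := gen .d) (gen_mem_GS (by decide)) r1_154 (gen_smul _ _ _ n1_181)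
theorem r1_182 : Reach GB1 (Obj.mk o1_0) (Obj.mk o1_182) :=
  Reach.step (s := gen .f) (gen_mem_GS (by decide)) r1_154 (gen_smul _ _ _ n1_182)
theorem r1_183 : Reach GB1 (Obj.mk o1_0) (Obj.mk o1_183) :=
  Reach.step (s := gen .f) (gen_mem_GS (by decide)) r1_155 (gen_smul _ _ _ n1_183)
theorem r1_184 : Reach GB1 (Obj.mk o1_0) (Obj.mk o1_184) :=
  Reach.step (s := gen .h) (gen_mem_GS (by decide)) r1_155 (gen_smul _ _ _ n1_184)
theorem r1_185 : Reach GB1 (Obj.mk o1_0) (Obj.mk o1_185) :=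
  Reach.step (s := gen .f) (gen_mem_GS (by decide)) r1_158 (gen_smul _ _ _ n1_185)
theorem r1_186 : Reach GB1 (Obj.mk o1_0) (Obj.mk o1_186) :=
  Reach.step (s := gen .c) (gen_mem_GS (by decide)) r1_160 (gen_smul _ _ _ n1_186)
theorem r1_187 : Reach GB1 (Obj.mk o1_0) (Obj.mk o1_187) :=
  Reach.step (s := gen .f) (gen_mem_GS (by decide)) r1_160 (gen_smul _ _ _ n1_187)
theorem r1_188 : Reach GB1 (Obj.mk o1_0) (Obj.mk o1_188) :=
  Reach.step (s := gen .h) (gen_mem_GS (by decide)) r1_160 (gen_smul _ _ _ n1_188)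
theorem r1_189 : Reach GB1 (Obj.mk o1_0) (Obj.mk o1_189) :=
  Reach.step (s := gen .e) (gen_mem_GS (by decide)) r1_162 (gen_smul _ _ _ n1_189)
theorem r1_190 : Reach GB1 (Obj.mk o1_0) (Obj.mk o1_190) :=
  Reach.step (s := gen .h) (gen_mem_GS (by decide)) r1_162 (gen_smul _ _ _ n1_190)
theorem r1_191 : Reach GB1 (Obj.mk o1_0) (Obj.mk o1_191) :=
  Reach.step (s := gen .f) (gen_mem_GS (by decide)) r1_164 (gen_smul _ _ _ n1_191)
theorem r1_192 : Reach GB1 (Obj.mk o1_0) (Obj.mk o1_192) :=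
  Reach.step (s := gen .e) (gen_mem_GS (by decide)) r1_166 (gen_smul _ _ _ n1_192)
theorem r1_193 : Reach GB1 (Obj.mk o1_0) (Obj.mk o1_193) :=
  Reach.step (s := gen .h) (gen_mem_GS (by decide)) r1_166 (gen_smul _ _ _ n1_193)
theorem r1_194 : Reach GB1 (Obj.mk o1_0) (Obj.mk o1_194) :=
  Reach.step (s := gen .e) (gen_mem_GS (by decide)) r1_168 (gen_smul _ _ _ n1_194)
theorem r1_195 : Reach GB1 (Obj.mk o1_0) (Obj.mk o1_195) :=
  Reach.step (s := gen .h) (gen_mem_GS (by decide)) r1_169 (gen_smul _ _ _ n1_195)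
theorem r1_196 : Reach GB1 (Obj.mk o1_0) (Obj.mk o1_196) :=
  Reach.step (s := gen .d) (gen_mem_GS (by decide)) r1_172 (gen_smul _ _ _ n1_196)
theorem r1_197 : Reach GB1 (Obj.mk o1_0) (Obj.mk o1_197) :=
  Reach.step (s := gen .c) (gen_mem_GS (by decide)) r1_173 (gen_smul _ _ _ n1_197)
theorem r1_198 : Reach GB1 (Obj.mk o1_0) (Obj.mk o1_198) :=
  Reach.step (s := gen .h) (gen_mem_GS (by decide)) r1_175 (gen_smul _ _ _ n1_198)
theorem r1_199 : Reach GB1 (Obj.mk o1_0) (Obj.mk o1_199) :=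
  Reach.step (s := gen .f) (gen_mem_GS (by decide)) r1_177 (gen_smul _ _ _ n1_199)
theorem r1_200 : Reach GB1 (Obj.mk o1_0) (Obj.mk o1_200) :=
  Reach.step (s := gen .f) (gen_mem_GS (by decide)) r1_179 (gen_smul _ _ _ n1_200)
theorem r1_201 : Reach GB1 (Obj.mk o1_0) (Obj.mk o1_201) :=
  Reach.step (s := gen .c) (gen_mem_GS (by decide)) r1_181 (gen_smul _ _ _ n1_201)
theorem r1_202 : Reach GB1 (Obj.mk o1_0) (Obj.mk o1_202) :=
  Reach.step (s := gen .f) (gen_mem_GS (by decide)) r1_181 (gen_smul _ _ _ n1_202)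
theorem r1_203 : Reach GB1 (Obj.mk o1_0) (Obj.mk o1_203) :=
  Reach.step (s := gen .h) (gen_mem_GS (by decide)) r1_181 (gen_smul _ _ _ n1_203)
theorem r1_204 : Reach GB1 (Obj.mk o1_0) (Obj.mk o1_204) :=
  Reach.step (s := gen .e) (gen_mem_GS (by decide)) r1_183 (gen_smul _ _ _ n1_204)
theorem r1_205 : Reach GB1 (Obj.mk o1_0) (Obj.mk o1_205) :=
  Reach.step (s := gen .h) (gen_mem_GS (by decide)) r1_183 (gen_smul _ _ _ n1_205)
theorem r1_206 : Reach GB1 (Obj.mk o1_0) (Obj.mk o1_206) :=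
  Reach.step (s := gen .e) (gen_mem_GS (by decide)) r1_185 (gen_smul _ _ _ n1_206)
theorem r1_207 : Reach GB1 (Obj.mk o1_0) (Obj.mk o1_207) :=
  Reach.step (s := gen .f) (gen_mem_GS (by decide)) r1_186 (gen_smul _ _ _ n1_207)
theorem r1_208 : Reach GB1 (Obj.mk o1_0) (Obj.mk o1_208) :=
  Reach.step (s := gen .e) (gen_mem_GS (by decide)) r1_187 (gen_smul _ _ _ n1_208)
theorem r1_209 : Reach GB1 (Obj.mk o1_0) (Obj.mk o1_209) :=
  Reach.step (s := gen .h) (gen_mem_GS (by decide)) r1_187 (gen_smul _ _ _ n1_209)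
theorem r1_210 : Reach GB1 (Obj.mk o1_0) (Obj.mk o1_210) :=
  Reach.step (s := gen .h) (gen_mem_GS (by decide)) r1_189 (gen_smul _ _ _ n1_210)
theorem r1_211 : Reach GB1 (Obj.mk o1_0) (Obj.mk o1_211) :=
  Reach.step (s := gen .e) (gen_mem_GS (by decide)) r1_191 (gen_smul _ _ _ n1_211)
theorem r1_212 : Reach GB1 (Obj.mk o1_0) (Obj.mk o1_212) :=
  Reach.step (s := gen .h) (gen_mem_GS (by decide)) r1_192 (gen_smul _ _ _ n1_212)
theorem r1_213 : Reach GB1 (Obj.mk o1_0) (Obj.mk o1_213) :=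
  Reach.step (s := gen .d) (gen_mem_GS (by decide)) r1_195 (gen_smul _ _ _ n1_213)
theorem r1_214 : Reach GB1 (Obj.mk o1_0) (Obj.mk o1_214) :=
  Reach.step (s := gen .c) (gen_mem_GS (by decide)) r1_196 (gen_smul _ _ _ n1_214)
theorem r1_215 : Reach GB1 (Obj.mk o1_0) (Obj.mk o1_215) :=
  Reach.step (s := gen .d) (gen_mem_GS (by decide)) r1_198 (gen_smul _ _ _ n1_215)
theorem r1_216 : Reach GB1 (Obj.mk o1_0) (Obj.mk o1_216) :=
  Reach.step (s := gen .e) (gen_mem_GS (by decide)) r1_200 (gen_smul _ _ _ n1_216)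
theorem r1_217 : Reach GB1 (Obj.mk o1_0) (Obj.mk o1_217) :=
  Reach.step (s := gen .f) (gen_mem_GS (by decide)) r1_201 (gen_smul _ _ _ n1_217)
theorem r1_218 : Reach GB1 (Obj.mk o1_0) (Obj.mk o1_218) :=
  Reach.step (s := gen .h) (gen_mem_GS (by decide)) r1_201 (gen_smul _ _ _ n1_218)
theorem r1_219 : Reach GB1 (Obj.mk o1_0) (Obj.mk o1_219) :=
  Reach.step (s := gen .e) (gen_mem_GS (by decide)) r1_202 (gen_smul _ _ _ n1_219)
theorem r1_220 : Reach GB1 (Obj.mk o1_0) (Obj.mk o1_220) :=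
  Reach.step (s := gen .h) (gen_mem_GS (by decide)) r1_202 (gen_smul _ _ _ n1_220)
theorem r1_221 : Reach GB1 (Obj.mk o1_0) (Obj.mk o1_221) :=
  Reach.step (s := gen .h) (gen_mem_GS (by decide)) r1_204 (gen_smul _ _ _ n1_221)
theorem r1_222 : Reach GB1 (Obj.mk o1_0) (Obj.mk o1_222) :=
  Reach.step (s := gen .e) (gen_mem_GS (by decide)) r1_207 (gen_smul _ _ _ n1_222)
theorem r1_223 : Reach GB1 (Obj.mk o1_0) (Obj.mk o1_223) :=
  Reach.step (s := gen .h) (gen_mem_GS (by decide)) r1_208 (gen_smul _ _ _ n1_223)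
theorem r1_224 : Reach GB1 (Obj.mk o1_0) (Obj.mk o1_224) :=
  Reach.step (s := gen .d) (gen_mem_GS (by decide)) r1_210 (gen_smul _ _ _ n1_224)
theorem r1_225 : Reach GB1 (Obj.mk o1_0) (Obj.mk o1_225) :=
  Reach.step (s := gen .d) (gen_mem_GS (by decide)) r1_212 (gen_smul _ _ _ n1_225)
theorem r1_226 : Reach GB1 (Obj.mk o1_0) (Obj.mk o1_226) :=
  Reach.step (s := gen .c) (gen_mem_GS (by decide)) r1_213 (gen_smul _ _ _ n1_226)
theorem r1_227 : Reach GB1 (Obj.mk o1_0) (Obj.mk o1_227) :=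
  Reach.step (s := gen .e) (gen_mem_GS (by decide)) r1_215 (gen_smul _ _ _ n1_227)
theorem r1_228 : Reach GB1 (Obj.mk o1_0) (Obj.mk o1_228) :=
  Reach.step (s := gen .e) (gen_mem_GS (by decide)) r1_217 (gen_smul _ _ _ n1_228)
theorem r1_229 : Reach GB1 (Obj.mk o1_0) (Obj.mk o1_229) :=
  Reach.step (s := gen .h) (gen_mem_GS (by decide)) r1_217 (gen_smul _ _ _ n1_229)
theorem r1_230 : Reach GB1 (Obj.mk o1_0) (Obj.mk o1_230) :=
  Reach.step (s := gen .d) (gen_mem_GS (by decide)) r1_218 (gen_smul _ _ _ n1_230)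
theorem r1_231 : Reach GB1 (Obj.mk o1_0) (Obj.mk o1_231) :=
  Reach.step (s := gen .h) (gen_mem_GS (by decide)) r1_219 (gen_smul _ _ _ n1_231)
theorem r1_232 : Reach GB1 (Obj.mk o1_0) (Obj.mk o1_232) :=
  Reach.step (s := gen .d) (gen_mem_GS (by decide)) r1_221 (gen_smul _ _ _ n1_232)
theorem r1_233 : Reach GB1 (Obj.mk o1_0) (Obj.mk o1_233) :=
  Reach.step (s := gen .d) (gen_mem_GS (by decide)) r1_222 (gen_smul _ _ _ n1_233)
theorem r1_234 : Reach GB1 (Obj.mk o1_0) (Obj.mk o1_234) :=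
  Reach.step (s := gen .d) (gen_mem_GS (by decide)) r1_223 (gen_smul _ _ _ n1_234)
theorem r1_235 : Reach GB1 (Obj.mk o1_0) (Obj.mk o1_235) :=
  Reach.step (s := gen .c) (gen_mem_GS (by decide)) r1_224 (gen_smul _ _ _ n1_235)
theorem r1_236 : Reach GB1 (Obj.mk o1_0) (Obj.mk o1_236) :=
  Reach.step (s := gen .f) (gen_mem_GS (by decide)) r1_227 (gen_smul _ _ _ n1_236)
theorem r1_237 : Reach GB1 (Obj.mk o1_0) (Obj.mk o1_237) :=
  Reach.step (s := gen .d) (gen_mem_GS (by decide)) r1_228 (gen_smul _ _ _ n1_237)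
theorem r1_238 : Reach GB1 (Obj.mk o1_0) (Obj.mk o1_238) :=
  Reach.step (s := gen .h) (gen_mem_GS (by decide)) r1_228 (gen_smul _ _ _ n1_238)
theorem r1_239 : Reach GB1 (Obj.mk o1_0) (Obj.mk o1_239) :=
  Reach.step (s := gen .d) (gen_mem_GS (by decide)) r1_229 (gen_smul _ _ _ n1_239)
theorem r1_240 : Reach GB1 (Obj.mk o1_0) (Obj.mk o1_240) :=
  Reach.step (s := gen .e) (gen_mem_GS (by decide)) r1_230 (gen_smul _ _ _ n1_240)
theorem r1_241 : Reach GB1 (Obj.mk o1_0) (Obj.mk o1_241) :=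
  Reach.step (s := gen .d) (gen_mem_GS (by decide)) r1_231 (gen_smul _ _ _ n1_241)
theorem r1_242 : Reach GB1 (Obj.mk o1_0) (Obj.mk o1_242) :=
  Reach.step (s := gen .c) (gen_mem_GS (by decide)) r1_232 (gen_smul _ _ _ n1_242)

def C1_0 : List Obj := [Obj.mk o1_0, Obj.mk o1_1, Obj.mk o1_2, Obj.mk o1_3, Obj.mk o1_4, Obj.mk o1_5, Obj.mk o1_6, Obj.mk o1_7, Obj.mk o1_8, Obj.mk o1_9, Obj.mk o1_10, Obj.mk o1_11, Obj.mk o1_12, Obj.mk o1_13, Obj.mk o1_14, Obj.mk o1_15, Obj.mk o1_16, Obj.mk o1_17, Obj.mk o1_18, Obj.mk o1_19]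
theorem hC1_0 : ∀ y ∈ C1_0, Reach GB1 (Obj.mk o1_0) y := by
  unfold C1_0
  exact List.forall_mem_cons.2 ⟨r1_0, List.forall_mem_cons.2 ⟨r1_1, List.forall_mem_cons.2 ⟨r1_2, List.forall_mem_cons.2 ⟨r1_3, List.forall_mem_cons.2 ⟨r1_4, List.forall_mem_cons.2 ⟨r1_5, List.forall_mem_cons.2 ⟨r1_6, List.forall_mem_cons.2 ⟨r1_7, List.forall_mem_cons.2 ⟨r1_8, List.forall_mem_cons.2 ⟨r1_9, List.forall_mem_cons.2 ⟨r1_10, List.forall_mem_cons.2 ⟨r1_11, List.forall_mem_cons.2 ⟨r1_12, List.forall_mem_cons.2 ⟨r1_13, List.forall_mem_cons.2 ⟨r1_14, List.forall_mem_cons.2 ⟨r1_15, List.forall_mem_cons.2 ⟨r1_16, List.forall_mem_cons.2 ⟨r1_17, List.forall_mem_cons.2 ⟨r1_18, List.forall_mem_cons.2 ⟨r1_19, forall_mem_nil' _⟩⟩⟩⟩⟩⟩⟩⟩⟩⟩⟩⟩⟩⟩⟩⟩⟩⟩⟩⟩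

def C1_1 : List Obj := [Obj.mk o1_20, Obj.mk o1_21, Obj.mk o1_22, Obj.mk o1_23, Obj.mk o1_24, Obj.mk o1_25, Obj.mk o1_26, Obj.mk o1_27, Obj.mk o1_28, Obj.mk o1_29, Obj.mk o1_30, Obj.mk o1_31, Obj.mk o1_32, Obj.mk o1_33, Obj.mk o1_34, Obj.mk o1_35, Obj.mk o1_36, Obj.mk o1_37, Obj.mk o1_38, Obj.mk o1_39]
theorem hC1_1 : ∀ y ∈ C1_1, Reach GB1 (Obj.mk o1_0) y := by
  unfold C1_1
  exact List.forall_mem_cons.2 ⟨r1_20, List.forall_mem_cons.2 ⟨r1_21, List.forall_mem_cons.2 ⟨r1_22, List.forall_mem_cons.2 ⟨r1_23, List.forall_mem_cons.2 ⟨r1_24, List.forall_mem_cons.2 ⟨r1_25, List.forall_mem_cons.2 ⟨r1_26, List.forall_mem_cons.2 ⟨r1_27, List.forall_mem_cons.2 ⟨r1_28, List.forall_mem_cons.2 ⟨r1_29, List.forall_mem_cons.2 ⟨r1_30, List.forall_mem_cons.2 ⟨r1_31, List.forall_mem_cons.2 ⟨r1_32, List.forall_mem_cons.2 ⟨r1_33, List.forall_mem_cons.2 ⟨r1_34, List.forall_mem_cons.2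 ⟨r1_35, List.forall_mem_cons.2 ⟨r1_36, List.forall_mem_cons.2 ⟨r1_37, List.forall_mem_cons.2 ⟨r1_38, List.forall_mem_cons.2 ⟨r1_39, forall_mem_nil' _⟩⟩⟩⟩⟩⟩⟩⟩⟩⟩⟩⟩⟩⟩⟩⟩⟩⟩⟩⟩

def C1_2 : List Obj := [Obj.mk o1_40, Obj.mk o1_41, Obj.mk o1_42, Obj.mk o1_43, Obj.mk o1_44, Obj.mk o1_45, Obj.mk o1_46, Obj.mk o1_47, Obj.mk o1_48, Obj.mk o1_49, Obj.mk o1_50, Obj.mk o1_51, Obj.mk o1_52, Obj.mk o1_53, Obj.mk o1_54, Obj.mk o1_55, Obj.mk o1_56, Obj.mk o1_57, Obj.mk o1_58, Obj.mk o1_59]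
theorem hC1_2 : ∀ y ∈ C1_2, Reach GB1 (Obj.mk o1_0) y := by
  unfold C1_2
  exact List.forall_mem_cons.2 ⟨r1_40, List.forall_mem_cons.2 ⟨r1_41, List.forall_mem_cons.2 ⟨r1_42, List.forall_mem_cons.2 ⟨r1_43, List.forall_mem_cons.2 ⟨r1_44, List.forall_mem_cons.2 ⟨r1_45, List.forall_mem_cons.2 ⟨r1_46, List.forall_mem_cons.2 ⟨r1_47, List.forall_mem_cons.2 ⟨r1_48, List.forall_mem_cons.2 ⟨r1_49, List.forall_mem_cons.2 ⟨r1_50, List.forall_mem_cons.2 ⟨r1_51, List.forall_mem_cons.2 ⟨r1_52, List.forall_mem_cons.2 ⟨r1_53, List.forall_mem_cons.2 ⟨r1_54, List.forall_mem_cons.2 ⟨r1_55, List.forall_mem_cons.2 ⟨r1_56, List.forall_mem_cons.2 ⟨r1_57, List.forall_mem_cons.2 ⟨r1_58, List.forall_mem_cons.2 ⟨r1_59, forall_mem_nil' _⟩⟩⟩⟩⟩⟩⟩⟩⟩⟩⟩⟩⟩⟩⟩⟩⟩⟩⟩⟩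

def C1_3 : List Obj := [Obj.mk o1_60, Obj.mk o1_61, Obj.mk o1_62, Obj.mk o1_63, Obj.mk o1_64, Obj.mk o1_65, Obj.mk o1_66, Obj.mk o1_67, Obj.mk o1_68, Obj.mk o1_69, Obj.mk o1_70, Obj.mk o1_71, Obj.mk o1_72, Obj.mk o1_73, Obj.mk o1_74, Obj.mk o1_75, Obj.mk o1_76, Obj.mk o1_77, Obj.mk o1_78, Obj.mk o1_79]
theorem hC1_3 : ∀ y ∈ C1_3, Reach GB1 (Obj.mk o1_0) y := by
  unfold C1_3
  exact List.forall_mem_cons.2 ⟨r1_60, List.forall_mem_cons.2 ⟨r1_61, List.forall_mem_cons.2 ⟨r1_62, List.forall_mem_cons.2 ⟨r1_63, List.forall_mem_cons.2 ⟨r1_64, List.forall_mem_cons.2 ⟨r1_65, List.forall_mem_cons.2 ⟨r1_66, List.forall_mem_cons.2 ⟨r1_67, List.forall_mem_cons.2 ⟨r1_68, List.forall_mem_cons.2 ⟨r1_69, List.forall_mem_cons.2 ⟨r1_70, List.forall_mem_cons.2 ⟨r1_71, List.forall_mem_cons.2 ⟨r1_72, List.forall_mem_cons.2 ⟨r1_73, List.forall_mem_cons.2 ⟨r1_74, List.forall_mem_cons.2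 ⟨r1_75, List.forall_mem_cons.2 ⟨r1_76, List.forall_mem_cons.2 ⟨r1_77, List.forall_mem_cons.2 ⟨r1_78, List.forall_mem_cons.2 ⟨r1_79, forall_mem_nil' _⟩⟩⟩⟩⟩⟩⟩⟩⟩⟩⟩⟩⟩⟩⟩⟩⟩⟩⟩⟩

def C1_4 : List Obj := [Obj.mk o1_80, Obj.mk o1_81, Obj.mk o1_82, Obj.mk o1_83, Obj.mk o1_84, Obj.mk o1_85, Obj.mk o1_86, Obj.mk o1_87, Obj.mk o1_88, Obj.mk o1_89, Obj.mk o1_90, Obj.mk o1_91, Obj.mk o1_92, Obj.mk o1_93, Obj.mk o1_94, Obj.mk o1_95, Obj.mk o1_96, Obj.mk o1_97, Obj.mk o1_98, Obj.mk o1_99]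
theorem hC1_4 : ∀ y ∈ C1_4, Reach GB1 (Obj.mk o1_0) y := by
  unfold C1_4
  exact List.forall_mem_cons.2 ⟨r1_80, List.forall_mem_cons.2 ⟨r1_81, List.forall_mem_cons.2 ⟨r1_82, List.forall_mem_cons.2 ⟨r1_83, List.forall_mem_cons.2 ⟨r1_84, List.forall_mem_cons.2 ⟨r1_85, List.forall_mem_cons.2 ⟨r1_86, List.forall_mem_cons.2 ⟨r1_87, List.forall_mem_cons.2 ⟨r1_88, List.forall_mem_cons.2 ⟨r1_89, List.forall_mem_cons.2 ⟨r1_90, List.forall_mem_cons.2 ⟨r1_91, List.forall_mem_cons.2 ⟨r1_92, List.forall_mem_cons.2 ⟨r1_93, List.forall_mem_cons.2 ⟨r1_94, List.forall_mem_cons.2 ⟨r1_95, List.forall_mem_cons.2 ⟨r1_96, List.forall_mem_cons.2 ⟨r1_97, List.forall_mem_cons.2 ⟨r1_98, List.forall_mem_cons.2 ⟨r1_99, forall_mem_nil' _⟩⟩⟩⟩⟩⟩⟩⟩⟩⟩⟩⟩⟩⟩⟩⟩⟩⟩⟩⟩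

def C1_5 : List Obj := [Obj.mk o1_100, Obj.mk o1_101, Obj.mk o1_102, Obj.mk o1_103, Obj.mk o1_104, Obj.mk o1_105, Obj.mk o1_106, Obj.mk o1_107, Obj.mk o1_108, Obj.mk o1_109, Obj.mk o1_110, Obj.mk o1_111, Obj.mk o1_112, Obj.mk o1_113, Obj.mk o1_114, Obj.mk o1_115, Obj.mk o1_116, Obj.mk o1_117, Obj.mk o1_118, Obj.mk o1_119]
theorem hC1_5 : ∀ y ∈ C1_5, Reach GB1 (Obj.mk o1_0) y := by
  unfold C1_5
  exact List.forall_mem_cons.2 ⟨r1_100, List.forall_mem_cons.2 ⟨r1_101, List.forall_mem_cons.2 ⟨r1_102, List.forall_mem_cons.2 ⟨r1_103, List.forall_mem_cons.2 ⟨r1_104, List.forall_mem_cons.2 ⟨r1_105, List.forall_mem_cons.2 ⟨r1_106, List.forall_mem_cons.2 ⟨r1_107, List.forall_mem_cons.2 ⟨r1_108, List.forall_mem_cons.2 ⟨r1_109, List.forall_mem_cons.2 ⟨r1_110, List.forall_mem_cons.2 ⟨r1_111, List.forall_mem_cons.2 ⟨r1_112, List.forall_mem_cons.2 ⟨r1_113, List.forall_mem_cons.2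 ⟨r1_114, List.forall_mem_cons.2 ⟨r1_115, List.forall_mem_cons.2 ⟨r1_116, List.forall_mem_cons.2 ⟨r1_117, List.forall_mem_cons.2 ⟨r1_118, List.forall_mem_cons.2 ⟨r1_119, forall_mem_nil' _⟩⟩⟩⟩⟩⟩⟩⟩⟩⟩⟩⟩⟩⟩⟩⟩⟩⟩⟩⟩

def C1_6 : List Obj := [Obj.mk o1_120, Obj.mk o1_121, Obj.mk o1_122, Obj.mk o1_123, Obj.mk o1_124, Obj.mk o1_125, Obj.mk o1_126, Obj.mk o1_127, Obj.mk o1_128, Obj.mk o1_129, Obj.mk o1_130, Obj.mk o1_131, Obj.mk o1_132, Obj.mk o1_133, Obj.mk o1_134, Obj.mk o1_135, Obj.mk o1_136, Obj.mk o1_137, Obj.mk o1_138, Obj.mk o1_139]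
theorem hC1_6 : ∀ y ∈ C1_6, Reach GB1 (Obj.mk o1_0) y := by
  unfold C1_6
  exact List.forall_mem_cons.2 ⟨r1_120, List.forall_mem_cons.2 ⟨r1_121, List.forall_mem_cons.2 ⟨r1_122, List.forall_mem_cons.2 ⟨r1_123, List.forall_mem_cons.2 ⟨r1_124, List.forall_mem_cons.2 ⟨r1_125, List.forall_mem_cons.2 ⟨r1_126, List.forall_mem_cons.2 ⟨r1_127, List.forall_mem_cons.2 ⟨r1_128, List.forall_mem_cons.2 ⟨r1_129, List.forall_mem_cons.2 ⟨r1_130, List.forall_mem_cons.2 ⟨r1_131, List.forall_mem_cons.2 ⟨r1_132, List.forall_mem_cons.2 ⟨r1_133, List.forall_mem_cons.2 ⟨r1_134, List.forall_mem_cons.2 ⟨r1_135, List.forall_mem_cons.2 ⟨r1_136, List.forall_mem_cons.2 ⟨r1_137, List.forall_mem_cons.2 ⟨r1_138, List.forall_mem_cons.2 ⟨r1_139, forall_mem_nil' _⟩⟩⟩⟩⟩⟩⟩⟩⟩⟩⟩⟩⟩⟩⟩⟩⟩⟩⟩⟩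

def C1_7 : List Obj := [Obj.mk o1_140, Obj.mk o1_141, Obj.mk o1_142, Obj.mk o1_143, Obj.mk o1_144, Obj.mk o1_145, Obj.mk o1_146, Obj.mk o1_147, Obj.mk o1_148, Obj.mk o1_149, Obj.mk o1_150, Obj.mk o1_151, Obj.mk o1_152, Obj.mk o1_153, Obj.mk o1_154, Obj.mk o1_155, Obj.mk o1_156, Obj.mk o1_157, Obj.mk o1_158, Obj.mk o1_159]
theorem hC1_7 : ∀ y ∈ C1_7, Reach GB1 (Obj.mk o1_0) y := by
  unfold C1_7
  exact List.forall_mem_cons.2 ⟨r1_140, List.forall_mem_cons.2 ⟨r1_141, List.forall_mem_cons.2 ⟨r1_142, List.forall_mem_cons.2 ⟨r1_143, List.forall_mem_cons.2 ⟨r1_144, List.forall_mem_cons.2 ⟨r1_145, List.forall_mem_cons.2 ⟨r1_146, List.forall_mem_cons.2 ⟨r1_147, List.forall_mem_cons.2 ⟨r1_148, List.forall_mem_cons.2 ⟨r1_149, List.forall_mem_cons.2 ⟨r1_150, List.forall_mem_cons.2 ⟨r1_151, List.forall_mem_cons.2 ⟨r1_152, List.forall_mem_cons.2 ⟨r1_153, List.forall_mem_cons.2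 ⟨r1_154, List.forall_mem_cons.2 ⟨r1_155, List.forall_mem_cons.2 ⟨r1_156, List.forall_mem_cons.2 ⟨r1_157, List.forall_mem_cons.2 ⟨r1_158, List.forall_mem_cons.2 ⟨r1_159, forall_mem_nil' _⟩⟩⟩⟩⟩⟩⟩⟩⟩⟩⟩⟩⟩⟩⟩⟩⟩⟩⟩⟩

def C1_8 : List Obj := [Obj.mk o1_160, Obj.mk o1_161, Obj.mk o1_162, Obj.mk o1_163, Obj.mk o1_164, Obj.mk o1_165, Obj.mk o1_166, Obj.mk o1_167, Obj.mk o1_168, Obj.mk o1_169, Obj.mk o1_170, Obj.mk o1_171, Obj.mk o1_172, Obj.mk o1_173, Obj.mk o1_174, Obj.mk o1_175, Obj.mk o1_176, Obj.mk o1_177, Obj.mk o1_178, Obj.mk o1_179]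
theorem hC1_8 : ∀ y ∈ C1_8, Reach GB1 (Obj.mk o1_0) y := by
  unfold C1_8
  exact List.forall_mem_cons.2 ⟨r1_160, List.forall_mem_cons.2 ⟨r1_161, List.forall_mem_cons.2 ⟨r1_162, List.forall_mem_cons.2 ⟨r1_163, List.forall_mem_cons.2 ⟨r1_164, List.forall_mem_cons.2 ⟨r1_165, List.forall_mem_cons.2 ⟨r1_166, List.forall_mem_cons.2 ⟨r1_167, List.forall_mem_cons.2 ⟨r1_168, List.forall_mem_cons.2 ⟨r1_169, List.forall_mem_cons.2 ⟨r1_170, List.forall_mem_cons.2 ⟨r1_171, List.forall_mem_cons.2 ⟨r1_172, List.forall_mem_cons.2 ⟨r1_173, List.forall_mem_cons.2 ⟨r1_174, List.forall_mem_cons.2 ⟨r1_175, List.forall_mem_cons.2 ⟨r1_176, List.forall_mem_cons.2 ⟨r1_177, List.forall_mem_cons.2 ⟨r1_178, List.forall_mem_cons.2 ⟨r1_179, forall_mem_nil' _⟩⟩⟩⟩⟩⟩⟩⟩⟩⟩⟩⟩⟩⟩⟩⟩⟩⟩⟩⟩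

def C1_9 : List Obj := [Obj.mk o1_180, Obj.mk o1_181, Obj.mk o1_182, Obj.mk o1_183, Obj.mk o1_184, Obj.mk o1_185, Obj.mk o1_186, Obj.mk o1_187, Obj.mk o1_188, Obj.mk o1_189, Obj.mk o1_190, Obj.mk o1_191, Obj.mk o1_192, Obj.mk o1_193, Obj.mk o1_194, Obj.mk o1_195, Obj.mk o1_196, Obj.mk o1_197, Obj.mk o1_198, Obj.mk o1_199]
theorem hC1_9 : ∀ y ∈ C1_9, Reach GB1 (Obj.mk o1_0) y := by
  unfold C1_9
  exact List.forall_mem_cons.2 ⟨r1_180, List.forall_mem_cons.2 ⟨r1_181, List.forall_mem_cons.2 ⟨r1_182, List.forall_mem_cons.2 ⟨r1_183, List.forall_mem_cons.2 ⟨r1_184, List.forall_mem_cons.2 ⟨r1_185, List.forall_mem_cons.2 ⟨r1_186, List.forall_mem_cons.2 ⟨r1_187, List.forall_mem_cons.2 ⟨r1_188, List.forall_mem_cons.2 ⟨r1_189, List.forall_mem_cons.2 ⟨r1_190, List.forall_mem_cons.2 ⟨r1_191, List.forall_mem_cons.2 ⟨r1_192, List.forall_mem_cons.2 ⟨r1_193, List.forall_mem_cons.2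 ⟨r1_194, List.forall_mem_cons.2 ⟨r1_195, List.forall_mem_cons.2 ⟨r1_196, List.forall_mem_cons.2 ⟨r1_197, List.forall_mem_cons.2 ⟨r1_198, List.forall_mem_cons.2 ⟨r1_199, forall_mem_nil' _⟩⟩⟩⟩⟩⟩⟩⟩⟩⟩⟩⟩⟩⟩⟩⟩⟩⟩⟩⟩

def C1_10 : List Obj := [Obj.mk o1_200, Obj.mk o1_201, Obj.mk o1_202, Obj.mk o1_203, Obj.mk o1_204, Obj.mk o1_205, Obj.mk o1_206, Obj.mk o1_207, Obj.mk o1_208, Obj.mk o1_209, Obj.mk o1_210, Obj.mk o1_211, Obj.mk o1_212, Obj.mk o1_213, Obj.mk o1_214, Obj.mk o1_215, Obj.mk o1_216, Obj.mk o1_217, Obj.mk o1_218, Obj.mk o1_219]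
theorem hC1_10 : ∀ y ∈ C1_10, Reach GB1 (Obj.mk o1_0) y := by
  unfold C1_10
  exact List.forall_mem_cons.2 ⟨r1_200, List.forall_mem_cons.2 ⟨r1_201, List.forall_mem_cons.2 ⟨r1_202, List.forall_mem_cons.2 ⟨r1_203, List.forall_mem_cons.2 ⟨r1_204, List.forall_mem_cons.2 ⟨r1_205, List.forall_mem_cons.2 ⟨r1_206, List.forall_mem_cons.2 ⟨r1_207, List.forall_mem_cons.2 ⟨r1_208, List.forall_mem_cons.2 ⟨r1_209, List.forall_mem_cons.2 ⟨r1_210, List.forall_mem_cons.2 ⟨r1_211, List.forall_mem_cons.2 ⟨r1_212, List.forall_mem_cons.2 ⟨r1_213, List.forall_mem_cons.2 ⟨r1_214, List.forall_mem_cons.2 ⟨r1_215, List.forall_mem_cons.2 ⟨r1_216, List.forall_mem_cons.2 ⟨r1_217, List.forall_mem_cons.2 ⟨r1_218, List.forall_mem_cons.2 ⟨r1_219, forall_mem_nil' _⟩⟩⟩⟩⟩⟩⟩⟩⟩⟩⟩⟩⟩⟩⟩⟩⟩⟩⟩⟩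

def C1_11 : List Obj := [Obj.mk o1_220, Obj.mk o1_221, Obj.mk o1_222, Obj.mk o1_223, Obj.mk o1_224, Obj.mk o1_225, Obj.mk o1_226, Obj.mk o1_227, Obj.mk o1_228, Obj.mk o1_229, Obj.mk o1_230, Obj.mk o1_231, Obj.mk o1_232, Obj.mk o1_233, Obj.mk o1_234, Obj.mk o1_235, Obj.mk o1_236, Obj.mk o1_237, Obj.mk o1_238, Obj.mk o1_239]
theorem hC1_11 : ∀ y ∈ C1_11, Reach GB1 (Obj.mk o1_0) y := by
  unfold C1_11
  exact List.forall_mem_cons.2 ⟨r1_220, List.forall_mem_cons.2 ⟨r1_221, List.forall_mem_cons.2 ⟨r1_222, List.forall_mem_cons.2 ⟨r1_223, List.forall_mem_cons.2 ⟨r1_224, List.forall_mem_cons.2 ⟨r1_225, List.forall_mem_cons.2 ⟨r1_226, List.forall_mem_cons.2 ⟨r1_227, List.forall_mem_cons.2 ⟨r1_228, List.forall_mem_cons.2 ⟨r1_229, List.forall_mem_cons.2 ⟨r1_230, List.forall_mem_cons.2 ⟨r1_231, List.forall_mem_cons.2 ⟨r1_232, List.forall_mem_cons.2 ⟨r1_233, List.forall_mem_cons.2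 ⟨r1_234, List.forall_mem_cons.2 ⟨r1_235, List.forall_mem_cons.2 ⟨r1_236, List.forall_mem_cons.2 ⟨r1_237, List.forall_mem_cons.2 ⟨r1_238, List.forall_mem_cons.2 ⟨r1_239, forall_mem_nil' _⟩⟩⟩⟩⟩⟩⟩⟩⟩⟩⟩⟩⟩⟩⟩⟩⟩⟩⟩⟩

def C1_12 : List Obj := [Obj.mk o1_240, Obj.mk o1_241, Obj.mk o1_242]
theorem hC1_12 : ∀ y ∈ C1_12, Reach GB1 (Obj.mk o1_0) y := by
  unfold C1_12
  exact List.forall_mem_cons.2 ⟨r1_240, List.forall_mem_cons.2 ⟨r1_241, List.forall_mem_cons.2 ⟨r1_242, forall_mem_nil' _⟩⟩⟩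

def LL1 : List Obj := C1_0 ++ C1_1 ++ C1_2 ++ C1_3 ++ C1_4 ++ C1_5 ++ C1_6 ++ C1_7 ++ C1_8 ++ C1_9 ++ C1_10 ++ C1_11 ++ C1_12
theorem hLL1 : ∀ y ∈ LL1, Reach GB1 (Obj.mk o1_0) y := by
  unfold LL1
  exact List.forall_mem_append.2 ⟨List.forall_mem_append.2 ⟨List.forall_mem_append.2 ⟨List.forall_mem_append.2 ⟨List.forall_mem_append.2 ⟨List.forall_mem_append.2 ⟨List.forall_mem_append.2 ⟨List.forall_mem_append.2 ⟨List.forall_mem_append.2 ⟨List.forall_mem_append.2 ⟨List.forall_mem_append.2 ⟨List.forall_mem_append.2 ⟨hC1_0, hC1_1⟩, hC1_2⟩, hC1_3⟩, hC1_4⟩, hC1_5⟩, hC1_6⟩, hC1_7⟩, hC1_8⟩, hC1_9⟩, hC1_10⟩, hC1_11⟩, hC1_12⟩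
theorem len1 : LL1.length = 243 := by decide +kernel
theorem nodupKey1 : (LL1.map key).Nodup := by decide +kernel
theorem nodup1 : LL1.Nodup := List.Nodup.of_map key nodupKey1

theorem level1 : 243 * Nat.card (Subgroup.closure GK1) ≤ Nat.card (Subgroup.closure GB1) := by
  have h := card_ge_mul (Subgroup.closure GB1) (Subgroup.closure GK1) (Obj.mk o1_0) le1 fix1 LL1 nodup1 hLL1
  rwa [len1] at h

end Cfsg.Agent.Lead.O73
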