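import Cfsg.Agent.Lib.Lead.O73.Node2_0

/-! # O73: level 2: the orbit of `o2_0` under `Bcdefh` has at least 72 elements, and `Bcdef` fixes `o2_0` -/

set_option autoImplicit false
set_option maxRecDepth 100000

namespace Cfsg.Agent.Lead.O73

open Cfsg.Spor.Fi22 (Gen)

/-- generators of the group of level 2 -/
abbrev GB2 : Set GL7 := GS [.c, .d, .e, .f, .h] true
/-- generators of the stabilising subgroup of level 2 -/
abbrev GK2 : Set GL7 := GS [.c, .d, .e, .f] true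

theorem le2 : Subgroup.closure GK2 ≤ Subgroup.closure GB2 :=
  closure_GS_le (by decide) (fun _ => Subgroup.subset_closure gB_mem_GS)

theorem fixL2 : ∀ x ∈ ([.c, .d, .e, .f] : List Gen), M x * o2_0 * (M x).transpose = o2_0 := by decide +kernel
theorem fixB2 : MB * o2_0 * MB.transpose = o2_0 := by decide +kernel
theorem fix2 : ∀ k ∈ Subgroup.closure GK2, k • Obj.mk o2_0 = Obj.mk o2_0 :=
  closure_fix _ _ (GS_fix o2_0 fixL2 (fun _ => fixB2))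

theorem r2_0 : Reach GB2 (Obj.mk o2_0) (Obj.mk o2_0) := Reach.refl _ _
theorem r2_1 : Reach GB2 (Obj.mk o2_0) (Obj.mk o2_1) :=
  Reach.step (s := gen .h) (gen_mem_GS (by decide)) r2_0 (gen_smul _ _ _ n2_1)
theorem r2_2 : Reach GB2 (Obj.mk o2_0) (Obj.mk o2_2) :=
  Reach.step (s := gen .d) (gen_mem_GS (by decide)) r2_1 (gen_smul _ _ _ n2_2)
theorem r2_3 : Reach GB2 (Obj.mk o2_0) (Obj.mk o2_3) :=
  Reach.step (s := gen .c) (gen_mem_GS (by decide)) r2_2 (gen_smul _ _ _ n2_3)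
theorem r2_4 : Reach GB2 (Obj.mk o2_0) (Obj.mk o2_4) :=
  Reach.step (s := gen .e) (gen_mem_GS (by decide)) r2_2 (gen_smul _ _ _ n2_4)
theorem r2_5 : Reach GB2 (Obj.mk o2_0) (Obj.mk o2_5) :=
  Reach.step (s := gB) gB_mem_GS r2_3 (gB_smul _ _ n2_5)
theorem r2_6 : Reach GB2 (Obj.mk o2_0) (Obj.mk o2_6) :=
  Reach.step (s := gen .e) (gen_mem_GS (by decide)) r2_3 (gen_smul _ _ _ n2_6)
theorem r2_7 : Reach GB2 (Obj.mk o2_0) (Obj.mk o2_7) :=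
  Reach.step (s := gen .f) (gen_mem_GS (by decide)) r2_4 (gen_smul _ _ _ n2_7)
theorem r2_8 : Reach GB2 (Obj.mk o2_0) (Obj.mk o2_8) :=
  Reach.step (s := gen .e) (gen_mem_GS (by decide)) r2_5 (gen_smul _ _ _ n2_8)
theorem r2_9 : Reach GB2 (Obj.mk o2_0) (Obj.mk o2_9) :=
  Reach.step (s := gen .d) (gen_mem_GS (by decide)) r2_6 (gen_smul _ _ _ n2_9)
theorem r2_10 : Reach GB2 (Obj.mk o2_0) (Obj.mk o2_10) :=
  Reach.step (s := gen .f) (gen_mem_GS (by decide)) r2_6 (gen_smul _ _ _ n2_10)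
theorem r2_11 : Reach GB2 (Obj.mk o2_0) (Obj.mk o2_11) :=
  Reach.step (s := gen .d) (gen_mem_GS (by decide)) r2_8 (gen_smul _ _ _ n2_11)
theorem r2_12 : Reach GB2 (Obj.mk o2_0) (Obj.mk o2_12) :=
  Reach.step (s := gen .f) (gen_mem_GS (by decide)) r2_8 (gen_smul _ _ _ n2_12)
theorem r2_13 : Reach GB2 (Obj.mk o2_0) (Obj.mk o2_13) :=
  Reach.step (s := gen .f) (gen_mem_GS (by decide)) r2_9 (gen_smul _ _ _ n2_13)
theorem r2_14 : Reach GB2 (Obj.mk o2_0) (Obj.mk o2_14) :=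
  Reach.step (s := gen .h) (gen_mem_GS (by decide)) r2_9 (gen_smul _ _ _ n2_14)
theorem r2_15 : Reach GB2 (Obj.mk o2_0) (Obj.mk o2_15) :=
  Reach.step (s := gen .c) (gen_mem_GS (by decide)) r2_11 (gen_smul _ _ _ n2_15)
theorem r2_16 : Reach GB2 (Obj.mk o2_0) (Obj.mk o2_16) :=
  Reach.step (s := gen .f) (gen_mem_GS (by decide)) r2_11 (gen_smul _ _ _ n2_16)
theorem r2_17 : Reach GB2 (Obj.mk o2_0) (Obj.mk o2_17) :=
  Reach.step (s := gen .h) (gen_mem_GS (by decide)) r2_11 (gen_smul _ _ _ n2_17)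
theorem r2_18 : Reach GB2 (Obj.mk o2_0) (Obj.mk o2_18) :=
  Reach.step (s := gen .e) (gen_mem_GS (by decide)) r2_13 (gen_smul _ _ _ n2_18)
theorem r2_19 : Reach GB2 (Obj.mk o2_0) (Obj.mk o2_19) :=
  Reach.step (s := gen .h) (gen_mem_GS (by decide)) r2_13 (gen_smul _ _ _ n2_19)
theorem r2_20 : Reach GB2 (Obj.mk o2_0) (Obj.mk o2_20) :=
  Reach.step (s := gen .f) (gen_mem_GS (by decide)) r2_15 (gen_smul _ _ _ n2_20)
theorem r2_21 : Reach GB2 (Obj.mk o2_0) (Obj.mk o2_21) :=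
  Reach.step (s := gen .h) (gen_mem_GS (by decide)) r2_15 (gen_smul _ _ _ n2_21)
theorem r2_22 : Reach GB2 (Obj.mk o2_0) (Obj.mk o2_22) :=
  Reach.step (s := gen .e) (gen_mem_GS (by decide)) r2_16 (gen_smul _ _ _ n2_22)
theorem r2_23 : Reach GB2 (Obj.mk o2_0) (Obj.mk o2_23) :=
  Reach.step (s := gen .h) (gen_mem_GS (by decide)) r2_16 (gen_smul _ _ _ n2_23)
theorem r2_24 : Reach GB2 (Obj.mk o2_0) (Obj.mk o2_24) :=
  Reach.step (s := gen .h) (gen_mem_GS (by decide)) r2_18 (gen_smul _ _ _ n2_24)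
theorem r2_25 : Reach GB2 (Obj.mk o2_0) (Obj.mk o2_25) :=
  Reach.step (s := gen .e) (gen_mem_GS (by decide)) r2_20 (gen_smul _ _ _ n2_25)
theorem r2_26 : Reach GB2 (Obj.mk o2_0) (Obj.mk o2_26) :=
  Reach.step (s := gen .h) (gen_mem_GS (by decide)) r2_20 (gen_smul _ _ _ n2_26)
theorem r2_27 : Reach GB2 (Obj.mk o2_0) (Obj.mk o2_27) :=
  Reach.step (s := gen .d) (gen_mem_GS (by decide)) r2_21 (gen_smul _ _ _ n2_27)
theorem r2_28 : Reach GB2 (Obj.mk o2_0) (Obj.mk o2_28) :=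
  Reach.step (s := gen .h) (gen_mem_GS (by decide)) r2_22 (gen_smul _ _ _ n2_28)
theorem r2_29 : Reach GB2 (Obj.mk o2_0) (Obj.mk o2_29) :=
  Reach.step (s := gen .d) (gen_mem_GS (by decide)) r2_24 (gen_smul _ _ _ n2_29)
theorem r2_30 : Reach GB2 (Obj.mk o2_0) (Obj.mk o2_30) :=
  Reach.step (s := gen .d) (gen_mem_GS (by decide)) r2_25 (gen_smul _ _ _ n2_30)
theorem r2_31 : Reach GB2 (Obj.mk o2_0) (Obj.mk o2_31) :=
  Reach.step (s := gen .h) (gen_mem_GS (by decide)) r2_25 (gen_smul _ _ _ n2_31)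
theorem r2_32 : Reach GB2 (Obj.mk o2_0) (Obj.mk o2_32) :=
  Reach.step (s := gen .d) (gen_mem_GS (by decide)) r2_26 (gen_smul _ _ _ n2_32)
theorem r2_33 : Reach GB2 (Obj.mk o2_0) (Obj.mk o2_33) :=
  Reach.step (s := gen .e) (gen_mem_GS (by decide)) r2_27 (gen_smul _ _ _ n2_33)
theorem r2_34 : Reach GB2 (Obj.mk o2_0) (Obj.mk o2_34) :=
  Reach.step (s := gen .d) (gen_mem_GS (by decide)) r2_28 (gen_smul _ _ _ n2_34)
theorem r2_35 : Reach GB2 (Obj.mk o2_0) (Obj.mk o2_35) :=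
  Reach.step (s := gen .c) (gen_mem_GS (by decide)) r2_29 (gen_smul _ _ _ n2_35)
theorem r2_36 : Reach GB2 (Obj.mk o2_0) (Obj.mk o2_36) :=
  Reach.step (s := gen .h) (gen_mem_GS (by decide)) r2_30 (gen_smul _ _ _ n2_36)
theorem r2_37 : Reach GB2 (Obj.mk o2_0) (Obj.mk o2_37) :=
  Reach.step (s := gen .d) (gen_mem_GS (by decide)) r2_31 (gen_smul _ _ _ n2_37)
theorem r2_38 : Reach GB2 (Obj.mk o2_0) (Obj.mk o2_38) :=
  Reach.step (s := gen .e) (gen_mem_GS (by decide)) r2_32 (gen_smul _ _ _ n2_38)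
theorem r2_39 : Reach GB2 (Obj.mk o2_0) (Obj.mk o2_39) :=
  Reach.step (s := gen .f) (gen_mem_GS (by decide)) r2_33 (gen_smul _ _ _ n2_39)
theorem r2_40 : Reach GB2 (Obj.mk o2_0) (Obj.mk o2_40) :=
  Reach.step (s := gen .c) (gen_mem_GS (by decide)) r2_34 (gen_smul _ _ _ n2_40)
theorem r2_41 : Reach GB2 (Obj.mk o2_0) (Obj.mk o2_41) :=
  Reach.step (s := gB) gB_mem_GS r2_35 (gB_smul _ _ n2_41)
theorem r2_42 : Reach GB2 (Obj.mk o2_0) (Obj.mk o2_42) :=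
  Reach.step (s := gen .d) (gen_mem_GS (by decide)) r2_36 (gen_smul _ _ _ n2_42)
theorem r2_43 : Reach GB2 (Obj.mk o2_0) (Obj.mk o2_43) :=
  Reach.step (s := gen .c) (gen_mem_GS (by decide)) r2_37 (gen_smul _ _ _ n2_43)
theorem r2_44 : Reach GB2 (Obj.mk o2_0) (Obj.mk o2_44) :=
  Reach.step (s := gen .e) (gen_mem_GS (by decide)) r2_37 (gen_smul _ _ _ n2_44)
theorem r2_45 : Reach GB2 (Obj.mk o2_0) (Obj.mk o2_45) :=
  Reach.step (s := gen .f) (gen_mem_GS (by decide)) r2_38 (gen_smul _ _ _ n2_45)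
theorem r2_46 : Reach GB2 (Obj.mk o2_0) (Obj.mk o2_46) :=
  Reach.step (s := gB) gB_mem_GS r2_40 (gB_smul _ _ n2_46)
theorem r2_47 : Reach GB2 (Obj.mk o2_0) (Obj.mk o2_47) :=
  Reach.step (s := gen .c) (gen_mem_GS (by decide)) r2_42 (gen_smul _ _ _ n2_47)
theorem r2_48 : Reach GB2 (Obj.mk o2_0) (Obj.mk o2_48) :=
  Reach.step (s := gen .e) (gen_mem_GS (by decide)) r2_42 (gen_smul _ _ _ n2_48)
theorem r2_49 : Reach GB2 (Obj.mk o2_0) (Obj.mk o2_49) :=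
  Reach.step (s := gB) gB_mem_GS r2_43 (gB_smul _ _ n2_49)
theorem r2_50 : Reach GB2 (Obj.mk o2_0) (Obj.mk o2_50) :=
  Reach.step (s := gen .e) (gen_mem_GS (by decide)) r2_43 (gen_smul _ _ _ n2_50)
theorem r2_51 : Reach GB2 (Obj.mk o2_0) (Obj.mk o2_51) :=
  Reach.step (s := gen .f) (gen_mem_GS (by decide)) r2_44 (gen_smul _ _ _ n2_51)
theorem r2_52 : Reach GB2 (Obj.mk o2_0) (Obj.mk o2_52) :=
  Reach.step (s := gB) gB_mem_GS r2_47 (gB_smul _ _ n2_52)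
theorem r2_53 : Reach GB2 (Obj.mk o2_0) (Obj.mk o2_53) :=
  Reach.step (s := gen .e) (gen_mem_GS (by decide)) r2_47 (gen_smul _ _ _ n2_53)
theorem r2_54 : Reach GB2 (Obj.mk o2_0) (Obj.mk o2_54) :=
  Reach.step (s := gen .f) (gen_mem_GS (by decide)) r2_48 (gen_smul _ _ _ n2_54)
theorem r2_55 : Reach GB2 (Obj.mk o2_0) (Obj.mk o2_55) :=
  Reach.step (s := gen .e) (gen_mem_GS (by decide)) r2_49 (gen_smul _ _ _ n2_55)
theorem r2_56 : Reach GB2 (Obj.mk o2_0) (Obj.mk o2_56) :=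
  Reach.step (s := gen .f) (gen_mem_GS (by decide)) r2_50 (gen_smul _ _ _ n2_56)
theorem r2_57 : Reach GB2 (Obj.mk o2_0) (Obj.mk o2_57) :=
  Reach.step (s := gen .e) (gen_mem_GS (by decide)) r2_52 (gen_smul _ _ _ n2_57)
theorem r2_58 : Reach GB2 (Obj.mk o2_0) (Obj.mk o2_58) :=
  Reach.step (s := gen .d) (gen_mem_GS (by decide)) r2_53 (gen_smul _ _ _ n2_58)
theorem r2_59 : Reach GB2 (Obj.mk o2_0) (Obj.mk o2_59) :=
  Reach.step (s := gen .f) (gen_mem_GS (by decide)) r2_53 (gen_smul _ _ _ n2_59)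
theorem r2_60 : Reach GB2 (Obj.mk o2_0) (Obj.mk o2_60) :=
  Reach.step (s := gen .f) (gen_mem_GS (by decide)) r2_55 (gen_smul _ _ _ n2_60)
theorem r2_61 : Reach GB2 (Obj.mk o2_0) (Obj.mk o2_61) :=
  Reach.step (s := gen .d) (gen_mem_GS (by decide)) r2_57 (gen_smul _ _ _ n2_61)
theorem r2_62 : Reach GB2 (Obj.mk o2_0) (Obj.mk o2_62) :=
  Reach.step (s := gen .f) (gen_mem_GS (by decide)) r2_57 (gen_smul _ _ _ n2_62)
theorem r2_63 : Reach GB2 (Obj.mk o2_0) (Obj.mk o2_63) :=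
  Reach.step (s := gen .f) (gen_mem_GS (by decide)) r2_58 (gen_smul _ _ _ n2_63)
theorem r2_64 : Reach GB2 (Obj.mk o2_0) (Obj.mk o2_64) :=
  Reach.step (s := gen .c) (gen_mem_GS (by decide)) r2_61 (gen_smul _ _ _ n2_64)
theorem r2_65 : Reach GB2 (Obj.mk o2_0) (Obj.mk o2_65) :=
  Reach.step (s := gen .f) (gen_mem_GS (by decide)) r2_61 (gen_smul _ _ _ n2_65)
theorem r2_66 : Reach GB2 (Obj.mk o2_0) (Obj.mk o2_66) :=
  Reach.step (s := gen .e) (gen_mem_GS (by decide)) r2_63 (gen_smul _ _ _ n2_66)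
theorem r2_67 : Reach GB2 (Obj.mk o2_0) (Obj.mk o2_67) :=
  Reach.step (s := gen .f) (gen_mem_GS (by decide)) r2_64 (gen_smul _ _ _ n2_67)
theorem r2_68 : Reach GB2 (Obj.mk o2_0) (Obj.mk o2_68) :=
  Reach.step (s := gen .e) (gen_mem_GS (by decide)) r2_65 (gen_smul _ _ _ n2_68)
theorem r2_69 : Reach GB2 (Obj.mk o2_0) (Obj.mk o2_69) :=
  Reach.step (s := gen .e) (gen_mem_GS (by decide)) r2_67 (gen_smul _ _ _ n2_69)
theorem r2_70 : Reach GB2 (Obj.mk o2_0) (Obj.mk o2_70) :=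
  Reach.step (s := gen .d) (gen_mem_GS (by decide)) r2_69 (gen_smul _ _ _ n2_70)
theorem r2_71 : Reach GB2 (Obj.mk o2_0) (Obj.mk o2_71) :=
  Reach.step (s := gen .h) (gen_mem_GS (by decide)) r2_70 (gen_smul _ _ _ n2_71)

def C2_0 : List Obj := [Obj.mk o2_0, Obj.mk o2_1, Obj.mk o2_2, Obj.mk o2_3, Obj.mk o2_4, Obj.mk o2_5, Obj.mk o2_6, Obj.mk o2_7, Obj.mk o2_8, Obj.mk o2_9, Obj.mk o2_10, Obj.mk o2_11, Obj.mk o2_12, Obj.mk o2_13, Obj.mk o2_14, Obj.mk o2_15, Obj.mk o2_16, Obj.mk o2_17, Obj.mk o2_18, Obj.mk o2_19]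
theorem hC2_0 : ∀ y ∈ C2_0, Reach GB2 (Obj.mk o2_0) y := by
  unfold C2_0
  exact List.forall_mem_cons.2 ⟨r2_0, List.forall_mem_cons.2 ⟨r2_1, List.forall_mem_cons.2 ⟨r2_2, List.forall_mem_cons.2 ⟨r2_3, List.forall_mem_cons.2 ⟨r2_4, List.forall_mem_cons.2 ⟨r2_5, List.forall_mem_cons.2 ⟨r2_6, List.forall_mem_cons.2 ⟨r2_7, List.forall_mem_cons.2 ⟨r2_8, List.forall_mem_cons.2 ⟨r2_9, List.forall_mem_cons.2 ⟨r2_10, List.forall_mem_cons.2 ⟨r2_11, List.forall_mem_cons.2 ⟨r2_12, List.forall_mem_cons.2 ⟨r2_13, List.forall_mem_cons.2 ⟨r2_14, List.forall_mem_cons.2 ⟨r2_15, List.forall_mem_cons.2 ⟨r2_16, List.forall_mem_cons.2 ⟨r2_17, List.forall_mem_cons.2 ⟨r2_18, List.forall_mem_cons.2 ⟨r2_19, forall_mem_nil' _⟩⟩⟩⟩⟩⟩⟩⟩⟩⟩⟩⟩⟩⟩⟩⟩⟩⟩⟩⟩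

def C2_1 : List Obj := [Obj.mk o2_20, Obj.mk o2_21, Obj.mk o2_22, Obj.mk o2_23, Obj.mk o2_24, Obj.mk o2_25, Obj.mk o2_26, Obj.mk o2_27, Obj.mk o2_28, Obj.mk o2_29, Obj.mk o2_30, Obj.mk o2_31, Obj.mk o2_32, Obj.mk o2_33, Obj.mk o2_34, Obj.mk o2_35, Obj.mk o2_36, Obj.mk o2_37, Obj.mk o2_38, Obj.mk o2_39]
theorem hC2_1 : ∀ y ∈ C2_1, Reach GB2 (Obj.mk o2_0) y := by
  unfold C2_1
  exact List.forall_mem_cons.2 ⟨r2_20, List.forall_mem_cons.2 ⟨r2_21, List.forall_mem_cons.2 ⟨r2_22, List.forall_mem_cons.2 ⟨r2_23, List.forall_mem_cons.2 ⟨r2_24, List.forall_mem_cons.2 ⟨r2_25, List.forall_mem_cons.2 ⟨r2_26, List.forall_mem_cons.2 ⟨r2_27, List.forall_mem_cons.2 ⟨r2_28, List.forall_mem_cons.2 ⟨r2_29, List.forall_mem_cons.2 ⟨r2_30, List.forall_mem_cons.2 ⟨r2_31, List.forall_mem_cons.2 ⟨r2_32, List.forall_mem_cons.2 ⟨r2_33, List.forall_mem_cons.2 ⟨r2_34, List.forall_mem_cons.2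 ⟨r2_35, List.forall_mem_cons.2 ⟨r2_36, List.forall_mem_cons.2 ⟨r2_37, List.forall_mem_cons.2 ⟨r2_38, List.forall_mem_cons.2 ⟨r2_39, forall_mem_nil' _⟩⟩⟩⟩⟩⟩⟩⟩⟩⟩⟩⟩⟩⟩⟩⟩⟩⟩⟩⟩

def C2_2 : List Obj := [Obj.mk o2_40, Obj.mk o2_41, Obj.mk o2_42, Obj.mk o2_43, Obj.mk o2_44, Obj.mk o2_45, Obj.mk o2_46, Obj.mk o2_47, Obj.mk o2_48, Obj.mk o2_49, Obj.mk o2_50, Obj.mk o2_51, Obj.mk o2_52, Obj.mk o2_53, Obj.mk o2_54, Obj.mk o2_55, Obj.mk o2_56, Obj.mk o2_57, Obj.mk o2_58, Obj.mk o2_59]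
theorem hC2_2 : ∀ y ∈ C2_2, Reach GB2 (Obj.mk o2_0) y := by
  unfold C2_2
  exact List.forall_mem_cons.2 ⟨r2_40, List.forall_mem_cons.2 ⟨r2_41, List.forall_mem_cons.2 ⟨r2_42, List.forall_mem_cons.2 ⟨r2_43, List.forall_mem_cons.2 ⟨r2_44, List.forall_mem_cons.2 ⟨r2_45, List.forall_mem_cons.2 ⟨r2_46, List.forall_mem_cons.2 ⟨r2_47, List.forall_mem_cons.2 ⟨r2_48, List.forall_mem_cons.2 ⟨r2_49, List.forall_mem_cons.2 ⟨r2_50, List.forall_mem_cons.2 ⟨r2_51, List.forall_mem_cons.2 ⟨r2_52, List.forall_mem_cons.2 ⟨r2_53, List.forall_mem_cons.2 ⟨r2_54, List.forall_mem_cons.2 ⟨r2_55, List.forall_mem_cons.2 ⟨r2_56, List.forall_mem_cons.2 ⟨r2_57, List.forall_mem_cons.2 ⟨r2_58, List.forall_mem_cons.2 ⟨r2_59, forall_mem_nil' _⟩⟩⟩⟩⟩⟩⟩⟩⟩⟩⟩⟩⟩⟩⟩⟩⟩⟩⟩⟩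

def C2_3 : List Obj := [Obj.mk o2_60, Obj.mk o2_61, Obj.mk o2_62, Obj.mk o2_63, Obj.mk o2_64, Obj.mk o2_65, Obj.mk o2_66, Obj.mk o2_67, Obj.mk o2_68, Obj.mk o2_69, Obj.mk o2_70, Obj.mk o2_71]
theorem hC2_3 : ∀ y ∈ C2_3, Reach GB2 (Obj.mk o2_0) y := by
  unfold C2_3
  exact List.forall_mem_cons.2 ⟨r2_60, List.forall_mem_cons.2 ⟨r2_61, List.forall_mem_cons.2 ⟨r2_62, List.forall_mem_cons.2 ⟨r2_63, List.forall_mem_cons.2 ⟨r2_64, List.forall_mem_cons.2 ⟨r2_65, List.forall_mem_cons.2 ⟨r2_66, List.forall_mem_cons.2 ⟨r2_67, List.forall_mem_cons.2 ⟨r2_68, List.forall_mem_cons.2 ⟨r2_69, List.forall_mem_cons.2 ⟨r2_70, List.forall_mem_cons.2 ⟨r2_71, forall_mem_nil' _⟩⟩⟩⟩⟩⟩⟩⟩⟩⟩⟩⟩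

def LL2 : List Obj := C2_0 ++ C2_1 ++ C2_2 ++ C2_3
theorem hLL2 : ∀ y ∈ LL2, Reach GB2 (Obj.mk o2_0) y := by
  unfold LL2
  exact List.forall_mem_append.2 ⟨List.forall_mem_append.2 ⟨List.forall_mem_append.2 ⟨hC2_0, hC2_1⟩, hC2_2⟩, hC2_3⟩
theorem len2 : LL2.length = 72 := by decide +kernel
theorem nodupKey2 : (LL2.map key).Nodup := by decide +kernel
theorem nodup2 : LL2.Nodup := List.Nodup.of_map key nodupKey2

theorem level2 : 72 * Nat.card (Subgroup.closure GK2) ≤ Nat.card (Subgroup.closure GB2) := by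
  have h := card_ge_mul (Subgroup.closure GB2) (Subgroup.closure GK2) (Obj.mk o2_0) le2 fix2 LL2 nodup2 hLL2
  rwa [len2] at h

end Cfsg.Agent.Lead.O73
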