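import Cfsg.Agent.Lib.Lead.O73.Node3_0

/-! # O73: level 3: the orbit of `o3_0` under `Bcdef` has at least 15 elements, and `Bdef` fixes `o3_0` -/

set_option autoImplicit false
set_option maxRecDepth 100000

namespace Cfsg.Agent.Lead.O73

open Cfsg.Spor.Fi22 (Gen)

/-- generators of the group of level 3 -/
abbrev GB3 : Set GL7 := GS [.c, .d, .e, .f] true
/-- generators of the stabilising subgroup of level 3 -/
abbrev GK3 : Set GL7 := GS [.d, .e, .f] true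

theorem le3 : Subgroup.closure GK3 ≤ Subgroup.closure GB3 :=
  closure_GS_le (by decide) (fun _ => Subgroup.subset_closure gB_mem_GS)

theorem fixL3 : ∀ x ∈ ([.d, .e, .f] : List Gen), M x * o3_0 * (M x).transpose = o3_0 := by decide +kernel
theorem fixB3 : MB * o3_0 * MB.transpose = o3_0 := by decide +kernel
theorem fix3 : ∀ k ∈ Subgroup.closure GK3, k • Obj.mk o3_0 = Obj.mk o3_0 :=
  closure_fix _ _ (GS_fix o3_0 fixL3 (fun _ => fixB3))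

theorem r3_0 : Reach GB3 (Obj.mk o3_0) (Obj.mk o3_0) := Reach.refl _ _
theorem r3_1 : Reach GB3 (Obj.mk o3_0) (Obj.mk o3_1) :=
  Reach.step (s := gen .c) (gen_mem_GS (by decide)) r3_0 (gen_smul _ _ _ n3_1)
theorem r3_2 : Reach GB3 (Obj.mk o3_0) (Obj.mk o3_2) :=
  Reach.step (s := gB) gB_mem_GS r3_1 (gB_smul _ _ n3_2)
theorem r3_3 : Reach GB3 (Obj.mk o3_0) (Obj.mk o3_3) :=
  Reach.step (s := gen .d) (gen_mem_GS (by decide)) r3_1 (gen_smul _ _ _ n3_3)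
theorem r3_4 : Reach GB3 (Obj.mk o3_0) (Obj.mk o3_4) :=
  Reach.step (s := gen .d) (gen_mem_GS (by decide)) r3_2 (gen_smul _ _ _ n3_4)
theorem r3_5 : Reach GB3 (Obj.mk o3_0) (Obj.mk o3_5) :=
  Reach.step (s := gen .e) (gen_mem_GS (by decide)) r3_3 (gen_smul _ _ _ n3_5)
theorem r3_6 : Reach GB3 (Obj.mk o3_0) (Obj.mk o3_6) :=
  Reach.step (s := gen .c) (gen_mem_GS (by decide)) r3_4 (gen_smul _ _ _ n3_6)
theorem r3_7 : Reach GB3 (Obj.mk o3_0) (Obj.mk o3_7) :=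
  Reach.step (s := gen .e) (gen_mem_GS (by decide)) r3_4 (gen_smul _ _ _ n3_7)
theorem r3_8 : Reach GB3 (Obj.mk o3_0) (Obj.mk o3_8) :=
  Reach.step (s := gen .f) (gen_mem_GS (by decide)) r3_5 (gen_smul _ _ _ n3_8)
theorem r3_9 : Reach GB3 (Obj.mk o3_0) (Obj.mk o3_9) :=
  Reach.step (s := gen .e) (gen_mem_GS (by decide)) r3_6 (gen_smul _ _ _ n3_9)
theorem r3_10 : Reach GB3 (Obj.mk o3_0) (Obj.mk o3_10) :=
  Reach.step (s := gen .f) (gen_mem_GS (by decide)) r3_7 (gen_smul _ _ _ n3_10)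
theorem r3_11 : Reach GB3 (Obj.mk o3_0) (Obj.mk o3_11) :=
  Reach.step (s := gen .d) (gen_mem_GS (by decide)) r3_9 (gen_smul _ _ _ n3_11)
theorem r3_12 : Reach GB3 (Obj.mk o3_0) (Obj.mk o3_12) :=
  Reach.step (s := gen .f) (gen_mem_GS (by decide)) r3_9 (gen_smul _ _ _ n3_12)
theorem r3_13 : Reach GB3 (Obj.mk o3_0) (Obj.mk o3_13) :=
  Reach.step (s := gen .f) (gen_mem_GS (by decide)) r3_11 (gen_smul _ _ _ n3_13)
theorem r3_14 : Reach GB3 (Obj.mk o3_0) (Obj.mk o3_14) :=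
  Reach.step (s := gen .e) (gen_mem_GS (by decide)) r3_13 (gen_smul _ _ _ n3_14)

def C3_0 : List Obj := [Obj.mk o3_0, Obj.mk o3_1, Obj.mk o3_2, Obj.mk o3_3, Obj.mk o3_4, Obj.mk o3_5, Obj.mk o3_6, Obj.mk o3_7, Obj.mk o3_8, Obj.mk o3_9, Obj.mk o3_10, Obj.mk o3_11, Obj.mk o3_12, Obj.mk o3_13, Obj.mk o3_14]
theorem hC3_0 : ∀ y ∈ C3_0, Reach GB3 (Obj.mk o3_0) y := by
  unfold C3_0
  exact List.forall_mem_cons.2 ⟨r3_0, List.forall_mem_cons.2 ⟨r3_1, List.forall_mem_cons.2 ⟨r3_2, List.forall_mem_cons.2 ⟨r3_3, List.forall_mem_cons.2 ⟨r3_4, List.forall_mem_cons.2 ⟨r3_5, List.forall_mem_cons.2 ⟨r3_6, List.forall_mem_cons.2 ⟨r3_7, List.forall_mem_cons.2 ⟨r3_8, List.forall_mem_cons.2 ⟨r3_9, List.forall_mem_cons.2 ⟨r3_10, List.forall_mem_cons.2 ⟨r3_11, List.forall_mem_cons.2 ⟨r3_12, List.forall_mem_cons.2 ⟨r3_13, List.forall_mem_cons.2 ⟨r3_14, forall_mem_nil' _⟩⟩⟩⟩⟩⟩⟩⟩⟩⟩⟩⟩⟩⟩⟩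

def LL3 : List Obj := C3_0
theorem hLL3 : ∀ y ∈ LL3, Reach GB3 (Obj.mk o3_0) y := by
  unfold LL3
  exact hC3_0
theorem len3 : LL3.length = 15 := by decide +kernel
theorem nodupKey3 : (LL3.map key).Nodup := by decide +kernel
theorem nodup3 : LL3.Nodup := List.Nodup.of_map key nodupKey3

theorem level3 : 15 * Nat.card (Subgroup.closure GK3) ≤ Nat.card (Subgroup.closure GB3) := by
  have h := card_ge_mul (Subgroup.closure GB3) (Subgroup.closure GK3) (Obj.mk o3_0) le3 fix3 LL3 nodup3 hLL3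
  rwa [len3] at h

end Cfsg.Agent.Lead.O73
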