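import Cfsg.Agent.Lib.Lead.O73.Node4_0

/-! # O73: level 4: the orbit of `o4_0` under `Bdef` has at least 2 elements, and `def` fixes `o4_0` -/

set_option autoImplicit false
set_option maxRecDepth 100000

namespace Cfsg.Agent.Lead.O73

open Cfsg.Spor.Fi22 (Gen)

/-- generators of the group of level 4 -/
abbrev GB4 : Set GL7 := GS [.d, .e, .f] true
/-- generators of the stabilising subgroup of level 4 -/
abbrev GK4 : Set GL7 := GS [.d, .e, .f] false

theorem le4 : Subgroup.closure GK4 ≤ Subgroup.closure GB4 :=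
  closure_GS_le (by decide) (fun h => absurd h (by decide))

theorem fixL4 : ∀ x ∈ ([.d, .e, .f] : List Gen), M x * o4_0 * (M x).transpose = o4_0 := by decide +kernel
theorem fix4 : ∀ k ∈ Subgroup.closure GK4, k • Obj.mk o4_0 = Obj.mk o4_0 :=
  closure_fix _ _ (GS_fix o4_0 fixL4 (fun h => absurd h (by decide)))

theorem r4_0 : Reach GB4 (Obj.mk o4_0) (Obj.mk o4_0) := Reach.refl _ _
theorem r4_1 : Reach GB4 (Obj.mk o4_0) (Obj.mk o4_1) :=
  Reach.step (s := gB) gB_mem_GS r4_0 (gB_smul _ _ n4_1)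

def C4_0 : List Obj := [Obj.mk o4_0, Obj.mk o4_1]
theorem hC4_0 : ∀ y ∈ C4_0, Reach GB4 (Obj.mk o4_0) y := by
  unfold C4_0
  exact List.forall_mem_cons.2 ⟨r4_0, List.forall_mem_cons.2 ⟨r4_1, forall_mem_nil' _⟩⟩

def LL4 : List Obj := C4_0
theorem hLL4 : ∀ y ∈ LL4, Reach GB4 (Obj.mk o4_0) y := by
  unfold LL4
  exact hC4_0
theorem len4 : LL4.length = 2 := by decide +kernel
theorem nodupKey4 : (LL4.map key).Nodup := by decide +kernel
theorem nodup4 : LL4.Nodup := List.Nodup.of_map key nodupKey4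

theorem level4 : 2 * Nat.card (Subgroup.closure GK4) ≤ Nat.card (Subgroup.closure GB4) := by
  have h := card_ge_mul (Subgroup.closure GB4) (Subgroup.closure GK4) (Obj.mk o4_0) le4 fix4 LL4 nodup4 hLL4
  rwa [len4] at h

end Cfsg.Agent.Lead.O73
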