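import Cfsg.Agent.Lib.Lead.O73.Node5_0

/-! # O73: level 5: the orbit of `o5_0` under `def` has at least 4 elements, and `ef` fixes `o5_0` -/

set_option autoImplicit false
set_option maxRecDepth 100000

namespace Cfsg.Agent.Lead.O73

open Cfsg.Spor.Fi22 (Gen)

/-- generators of the group of level 5 -/
abbrev GB5 : Set GL7 := GS [.d, .e, .f] false
/-- generators of the stabilising subgroup of level 5 -/
abbrev GK5 : Set GL7 := GS [.e, .f] false

theorem le5 : Subgroup.closure GK5 ≤ Subgroup.closure GB5 :=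
  closure_GS_le (by decide) (fun h => absurd h (by decide))

theorem fixL5 : ∀ x ∈ ([.e, .f] : List Gen), M x * o5_0 * (M x).transpose = o5_0 := by decide +kernel
theorem fix5 : ∀ k ∈ Subgroup.closure GK5, k • Obj.mk o5_0 = Obj.mk o5_0 :=
  closure_fix _ _ (GS_fix o5_0 fixL5 (fun h => absurd h (by decide)))

theorem r5_0 : Reach GB5 (Obj.mk o5_0) (Obj.mk o5_0) := Reach.refl _ _
theorem r5_1 : Reach GB5 (Obj.mk o5_0) (Obj.mk o5_1) :=
  Reach.step (s := gen .d) (gen_mem_GS (by decide)) r5_0 (gen_smul _ _ _ n5_1)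
theorem r5_2 : Reach GB5 (Obj.mk o5_0) (Obj.mk o5_2) :=
  Reach.step (s := gen .e) (gen_mem_GS (by decide)) r5_1 (gen_smul _ _ _ n5_2)
theorem r5_3 : Reach GB5 (Obj.mk o5_0) (Obj.mk o5_3) :=
  Reach.step (s := gen .f) (gen_mem_GS (by decide)) r5_2 (gen_smul _ _ _ n5_3)

def C5_0 : List Obj := [Obj.mk o5_0, Obj.mk o5_1, Obj.mk o5_2, Obj.mk o5_3]
theorem hC5_0 : ∀ y ∈ C5_0, Reach GB5 (Obj.mk o5_0) y := by
  unfold C5_0
  exact List.forall_mem_cons.2 ⟨r5_0, List.forall_mem_cons.2 ⟨r5_1, List.forall_mem_cons.2 ⟨r5_2, List.forall_mem_cons.2 ⟨r5_3, forall_mem_nil' _⟩⟩⟩⟩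

def LL5 : List Obj := C5_0
theorem hLL5 : ∀ y ∈ LL5, Reach GB5 (Obj.mk o5_0) y := by
  unfold LL5
  exact hC5_0
theorem len5 : LL5.length = 4 := by decide +kernel
theorem nodupKey5 : (LL5.map key).Nodup := by decide +kernel
theorem nodup5 : LL5.Nodup := List.Nodup.of_map key nodupKey5

theorem level5 : 4 * Nat.card (Subgroup.closure GK5) ≤ Nat.card (Subgroup.closure GB5) := by
  have h := card_ge_mul (Subgroup.closure GB5) (Subgroup.closure GK5) (Obj.mk o5_0) le5 fix5 LL5 nodup5 hLL5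
  rwa [len5] at h

end Cfsg.Agent.Lead.O73
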