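import Cfsg.Agent.Lib.Lead.O73.Node6_0

/-! # O73: level 6: the orbit of `o6_0` under `ef` has at least 3 elements, and `f` fixes `o6_0` -/

set_option autoImplicit false
set_option maxRecDepth 100000

namespace Cfsg.Agent.Lead.O73

open Cfsg.Spor.Fi22 (Gen)

/-- generators of the group of level 6 -/
abbrev GB6 : Set GL7 := GS [.e, .f] false
/-- generators of the stabilising subgroup of level 6 -/
abbrev GK6 : Set GL7 := GS [.f] false

theorem le6 : Subgroup.closure GK6 ≤ Subgroup.closure GB6 :=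
  closure_GS_le (by decide) (fun h => absurd h (by decide))

theorem fixL6 : ∀ x ∈ ([.f] : List Gen), M x * o6_0 * (M x).transpose = o6_0 := by decide +kernel
theorem fix6 : ∀ k ∈ Subgroup.closure GK6, k • Obj.mk o6_0 = Obj.mk o6_0 :=
  closure_fix _ _ (GS_fix o6_0 fixL6 (fun h => absurd h (by decide)))

theorem r6_0 : Reach GB6 (Obj.mk o6_0) (Obj.mk o6_0) := Reach.refl _ _
theorem r6_1 : Reach GB6 (Obj.mk o6_0) (Obj.mk o6_1) :=
  Reach.step (s := gen .e) (gen_mem_GS (by decide)) r6_0 (gen_smul _ _ _ n6_1)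
theorem r6_2 : Reach GB6 (Obj.mk o6_0) (Obj.mk o6_2) :=
  Reach.step (s := gen .f) (gen_mem_GS (by decide)) r6_1 (gen_smul _ _ _ n6_2)

def C6_0 : List Obj := [Obj.mk o6_0, Obj.mk o6_1, Obj.mk o6_2]
theorem hC6_0 : ∀ y ∈ C6_0, Reach GB6 (Obj.mk o6_0) y := by
  unfold C6_0
  exact List.forall_mem_cons.2 ⟨r6_0, List.forall_mem_cons.2 ⟨r6_1, List.forall_mem_cons.2 ⟨r6_2, forall_mem_nil' _⟩⟩⟩

def LL6 : List Obj := C6_0
theorem hLL6 : ∀ y ∈ LL6, Reach GB6 (Obj.mk o6_0) y := by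
  unfold LL6
  exact hC6_0
theorem len6 : LL6.length = 3 := by decide +kernel
theorem nodupKey6 : (LL6.map key).Nodup := by decide +kernel
theorem nodup6 : LL6.Nodup := List.Nodup.of_map key nodupKey6

theorem level6 : 3 * Nat.card (Subgroup.closure GK6) ≤ Nat.card (Subgroup.closure GB6) := by
  have h := card_ge_mul (Subgroup.closure GB6) (Subgroup.closure GK6) (Obj.mk o6_0) le6 fix6 LL6 nodup6 hLL6
  rwa [len6] at h

end Cfsg.Agent.Lead.O73
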