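import Cfsg.Agent.Lib.Lead.O73.Node7_0

/-! # O73: level 7: the orbit of `o7_0` under `f` has at least 2 elements, and `` fixes `o7_0` -/

set_option autoImplicit false
set_option maxRecDepth 100000

namespace Cfsg.Agent.Lead.O73

open Cfsg.Spor.Fi22 (Gen)

/-- generators of the group of level 7 -/
abbrev GB7 : Set GL7 := GS [.f] false
/-- generators of the stabilising subgroup of level 7 -/
abbrev GK7 : Set GL7 := GS [] false

theorem le7 : Subgroup.closure GK7 ≤ Subgroup.closure GB7 :=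
  closure_GS_le (by decide) (fun h => absurd h (by decide))

theorem fixL7 : ∀ x ∈ ([] : List Gen), M x * o7_0 * (M x).transpose = o7_0 := by decide +kernel
theorem fix7 : ∀ k ∈ Subgroup.closure GK7, k • Obj.mk o7_0 = Obj.mk o7_0 :=
  closure_fix _ _ (GS_fix o7_0 fixL7 (fun h => absurd h (by decide)))

theorem r7_0 : Reach GB7 (Obj.mk o7_0) (Obj.mk o7_0) := Reach.refl _ _
theorem r7_1 : Reach GB7 (Obj.mk o7_0) (Obj.mk o7_1) :=
  Reach.step (s := gen .f) (gen_mem_GS (by decide)) r7_0 (gen_smul _ _ _ n7_1)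

def C7_0 : List Obj := [Obj.mk o7_0, Obj.mk o7_1]
theorem hC7_0 : ∀ y ∈ C7_0, Reach GB7 (Obj.mk o7_0) y := by
  unfold C7_0
  exact List.forall_mem_cons.2 ⟨r7_0, List.forall_mem_cons.2 ⟨r7_1, forall_mem_nil' _⟩⟩

def LL7 : List Obj := C7_0
theorem hLL7 : ∀ y ∈ LL7, Reach GB7 (Obj.mk o7_0) y := by
  unfold LL7
  exact hC7_0
theorem len7 : LL7.length = 2 := by decide +kernel
theorem nodupKey7 : (LL7.map key).Nodup := by decide +kernel
theorem nodup7 : LL7.Nodup := List.Nodup.of_map key nodupKey7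

theorem level7 : 2 * Nat.card (Subgroup.closure GK7) ≤ Nat.card (Subgroup.closure GB7) := by
  have h := card_ge_mul (Subgroup.closure GB7) (Subgroup.closure GK7) (Obj.mk o7_0) le7 fix7 LL7 nodup7 hLL7
  rwa [len7] at h

end Cfsg.Agent.Lead.O73
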