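import Cfsg.Agent.Lib.Lead.O73.Gens
import Cfsg.Agent.Lib.Helper27.Fi22.A1.Data

/-!
# O73: the matrices satisfy the relators of the presentation `A1` (helper27's `Fi22TC.A1.D.rels`)
-/

set_option autoImplicit false
set_option maxRecDepth 100000

namespace Cfsg.Agent.Lead.O73

open Cfsg.Spor.Fi22 (Gen)
open Cfsg.Agent.Helper27.Fi22TC

/-- evaluate a word at the matrices (all generators are involutions, so signs are ignored) -/
def evalM (w : List (Gen × Bool)) : Mat := (w.map (fun p => M p.1)).prod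

theorem evalM_nil : evalM [] = 1 := rfl

theorem evalM_cons (p : Gen × Bool) (w : List (Gen × Bool)) : evalM (p :: w) = M p.1 * evalM w := by
  simp [evalM]

theorem evalM_append (u v : List (Gen × Bool)) : evalM (u ++ v) = evalM u * evalM v := by
  simp [evalM, List.map_append, List.prod_append]

theorem evalM_flatten_replicate (n : ℕ) (W : List (Gen × Bool)) :
    evalM (List.replicate n W).flatten = evalM W ^ n := by
  induction n with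
  | zero => simp [evalM]
  | succ n ih => rw [List.replicate_succ, List.flatten_cons, evalM_append, ih, pow_succ']

theorem lift_mk_val (w : List (Gen × Bool)) :
    ((FreeGroup.lift gen (FreeGroup.mk w) : GL7) : Mat) = evalM w := by
  rw [FreeGroup.lift_mk]
  induction w with
  | nil => rfl
  | cons p w ih =>
    obtain ⟨x, b⟩ := p
    rw [List.map_cons, List.prod_cons, Units.val_mul, ih, evalM_cons]
    cases b
    · show ((gen x)⁻¹ : GL7).val * evalM w = M x * evalM w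
      rw [gen_inv, gen_val]
    · show ((gen x : GL7) : Mat) * evalM w = M x * evalM w
      rw [gen_val]

theorem rel0 : evalM A1.R0 = 1 := by decide +kernel
theorem rel1 : evalM A1.R1 = 1 := by decide +kernel
theorem rel2 : evalM A1.R2 = 1 := by decide +kernel
theorem rel3 : evalM A1.R3 = 1 := by decide +kernel
theorem rel4 : evalM A1.R4 = 1 := by decide +kernel
theorem rel5 : evalM A1.R5 = 1 := by decide +kernel
theorem rel6 : evalM A1.R6 = 1 := by decide +kernel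
theorem rel7 : evalM A1.R7 = 1 := by decide +kernel
theorem rel8 : evalM A1.R8 = 1 := by decide +kernel
theorem rel9 : evalM A1.R9 = 1 := by decide +kernel
theorem rel10 : evalM A1.R10 = 1 := by decide +kernel
theorem rel11 : evalM A1.R11 = 1 := by decide +kernel
theorem rel12 : evalM A1.R12 = 1 := by decide +kernel
theorem rel13 : evalM A1.R13 = 1 := by decide +kernel
theorem rel14 : evalM A1.R14 = 1 := by decide +kernel
theorem rel15 : evalM A1.R15 = 1 := by decide +kernel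
theorem rel16 : evalM A1.R16 = 1 := by decide +kernel
theorem rel17 : evalM A1.R17 = 1 := by decide +kernel
theorem rel18 : evalM A1.R18 = 1 := by decide +kernel
theorem rel19 : evalM A1.R19 = 1 := by decide +kernel
theorem rel20 : evalM A1.R20 = 1 := by decide +kernel
theorem rel21 : evalM A1.R21 = 1 := by decide +kernel
theorem rel22 : evalM A1.R22 = 1 := by decide +kernel
theorem rel23 : evalM A1.R23 = 1 := by decide +kernel
theorem rel24 : evalM A1.R24 = 1 := by decide +kernel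
theorem rel25 : evalM A1.R25 = 1 := by decide +kernel
theorem rel26 : evalM A1.R26 = 1 := by decide +kernel
theorem rel27 : evalM A1.R27 = 1 := by decide +kernel
theorem rel28 : evalM A1.R28 = 1 := by decide +kernel
theorem rel29 : evalM A1.R29 = 1 := by decide +kernel
theorem rel30 : evalM A1.R30 = 1 := by decide +kernel
theorem rel31 : evalM A1.R31 = 1 := by decide +kernel
theorem rel32 : evalM A1.R32 = 1 := by decide +kernel
theorem rel33 : evalM A1.R33 = 1 := by decide +kernel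
theorem rel34 : evalM A1.R34 = 1 := by decide +kernel
theorem rel35 : evalM A1.R35 = 1 := by decide +kernel
theorem rel36 : evalM A1.R36 = 1 := by decide +kernel

/-- the word whose power is the relator R37 -/
def W37 : List (Gen × Bool) := [(.d, true), (.c, true), (.b, true), (.d, true), (.e, true), (.f, true), (.d, true), (.h, true), (.i, true)]
def W37_0 : List (Gen × Bool) := [(.d, true), (.c, true), (.b, true)]
def X37_0 : Mat := !![2, 0, 0, 0, 0, 0, 0; 0, 1, 2, 0, 2, 2, 0; 0, 2, 1, 0, 2, 2, 0; 0, 1, 2, 2, 1, 1, 0; 0, 2, 2, 0, 1, 2, 0; 0, 1, 0, 1, 1, 0, 2; 0, 2, 1, 0, 2, 2, 2]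
theorem eW37_0 : evalM W37_0 = X37_0 := by decide +kernel
def W37_1 : List (Gen × Bool) := [(.d, true), (.e, true), (.f, true)]
def X37_1 : Mat := !![0, 2, 1, 2, 0, 0, 2; 0, 2, 0, 0, 0, 0, 0; 1, 2, 1, 0, 0, 2, 2; 0, 0, 2, 2, 0, 1, 2; 1, 2, 1, 2, 2, 0, 2; 1, 2, 0, 1, 0, 0, 2; 1, 2, 1, 1, 0, 0, 2]
theorem eW37_1 : evalM W37_1 = X37_1 := by decide +kernel
def W37_2 : List (Gen × Bool) := [(.d, true), (.h, true), (.i, true)]
def X37_2 : Mat := !![2, 0, 0, 0, 0, 0, 0; 0, 1, 2, 2, 2, 0, 2; 0, 1, 1, 1, 1, 2, 0; 0, 2, 2, 2, 2, 0, 1; 0, 2, 2, 2, 1, 0, 2; 0, 1, 0, 1, 1, 0, 2; 0, 0, 1, 2, 0, 2, 2]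
theorem eW37_2 : evalM W37_2 = X37_2 := by decide +kernel
def Y37_1 : Mat := !![0, 1, 2, 1, 0, 0, 1; 0, 2, 1, 0, 1, 1, 0; 2, 2, 0, 0, 1, 2, 1; 1, 1, 1, 1, 2, 0, 0; 2, 2, 0, 1, 2, 1, 1; 0, 2, 2, 0, 2, 1, 2; 1, 0, 2, 2, 1, 2, 2]
theorem eY37_1 : X37_0 * X37_1 = Y37_1 := by decide +kernel
def Y37_2 : Mat := !![0, 2, 1, 2, 0, 0, 2; 0, 0, 1, 2, 1, 2, 2; 1, 0, 1, 1, 1, 2, 0; 2, 2, 0, 0, 1, 2, 1; 1, 0, 2, 1, 0, 2, 1; 0, 0, 0, 0, 0, 2, 2; 2, 1, 1, 2, 0, 2, 0]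
theorem eY37_2 : Y37_1 * X37_2 = Y37_2 := by decide +kernel
theorem eW37 : evalM W37 = Y37_2 := by
  have h : W37 = W37_0 ++ W37_1 ++ W37_2 := rfl
  rw [h, evalM_append, evalM_append, eW37_0, eW37_1, eW37_2, eY37_1, eY37_2]
def Z37_2 : Mat := !![0, 0, 2, 0, 2, 2, 0; 1, 0, 2, 0, 0, 1, 1; 1, 1, 1, 1, 2, 1, 2; 0, 2, 1, 2, 2, 0, 1; 0, 2, 1, 0, 0, 0, 1; 1, 2, 2, 1, 0, 2, 1; 2, 2, 1, 1, 1, 0, 0]
def Z37_4 : Mat := !![1, 1, 2, 1, 1, 0, 2; 2, 0, 1, 1, 1, 0, 2; 1, 1, 0, 0, 2, 0, 1; 2, 2, 1, 0, 1, 0, 2; 2, 0, 0, 2, 0, 0, 1; 2, 1, 2, 1, 0, 1, 0; 0, 2, 2, 0, 2, 1, 0]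
def Z37_5 : Mat := !![0, 0, 2, 2, 1, 2, 0; 2, 2, 1, 1, 2, 1, 0; 1, 0, 1, 2, 1, 2, 0; 0, 0, 0, 2, 0, 0, 0; 0, 0, 0, 0, 2, 0, 0; 1, 0, 2, 2, 1, 1, 0; 1, 0, 2, 2, 1, 2, 2]
theorem z37_2 : Y37_2 * Y37_2 = Z37_2 := by decide +kernel
theorem z37_4 : Z37_2 * Z37_2 = Z37_4 := by decide +kernel
theorem z37_5 : Z37_4 * Y37_2 = Z37_5 := by decide +kernel
theorem z37_10 : Z37_5 * Z37_5 = 1 := by decide +kernel
theorem rel37 : evalM A1.R37 = 1 := by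
  have h : A1.R37 = (List.replicate 10 W37).flatten := by decide +kernel
  rw [h, evalM_flatten_replicate, eW37]
  have h2 : Y37_2 ^ 2 = Z37_2 := by rw [pow_two]; exact z37_2
  have h4 : Y37_2 ^ 4 = Z37_4 := by rw [show 4 = 2 * 2 from rfl, pow_mul, h2, pow_two]; exact z37_4
  have h5 : Y37_2 ^ 5 = Z37_5 := by rw [pow_succ, h4]; exact z37_5
  rw [show 10 = 5 * 2 from rfl, pow_mul, h5, pow_two]; exact z37_10

/-- the word whose power is the relator R38 -/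
def W38 : List (Gen × Bool) := [(.b, true), (.c, true), (.d, true), (.e, true), (.f, true), (.g, true), (.h, true)]
def W38_0 : List (Gen × Bool) := [(.b, true), (.c, true), (.d, true)]
def X38_0 : Mat := !![2, 0, 0, 0, 0, 0, 0; 0, 1, 1, 2, 2, 2, 1; 0, 2, 0, 2, 2, 2, 1; 0, 0, 2, 2, 0, 0, 0; 0, 2, 1, 2, 1, 2, 1; 0, 2, 0, 1, 2, 1, 2; 0, 0, 1, 0, 0, 0, 2]
theorem eW38_0 : evalM W38_0 = X38_0 := by decide +kernel
def W38_1 : List (Gen × Bool) := [(.e, true), (.f, true), (.g, true)]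
def X38_1 : Mat := !![0, 0, 1, 2, 2, 0, 2; 0, 0, 0, 0, 2, 0, 0; 1, 0, 1, 0, 2, 2, 2; 1, 0, 1, 1, 2, 0, 2; 1, 2, 1, 2, 2, 0, 2; 1, 0, 0, 1, 2, 0, 2; 0, 0, 2, 2, 0, 1, 2]
theorem eW38_1 : evalM W38_1 = X38_1 := by decide +kernel
def W38_2 : List (Gen × Bool) := [(.h, true)]
def X38_2 : Mat := !![2, 0, 0, 0, 0, 0, 0; 0, 2, 0, 0, 0, 0, 0; 0, 0, 0, 0, 0, 2, 2; 0, 0, 1, 2, 0, 2, 2; 0, 0, 0, 0, 2, 0, 0; 0, 0, 2, 0, 0, 0, 1; 0, 0, 0, 0, 0, 0, 2]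
theorem eW38_2 : evalM W38_2 = X38_2 := by decide +kernel
def Y38_1 : Mat := !![0, 0, 2, 1, 1, 0, 1; 1, 1, 1, 1, 1, 0, 1; 0, 1, 0, 1, 1, 1, 2; 1, 0, 1, 2, 2, 1, 2; 0, 2, 0, 2, 1, 0, 2; 1, 1, 1, 1, 0, 2, 0; 1, 0, 2, 1, 2, 1, 0]
theorem eY38_1 : X38_0 * X38_1 = Y38_1 := by decide +kernel
def Y38_2 : Mat := !![0, 0, 1, 2, 2, 0, 2; 2, 2, 1, 2, 2, 1, 0; 0, 2, 0, 2, 2, 2, 1; 2, 0, 1, 1, 1, 0, 2; 0, 1, 2, 1, 2, 1, 2; 2, 2, 2, 2, 0, 1, 0; 2, 0, 0, 2, 1, 0, 1]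
theorem eY38_2 : Y38_1 * X38_2 = Y38_2 := by decide +kernel
theorem eW38 : evalM W38 = Y38_2 := by
  have h : W38 = W38_0 ++ W38_1 ++ W38_2 := rfl
  rw [h, evalM_append, evalM_append, eW38_0, eW38_1, eW38_2, eY38_1, eY38_2]
def Z38_2 : Mat := !![2, 1, 0, 1, 1, 1, 2; 1, 1, 0, 1, 1, 1, 1; 2, 1, 0, 2, 2, 0, 0; 0, 0, 2, 0, 2, 0, 2; 1, 1, 2, 0, 1, 2, 1; 1, 1, 2, 1, 2, 1, 1; 0, 1, 0, 0, 0, 1, 2]
def Z38_3 : Mat := !![1, 2, 2, 2, 2, 0, 1; 2, 2, 1, 1, 2, 0, 1; 0, 1, 0, 1, 0, 0, 0; 1, 0, 1, 1, 1, 0, 2; 2, 2, 2, 0, 2, 2, 1; 2, 1, 0, 0, 2, 2, 2; 2, 1, 0, 2, 1, 2, 2]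
def Z38_6 : Mat := !![1, 1, 1, 1, 1, 0, 2; 1, 2, 2, 1, 2, 0, 1; 0, 2, 2, 2, 0, 0, 0; 2, 1, 2, 2, 1, 0, 2; 1, 2, 1, 1, 2, 1, 0; 1, 2, 0, 0, 1, 0, 1; 1, 0, 0, 2, 1, 1, 1]
theorem z38_2 : Y38_2 * Y38_2 = Z38_2 := by decide +kernel
theorem z38_3 : Z38_2 * Y38_2 = Z38_3 := by decide +kernel
theorem z38_6 : Z38_3 * Z38_3 = Z38_6 := by decide +kernel
theorem z38_9 : Z38_6 * Z38_3 = 1 := by decide +kernel
theorem rel38 : evalM A1.R38 = 1 := by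
  have h : A1.R38 = (List.replicate 9 W38).flatten := by decide +kernel
  rw [h, evalM_flatten_replicate, eW38]
  have h2 : Y38_2 ^ 2 = Z38_2 := by rw [pow_two]; exact z38_2
  have h3 : Y38_2 ^ 3 = Z38_3 := by rw [pow_succ, h2]; exact z38_3
  rw [show 9 = 3 * 3 from rfl, pow_mul, h3, pow_succ, pow_two]; exact (congrArg (· * Z38_3) z38_6).trans z38_9

theorem rels_all : ∀ w ∈ A1.relL, evalM w = 1 := by
  unfold A1.relL
  exact List.forall_mem_cons.2 ⟨rel0, List.forall_mem_cons.2 ⟨rel1, List.forall_mem_cons.2 ⟨rel2, List.forall_mem_cons.2 ⟨rel3, List.forall_mem_cons.2 ⟨rel4, List.forall_mem_cons.2 ⟨rel5, List.forall_mem_cons.2 ⟨rel6, List.forall_mem_cons.2 ⟨rel7, List.forall_mem_cons.2 ⟨rel8, List.forall_mem_cons.2 ⟨rel9, List.forall_mem_cons.2 ⟨rel10, List.forall_mem_cons.2 ⟨rel11, List.forall_mem_cons.2 ⟨rel12, List.forall_mem_cons.2 ⟨rel13, List.forall_mem_cons.2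 ⟨rel14, List.forall_mem_cons.2 ⟨rel15, List.forall_mem_cons.2 ⟨rel16, List.forall_mem_cons.2 ⟨rel17, List.forall_mem_cons.2 ⟨rel18, List.forall_mem_cons.2 ⟨rel19, List.forall_mem_cons.2 ⟨rel20, List.forall_mem_cons.2 ⟨rel21, List.forall_mem_cons.2 ⟨rel22, List.forall_mem_cons.2 ⟨rel23, List.forall_mem_cons.2 ⟨rel24, List.forall_mem_cons.2 ⟨rel25, List.forall_mem_cons.2 ⟨rel26, List.forall_mem_cons.2 ⟨rel27, List.forall_mem_cons.2 ⟨rel28, List.forall_mem_cons.2 ⟨rel29, List.forall_mem_cons.2 ⟨rel30, List.forall_mem_cons.2 ⟨rel31, List.forall_mem_cons.2 ⟨rel32, List.forall_mem_cons.2 ⟨rel33, List.forall_mem_cons.2 ⟨rel34, List.forall_mem_cons.2 ⟨rel35, List.forall_mem_cons.2 ⟨rel36, List.forall_mem_cons.2 ⟨rel37, List.forall_mem_cons.2 ⟨rel38, forall_mem_nil' _⟩⟩⟩⟩⟩⟩⟩⟩⟩⟩⟩⟩⟩⟩⟩⟩⟩⟩⟩⟩⟩⟩⟩⟩⟩⟩⟩⟩⟩⟩⟩⟩⟩⟩⟩⟩⟩⟩⟩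

theorem lift_rel : ∀ r ∈ A1.D.rels, FreeGroup.lift gen r = 1 := by
  rintro r ⟨w, hw, rfl⟩
  apply Units.ext
  rw [lift_mk_val]
  exact rels_all w hw

/-- the matrix representation of the presented group `A1` -/
noncomputable def psi : PresentedGroup A1.D.rels →* GL7 := PresentedGroup.toGroup lift_rel

theorem psi_of (x : Gen) : psi (PresentedGroup.of x) = gen x := PresentedGroup.toGroup.of lift_rel

theorem gen_mem_range (x : Gen) : gen x ∈ psi.range := ⟨PresentedGroup.of x, psi_of x⟩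

theorem closure_GS_le_range (L : List Gen) : Subgroup.closure (GS L false) ≤ psi.range := by
  rw [Subgroup.closure_le]
  rintro s (⟨hu, -⟩ | ⟨x, -, rfl⟩)
  · exact absurd hu (by decide)
  · exact gen_mem_range x

end Cfsg.Agent.Lead.O73
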