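import Cfsg.Agent.Lib.Lead.O73.Level0
import Cfsg.Agent.Lib.Lead.O73.Level1
import Cfsg.Agent.Lib.Lead.O73.Level2
import Cfsg.Agent.Lib.Lead.O73.Level3
import Cfsg.Agent.Lib.Lead.O73.Level4
import Cfsg.Agent.Lib.Lead.O73.Level5
import Cfsg.Agent.Lib.Lead.O73.Level6
import Cfsg.Agent.Lib.Lead.O73.Level7
import Cfsg.Agent.Lib.Lead.O73.Rels

/-! # O73: the image of `psi` has at least 4585351680 elements -/

set_option autoImplicit false
set_option maxRecDepth 100000

namespace Cfsg.Agent.Lead.O73

open Cfsg.Spor.Fi22 (Gen)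

theorem lower_closure : 4585351680 ≤ Nat.card (Subgroup.closure GB0) := by
  have h0 := level0
  have h1 := level1
  have h2 := level2
  have h3 := level3
  have h4 := level4
  have h5 := level5
  have h6 := level6
  have h7 := level7
  have h8 : 1 ≤ Nat.card (Subgroup.closure GK7) := Nat.card_pos
  have e0 : Subgroup.closure GK0 = Subgroup.closure GB1 := rfl
  have e1 : Subgroup.closure GK1 = Subgroup.closure GB2 := rfl
  have e2 : Subgroup.closure GK2 = Subgroup.closure GB3 := rfl
  have e3 : Subgroup.closure GK3 = Subgroup.closure GB4 := rfl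
  have e4 : Subgroup.closure GK4 = Subgroup.closure GB5 := rfl
  have e5 : Subgroup.closure GK5 = Subgroup.closure GB6 := rfl
  have e6 : Subgroup.closure GK6 = Subgroup.closure GB7 := rfl
  rw [e0] at h0
  rw [e1] at h1
  rw [e2] at h2
  rw [e3] at h3
  rw [e4] at h4
  rw [e5] at h5
  rw [e6] at h6
  omega

theorem lower : 4585351680 ≤ Nat.card psi.range :=
  lower_closure.trans (Subgroup.card_le_of_le (closure_GS_le_range _))

end Cfsg.Agent.Lead.O73
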