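import Cfsg.Agent.Lib.Lead.O73.Lower
import Cfsg.Agent.Lib.Lead.O73.Iso

/-!
# O73: the data side of S1686

A homomorphism `psiO` from helper27's presented group `A1G` (on `b, …, i`) into the isometry group of
`x₀² + x₁y₁ + x₂y₂ + x₃y₃` over `ZMod 3` whose image has at least `4585351680 = |PΩ(7,3)|` elements.
-/

set_option autoImplicit false

namespace Cfsg.Agent.Lead.O73

open Cfsg.Agent.Helper84.O7 (Q A1G)

theorem lower_psiO : 4585351680 ≤ Nat.card psiO.range := by
  rw [card_range_psiO]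
  exact lower

theorem exists_hom : ∃ ψ : A1G →* ↥(Cfsg.isometryGroup (ZMod 3) Q), 4585351680 ≤ Nat.card ψ.range :=
  ⟨psiO, lower_psiO⟩

end Cfsg.Agent.Lead.O73
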