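import Cfsg.Agent.Lib.Lead.O73.Obj0

/-! # O73: orbit steps of level 0, part 0 -/

set_option autoImplicit false
set_option maxRecDepth 100000

namespace Cfsg.Agent.Lead.O73

open Cfsg.Spor.Fi22 (Gen)

theorem n0_1 : M .g * o0_0 * (M .g).transpose = o0_1 := by decide +kernel
theorem n0_2 : M .f * o0_1 * (M .f).transpose = o0_2 := by decide +kernel
theorem n0_3 : M .e * o0_2 * (M .e).transpose = o0_3 := by decide +kernel
theorem n0_4 : M .d * o0_3 * (M .d).transpose = o0_4 := by decide +kernel
theorem n0_5 : M .c * o0_4 * (M .c).transpose = o0_5 := by decide +kernel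
theorem n0_6 : M .h * o0_4 * (M .h).transpose = o0_6 := by decide +kernel
theorem n0_7 : M .b * o0_5 * (M .b).transpose = o0_7 := by decide +kernel
theorem n0_8 : M .h * o0_5 * (M .h).transpose = o0_8 := by decide +kernel
theorem n0_9 : M .i * o0_6 * (M .i).transpose = o0_9 := by decide +kernel
theorem n0_10 : M .h * o0_7 * (M .h).transpose = o0_10 := by decide +kernel
theorem n0_11 : M .d * o0_8 * (M .d).transpose = o0_11 := by decide +kernel
theorem n0_12 : M .i * o0_8 * (M .i).transpose = o0_12 := by decide +kernel
theorem n0_13 : M .d * o0_10 * (M .d).transpose = o0_13 := by decide +kernel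
theorem n0_14 : M .i * o0_10 * (M .i).transpose = o0_14 := by decide +kernel
theorem n0_15 : M .e * o0_11 * (M .e).transpose = o0_15 := by decide +kernel
theorem n0_16 : M .i * o0_11 * (M .i).transpose = o0_16 := by decide +kernel
theorem n0_17 : M .c * o0_13 * (M .c).transpose = o0_17 := by decide +kernel
theorem n0_18 : M .e * o0_13 * (M .e).transpose = o0_18 := by decide +kernel
theorem n0_19 : M .i * o0_13 * (M .i).transpose = o0_19 := by decide +kernel
theorem n0_20 : M .f * o0_15 * (M .f).transpose = o0_20 := by decide +kernel
theorem n0_21 : M .i * o0_15 * (M .i).transpose = o0_21 := by decide +kernel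
theorem n0_22 : M .h * o0_16 * (M .h).transpose = o0_22 := by decide +kernel
theorem n0_23 : M .e * o0_17 * (M .e).transpose = o0_23 := by decide +kernel
theorem n0_24 : M .i * o0_17 * (M .i).transpose = o0_24 := by decide +kernel
theorem n0_25 : M .f * o0_18 * (M .f).transpose = o0_25 := by decide +kernel
theorem n0_26 : M .i * o0_18 * (M .i).transpose = o0_26 := by decide +kernel
theorem n0_27 : M .h * o0_19 * (M .h).transpose = o0_27 := by decide +kernel
theorem n0_28 : M .g * o0_20 * (M .g).transpose = o0_28 := by decide +kernel
theorem n0_29 : M .i * o0_20 * (M .i).transpose = o0_29 := by decide +kernel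
theorem n0_30 : M .h * o0_21 * (M .h).transpose = o0_30 := by decide +kernel
theorem n0_31 : M .d * o0_23 * (M .d).transpose = o0_31 := by decide +kernel
theorem n0_32 : M .f * o0_23 * (M .f).transpose = o0_32 := by decide +kernel
theorem n0_33 : M .i * o0_23 * (M .i).transpose = o0_33 := by decide +kernel
theorem n0_34 : M .h * o0_24 * (M .h).transpose = o0_34 := by decide +kernel
theorem n0_35 : M .g * o0_25 * (M .g).transpose = o0_35 := by decide +kernel
theorem n0_36 : M .i * o0_25 * (M .i).transpose = o0_36 := by decide +kernel
theorem n0_37 : M .h * o0_26 * (M .h).transpose = o0_37 := by decide +kernel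
theorem n0_38 : M .i * o0_28 * (M .i).transpose = o0_38 := by decide +kernel
theorem n0_39 : M .h * o0_29 * (M .h).transpose = o0_39 := by decide +kernel
theorem n0_40 : M .d * o0_30 * (M .d).transpose = o0_40 := by decide +kernel
theorem n0_41 : M .f * o0_31 * (M .f).transpose = o0_41 := by decide +kernel
theorem n0_42 : M .h * o0_31 * (M .h).transpose = o0_42 := by decide +kernel
theorem n0_43 : M .i * o0_31 * (M .i).transpose = o0_43 := by decide +kernel
theorem n0_44 : M .g * o0_32 * (M .g).transpose = o0_44 := by decide +kernel
theorem n0_45 : M .i * o0_32 * (M .i).transpose = o0_45 := by decide +kernel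
theorem n0_46 : M .h * o0_33 * (M .h).transpose = o0_46 := by decide +kernel
theorem n0_47 : M .d * o0_34 * (M .d).transpose = o0_47 := by decide +kernel
theorem n0_48 : M .i * o0_35 * (M .i).transpose = o0_48 := by decide +kernel
theorem n0_49 : M .h * o0_36 * (M .h).transpose = o0_49 := by decide +kernel
theorem n0_50 : M .d * o0_37 * (M .d).transpose = o0_50 := by decide +kernel
theorem n0_51 : M .h * o0_38 * (M .h).transpose = o0_51 := by decide +kernel
theorem n0_52 : M .d * o0_39 * (M .d).transpose = o0_52 := by decide +kernel
theorem n0_53 : M .c * o0_40 * (M .c).transpose = o0_53 := by decide +kernel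
theorem n0_54 : M .e * o0_41 * (M .e).transpose = o0_54 := by decide +kernel
theorem n0_55 : M .g * o0_41 * (M .g).transpose = o0_55 := by decide +kernel
theorem n0_56 : M .h * o0_41 * (M .h).transpose = o0_56 := by decide +kernel
theorem n0_57 : M .i * o0_41 * (M .i).transpose = o0_57 := by decide +kernel
theorem n0_58 : M .i * o0_42 * (M .i).transpose = o0_58 := by decide +kernel
theorem n0_59 : M .h * o0_43 * (M .h).transpose = o0_59 := by decide +kernel
theorem n0_60 : M .i * o0_44 * (M .i).transpose = o0_60 := by decide +kernel
theorem n0_61 : M .h * o0_45 * (M .h).transpose = o0_61 := by decide +kernel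
theorem n0_62 : M .d * o0_46 * (M .d).transpose = o0_62 := by decide +kernel
theorem n0_63 : M .e * o0_47 * (M .e).transpose = o0_63 := by decide +kernel
theorem n0_64 : M .h * o0_48 * (M .h).transpose = o0_64 := by decide +kernel
theorem n0_65 : M .d * o0_49 * (M .d).transpose = o0_65 := by decide +kernel
theorem n0_66 : M .c * o0_50 * (M .c).transpose = o0_66 := by decide +kernel
theorem n0_67 : M .d * o0_51 * (M .d).transpose = o0_67 := by decide +kernel
theorem n0_68 : M .c * o0_52 * (M .c).transpose = o0_68 := by decide +kernel
theorem n0_69 : M .e * o0_52 * (M .e).transpose = o0_69 := by decide +kernel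
theorem n0_70 : M .b * o0_53 * (M .b).transpose = o0_70 := by decide +kernel
theorem n0_71 : M .i * o0_54 * (M .i).transpose = o0_71 := by decide +kernel
theorem n0_72 : M .i * o0_55 * (M .i).transpose = o0_72 := by decide +kernel
theorem n0_73 : M .i * o0_56 * (M .i).transpose = o0_73 := by decide +kernel
theorem n0_74 : M .h * o0_57 * (M .h).transpose = o0_74 := by decide +kernel
theorem n0_75 : M .h * o0_58 * (M .h).transpose = o0_75 := by decide +kernel
theorem n0_76 : M .d * o0_59 * (M .d).transpose = o0_76 := by decide +kernel
theorem n0_77 : M .h * o0_60 * (M .h).transpose = o0_77 := by decide +kernel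
theorem n0_78 : M .d * o0_61 * (M .d).transpose = o0_78 := by decide +kernel
theorem n0_79 : M .c * o0_62 * (M .c).transpose = o0_79 := by decide +kernel
theorem n0_80 : M .e * o0_62 * (M .e).transpose = o0_80 := by decide +kernel
theorem n0_81 : M .f * o0_63 * (M .f).transpose = o0_81 := by decide +kernel
theorem n0_82 : M .d * o0_64 * (M .d).transpose = o0_82 := by decide +kernel
theorem n0_83 : M .c * o0_65 * (M .c).transpose = o0_83 := by decide +kernel
theorem n0_84 : M .e * o0_65 * (M .e).transpose = o0_84 := by decide +kernel
theorem n0_85 : M .b * o0_66 * (M .b).transpose = o0_85 := by decide +kernel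
theorem n0_86 : M .b * o0_68 * (M .b).transpose = o0_86 := by decide +kernel
theorem n0_87 : M .h * o0_71 * (M .h).transpose = o0_87 := by decide +kernel
theorem n0_88 : M .h * o0_72 * (M .h).transpose = o0_88 := by decide +kernel
theorem n0_89 : M .h * o0_73 * (M .h).transpose = o0_89 := by decide +kernel
theorem n0_90 : M .d * o0_74 * (M .d).transpose = o0_90 := by decide +kernel

end Cfsg.Agent.Lead.O73
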