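import Cfsg.Agent.Lib.Lead.O73.Obj1

/-! # O73: orbit steps of level 1, part 0 -/

set_option autoImplicit false
set_option maxRecDepth 100000

namespace Cfsg.Agent.Lead.O73

open Cfsg.Spor.Fi22 (Gen)

theorem n1_1 : M .b * o1_0 * (M .b).transpose = o1_1 := by decide +kernel
theorem n1_2 : M .i * o1_0 * (M .i).transpose = o1_2 := by decide +kernel
theorem n1_3 : M .c * o1_1 * (M .c).transpose = o1_3 := by decide +kernel
theorem n1_4 : M .i * o1_1 * (M .i).transpose = o1_4 := by decide +kernel
theorem n1_5 : M .h * o1_2 * (M .h).transpose = o1_5 := by decide +kernel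
theorem n1_6 : M .d * o1_3 * (M .d).transpose = o1_6 := by decide +kernel
theorem n1_7 : M .i * o1_3 * (M .i).transpose = o1_7 := by decide +kernel
theorem n1_8 : M .h * o1_4 * (M .h).transpose = o1_8 := by decide +kernel
theorem n1_9 : M .d * o1_5 * (M .d).transpose = o1_9 := by decide +kernel
theorem n1_10 : M .e * o1_6 * (M .e).transpose = o1_10 := by decide +kernel
theorem n1_11 : M .h * o1_6 * (M .h).transpose = o1_11 := by decide +kernel
theorem n1_12 : M .i * o1_6 * (M .i).transpose = o1_12 := by decide +kernel
theorem n1_13 : M .h * o1_7 * (M .h).transpose = o1_13 := by decide +kernel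
theorem n1_14 : M .d * o1_8 * (M .d).transpose = o1_14 := by decide +kernel
theorem n1_15 : M .c * o1_9 * (M .c).transpose = o1_15 := by decide +kernel
theorem n1_16 : M .e * o1_9 * (M .e).transpose = o1_16 := by decide +kernel
theorem n1_17 : M .f * o1_10 * (M .f).transpose = o1_17 := by decide +kernel
theorem n1_18 : M .h * o1_10 * (M .h).transpose = o1_18 := by decide +kernel
theorem n1_19 : M .i * o1_10 * (M .i).transpose = o1_19 := by decide +kernel
theorem n1_20 : M .i * o1_11 * (M .i).transpose = o1_20 := by decide +kernel
theorem n1_21 : M .h * o1_12 * (M .h).transpose = o1_21 := by decide +kernel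
theorem n1_22 : M .d * o1_13 * (M .d).transpose = o1_22 := by decide +kernel
theorem n1_23 : M .c * o1_14 * (M .c).transpose = o1_23 := by decide +kernel
theorem n1_24 : M .e * o1_14 * (M .e).transpose = o1_24 := by decide +kernel
theorem n1_25 : M .b * o1_15 * (M .b).transpose = o1_25 := by decide +kernel
theorem n1_26 : M .e * o1_15 * (M .e).transpose = o1_26 := by decide +kernel
theorem n1_27 : M .f * o1_16 * (M .f).transpose = o1_27 := by decide +kernel
theorem n1_28 : M .h * o1_17 * (M .h).transpose = o1_28 := by decide +kernel
theorem n1_29 : M .i * o1_17 * (M .i).transpose = o1_29 := by decide +kernel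
theorem n1_30 : M .d * o1_18 * (M .d).transpose = o1_30 := by decide +kernel
theorem n1_31 : M .i * o1_18 * (M .i).transpose = o1_31 := by decide +kernel
theorem n1_32 : M .h * o1_19 * (M .h).transpose = o1_32 := by decide +kernel
theorem n1_33 : M .h * o1_20 * (M .h).transpose = o1_33 := by decide +kernel
theorem n1_34 : M .d * o1_21 * (M .d).transpose = o1_34 := by decide +kernel
theorem n1_35 : M .c * o1_22 * (M .c).transpose = o1_35 := by decide +kernel
theorem n1_36 : M .e * o1_22 * (M .e).transpose = o1_36 := by decide +kernel
theorem n1_37 : M .b * o1_23 * (M .b).transpose = o1_37 := by decide +kernel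
theorem n1_38 : M .e * o1_23 * (M .e).transpose = o1_38 := by decide +kernel
theorem n1_39 : M .f * o1_24 * (M .f).transpose = o1_39 := by decide +kernel
theorem n1_40 : M .e * o1_25 * (M .e).transpose = o1_40 := by decide +kernel
theorem n1_41 : M .d * o1_26 * (M .d).transpose = o1_41 := by decide +kernel
theorem n1_42 : M .f * o1_26 * (M .f).transpose = o1_42 := by decide +kernel
theorem n1_43 : M .d * o1_28 * (M .d).transpose = o1_43 := by decide +kernel
theorem n1_44 : M .i * o1_28 * (M .i).transpose = o1_44 := by decide +kernel
theorem n1_45 : M .h * o1_29 * (M .h).transpose = o1_45 := by decide +kernel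
theorem n1_46 : M .c * o1_30 * (M .c).transpose = o1_46 := by decide +kernel
theorem n1_47 : M .i * o1_30 * (M .i).transpose = o1_47 := by decide +kernel
theorem n1_48 : M .h * o1_31 * (M .h).transpose = o1_48 := by decide +kernel
theorem n1_49 : M .d * o1_32 * (M .d).transpose = o1_49 := by decide +kernel
theorem n1_50 : M .d * o1_33 * (M .d).transpose = o1_50 := by decide +kernel
theorem n1_51 : M .c * o1_34 * (M .c).transpose = o1_51 := by decide +kernel
theorem n1_52 : M .e * o1_34 * (M .e).transpose = o1_52 := by decide +kernel
theorem n1_53 : M .b * o1_35 * (M .b).transpose = o1_53 := by decide +kernel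
theorem n1_54 : M .e * o1_35 * (M .e).transpose = o1_54 := by decide +kernel
theorem n1_55 : M .f * o1_36 * (M .f).transpose = o1_55 := by decide +kernel
theorem n1_56 : M .e * o1_37 * (M .e).transpose = o1_56 := by decide +kernel
theorem n1_57 : M .d * o1_38 * (M .d).transpose = o1_57 := by decide +kernel
theorem n1_58 : M .f * o1_38 * (M .f).transpose = o1_58 := by decide +kernel
theorem n1_59 : M .d * o1_40 * (M .d).transpose = o1_59 := by decide +kernel
theorem n1_60 : M .f * o1_40 * (M .f).transpose = o1_60 := by decide +kernel
theorem n1_61 : M .f * o1_41 * (M .f).transpose = o1_61 := by decide +kernel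
theorem n1_62 : M .h * o1_41 * (M .h).transpose = o1_62 := by decide +kernel
theorem n1_63 : M .c * o1_43 * (M .c).transpose = o1_63 := by decide +kernel
theorem n1_64 : M .e * o1_43 * (M .e).transpose = o1_64 := by decide +kernel
theorem n1_65 : M .i * o1_43 * (M .i).transpose = o1_65 := by decide +kernel
theorem n1_66 : M .h * o1_44 * (M .h).transpose = o1_66 := by decide +kernel
theorem n1_67 : M .d * o1_45 * (M .d).transpose = o1_67 := by decide +kernel
theorem n1_68 : M .b * o1_46 * (M .b).transpose = o1_68 := by decide +kernel
theorem n1_69 : M .i * o1_46 * (M .i).transpose = o1_69 := by decide +kernel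
theorem n1_70 : M .h * o1_47 * (M .h).transpose = o1_70 := by decide +kernel
theorem n1_71 : M .d * o1_48 * (M .d).transpose = o1_71 := by decide +kernel
theorem n1_72 : M .c * o1_49 * (M .c).transpose = o1_72 := by decide +kernel
theorem n1_73 : M .e * o1_49 * (M .e).transpose = o1_73 := by decide +kernel
theorem n1_74 : M .c * o1_50 * (M .c).transpose = o1_74 := by decide +kernel
theorem n1_75 : M .e * o1_50 * (M .e).transpose = o1_75 := by decide +kernel
theorem n1_76 : M .b * o1_51 * (M .b).transpose = o1_76 := by decide +kernel
theorem n1_77 : M .e * o1_51 * (M .e).transpose = o1_77 := by decide +kernel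
theorem n1_78 : M .f * o1_52 * (M .f).transpose = o1_78 := by decide +kernel
theorem n1_79 : M .e * o1_53 * (M .e).transpose = o1_79 := by decide +kernel
theorem n1_80 : M .d * o1_54 * (M .d).transpose = o1_80 := by decide +kernel
theorem n1_81 : M .f * o1_54 * (M .f).transpose = o1_81 := by decide +kernel
theorem n1_82 : M .d * o1_56 * (M .d).transpose = o1_82 := by decide +kernel
theorem n1_83 : M .f * o1_56 * (M .f).transpose = o1_83 := by decide +kernel
theorem n1_84 : M .f * o1_57 * (M .f).transpose = o1_84 := by decide +kernel
theorem n1_85 : M .h * o1_57 * (M .h).transpose = o1_85 := by decide +kernel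
theorem n1_86 : M .f * o1_59 * (M .f).transpose = o1_86 := by decide +kernel
theorem n1_87 : M .e * o1_61 * (M .e).transpose = o1_87 := by decide +kernel
theorem n1_88 : M .h * o1_61 * (M .h).transpose = o1_88 := by decide +kernel
theorem n1_89 : M .b * o1_63 * (M .b).transpose = o1_89 := by decide +kernel
theorem n1_90 : M .e * o1_63 * (M .e).transpose = o1_90 := by decide +kernel

end Cfsg.Agent.Lead.O73
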