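import Cfsg.Agent.Lib.Lead.O73.Obj2

/-! # O73: orbit steps of level 2, part 0 -/

set_option autoImplicit false
set_option maxRecDepth 100000

namespace Cfsg.Agent.Lead.O73

open Cfsg.Spor.Fi22 (Gen)

theorem n2_1 : M .h * o2_0 * (M .h).transpose = o2_1 := by decide +kernel
theorem n2_2 : M .d * o2_1 * (M .d).transpose = o2_2 := by decide +kernel
theorem n2_3 : M .c * o2_2 * (M .c).transpose = o2_3 := by decide +kernel
theorem n2_4 : M .e * o2_2 * (M .e).transpose = o2_4 := by decide +kernel
theorem n2_5 : MB * o2_3 * MB.transpose = o2_5 := by decide +kernel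
theorem n2_6 : M .e * o2_3 * (M .e).transpose = o2_6 := by decide +kernel
theorem n2_7 : M .f * o2_4 * (M .f).transpose = o2_7 := by decide +kernel
theorem n2_8 : M .e * o2_5 * (M .e).transpose = o2_8 := by decide +kernel
theorem n2_9 : M .d * o2_6 * (M .d).transpose = o2_9 := by decide +kernel
theorem n2_10 : M .f * o2_6 * (M .f).transpose = o2_10 := by decide +kernel
theorem n2_11 : M .d * o2_8 * (M .d).transpose = o2_11 := by decide +kernel
theorem n2_12 : M .f * o2_8 * (M .f).transpose = o2_12 := by decide +kernel
theorem n2_13 : M .f * o2_9 * (M .f).transpose = o2_13 := by decide +kernel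
theorem n2_14 : M .h * o2_9 * (M .h).transpose = o2_14 := by decide +kernel
theorem n2_15 : M .c * o2_11 * (M .c).transpose = o2_15 := by decide +kernel
theorem n2_16 : M .f * o2_11 * (M .f).transpose = o2_16 := by decide +kernel
theorem n2_17 : M .h * o2_11 * (M .h).transpose = o2_17 := by decide +kernel
theorem n2_18 : M .e * o2_13 * (M .e).transpose = o2_18 := by decide +kernel
theorem n2_19 : M .h * o2_13 * (M .h).transpose = o2_19 := by decide +kernel
theorem n2_20 : M .f * o2_15 * (M .f).transpose = o2_20 := by decide +kernel
theorem n2_21 : M .h * o2_15 * (M .h).transpose = o2_21 := by decide +kernel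
theorem n2_22 : M .e * o2_16 * (M .e).transpose = o2_22 := by decide +kernel
theorem n2_23 : M .h * o2_16 * (M .h).transpose = o2_23 := by decide +kernel
theorem n2_24 : M .h * o2_18 * (M .h).transpose = o2_24 := by decide +kernel
theorem n2_25 : M .e * o2_20 * (M .e).transpose = o2_25 := by decide +kernel
theorem n2_26 : M .h * o2_20 * (M .h).transpose = o2_26 := by decide +kernel
theorem n2_27 : M .d * o2_21 * (M .d).transpose = o2_27 := by decide +kernel
theorem n2_28 : M .h * o2_22 * (M .h).transpose = o2_28 := by decide +kernel
theorem n2_29 : M .d * o2_24 * (M .d).transpose = o2_29 := by decide +kernel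
theorem n2_30 : M .d * o2_25 * (M .d).transpose = o2_30 := by decide +kernel
theorem n2_31 : M .h * o2_25 * (M .h).transpose = o2_31 := by decide +kernel
theorem n2_32 : M .d * o2_26 * (M .d).transpose = o2_32 := by decide +kernel
theorem n2_33 : M .e * o2_27 * (M .e).transpose = o2_33 := by decide +kernel
theorem n2_34 : M .d * o2_28 * (M .d).transpose = o2_34 := by decide +kernel
theorem n2_35 : M .c * o2_29 * (M .c).transpose = o2_35 := by decide +kernel
theorem n2_36 : M .h * o2_30 * (M .h).transpose = o2_36 := by decide +kernel
theorem n2_37 : M .d * o2_31 * (M .d).transpose = o2_37 := by decide +kernel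
theorem n2_38 : M .e * o2_32 * (M .e).transpose = o2_38 := by decide +kernel
theorem n2_39 : M .f * o2_33 * (M .f).transpose = o2_39 := by decide +kernel
theorem n2_40 : M .c * o2_34 * (M .c).transpose = o2_40 := by decide +kernel
theorem n2_41 : MB * o2_35 * MB.transpose = o2_41 := by decide +kernel
theorem n2_42 : M .d * o2_36 * (M .d).transpose = o2_42 := by decide +kernel
theorem n2_43 : M .c * o2_37 * (M .c).transpose = o2_43 := by decide +kernel
theorem n2_44 : M .e * o2_37 * (M .e).transpose = o2_44 := by decide +kernel
theorem n2_45 : M .f * o2_38 * (M .f).transpose = o2_45 := by decide +kernel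
theorem n2_46 : MB * o2_40 * MB.transpose = o2_46 := by decide +kernel
theorem n2_47 : M .c * o2_42 * (M .c).transpose = o2_47 := by decide +kernel
theorem n2_48 : M .e * o2_42 * (M .e).transpose = o2_48 := by decide +kernel
theorem n2_49 : MB * o2_43 * MB.transpose = o2_49 := by decide +kernel
theorem n2_50 : M .e * o2_43 * (M .e).transpose = o2_50 := by decide +kernel
theorem n2_51 : M .f * o2_44 * (M .f).transpose = o2_51 := by decide +kernel
theorem n2_52 : MB * o2_47 * MB.transpose = o2_52 := by decide +kernel
theorem n2_53 : M .e * o2_47 * (M .e).transpose = o2_53 := by decide +kernel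
theorem n2_54 : M .f * o2_48 * (M .f).transpose = o2_54 := by decide +kernel
theorem n2_55 : M .e * o2_49 * (M .e).transpose = o2_55 := by decide +kernel
theorem n2_56 : M .f * o2_50 * (M .f).transpose = o2_56 := by decide +kernel
theorem n2_57 : M .e * o2_52 * (M .e).transpose = o2_57 := by decide +kernel
theorem n2_58 : M .d * o2_53 * (M .d).transpose = o2_58 := by decide +kernel
theorem n2_59 : M .f * o2_53 * (M .f).transpose = o2_59 := by decide +kernel
theorem n2_60 : M .f * o2_55 * (M .f).transpose = o2_60 := by decide +kernel
theorem n2_61 : M .d * o2_57 * (M .d).transpose = o2_61 := by decide +kernel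
theorem n2_62 : M .f * o2_57 * (M .f).transpose = o2_62 := by decide +kernel
theorem n2_63 : M .f * o2_58 * (M .f).transpose = o2_63 := by decide +kernel
theorem n2_64 : M .c * o2_61 * (M .c).transpose = o2_64 := by decide +kernel
theorem n2_65 : M .f * o2_61 * (M .f).transpose = o2_65 := by decide +kernel
theorem n2_66 : M .e * o2_63 * (M .e).transpose = o2_66 := by decide +kernel
theorem n2_67 : M .f * o2_64 * (M .f).transpose = o2_67 := by decide +kernel
theorem n2_68 : M .e * o2_65 * (M .e).transpose = o2_68 := by decide +kernel
theorem n2_69 : M .e * o2_67 * (M .e).transpose = o2_69 := by decide +kernel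
theorem n2_70 : M .d * o2_69 * (M .d).transpose = o2_70 := by decide +kernel
theorem n2_71 : M .h * o2_70 * (M .h).transpose = o2_71 := by decide +kernel

end Cfsg.Agent.Lead.O73
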