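import Cfsg.Agent.Lib.Lead.O73.Obj3

/-! # O73: orbit steps of level 3, part 0 -/

set_option autoImplicit false
set_option maxRecDepth 100000

namespace Cfsg.Agent.Lead.O73

open Cfsg.Spor.Fi22 (Gen)

theorem n3_1 : M .c * o3_0 * (M .c).transpose = o3_1 := by decide +kernel
theorem n3_2 : MB * o3_1 * MB.transpose = o3_2 := by decide +kernel
theorem n3_3 : M .d * o3_1 * (M .d).transpose = o3_3 := by decide +kernel
theorem n3_4 : M .d * o3_2 * (M .d).transpose = o3_4 := by decide +kernel
theorem n3_5 : M .e * o3_3 * (M .e).transpose = o3_5 := by decide +kernel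
theorem n3_6 : M .c * o3_4 * (M .c).transpose = o3_6 := by decide +kernel
theorem n3_7 : M .e * o3_4 * (M .e).transpose = o3_7 := by decide +kernel
theorem n3_8 : M .f * o3_5 * (M .f).transpose = o3_8 := by decide +kernel
theorem n3_9 : M .e * o3_6 * (M .e).transpose = o3_9 := by decide +kernel
theorem n3_10 : M .f * o3_7 * (M .f).transpose = o3_10 := by decide +kernel
theorem n3_11 : M .d * o3_9 * (M .d).transpose = o3_11 := by decide +kernel
theorem n3_12 : M .f * o3_9 * (M .f).transpose = o3_12 := by decide +kernel
theorem n3_13 : M .f * o3_11 * (M .f).transpose = o3_13 := by decide +kernel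
theorem n3_14 : M .e * o3_13 * (M .e).transpose = o3_14 := by decide +kernel

end Cfsg.Agent.Lead.O73
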