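import Cfsg.Agent.Lib.Lead.O73.Obj4

/-! # O73: orbit steps of level 4, part 0 -/

set_option autoImplicit false
set_option maxRecDepth 100000

namespace Cfsg.Agent.Lead.O73

open Cfsg.Spor.Fi22 (Gen)

theorem n4_1 : MB * o4_0 * MB.transpose = o4_1 := by decide +kernel

end Cfsg.Agent.Lead.O73
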