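import Cfsg.Agent.Lib.Lead.O73.Obj5

/-! # O73: orbit steps of level 5, part 0 -/

set_option autoImplicit false
set_option maxRecDepth 100000

namespace Cfsg.Agent.Lead.O73

open Cfsg.Spor.Fi22 (Gen)

theorem n5_1 : M .d * o5_0 * (M .d).transpose = o5_1 := by decide +kernel
theorem n5_2 : M .e * o5_1 * (M .e).transpose = o5_2 := by decide +kernel
theorem n5_3 : M .f * o5_2 * (M .f).transpose = o5_3 := by decide +kernel

end Cfsg.Agent.Lead.O73
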