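import Cfsg.Agent.Lib.Lead.O73.Gens

/-! # O73: objects of level 0 -/

set_option autoImplicit false
set_option maxRecDepth 100000

namespace Cfsg.Agent.Lead.O73

open Cfsg.Spor.Fi22 (Gen)

def o0_0 : Mat := !![1, 1, 0, 0, 2, 0, 0; 1, 1, 0, 0, 2, 0, 0; 0, 0, 0, 0, 0, 0, 0; 0, 0, 0, 0, 0, 0, 0; 2, 2, 0, 0, 1, 0, 0; 0, 0, 0, 0, 0, 0, 0; 0, 0, 0, 0, 0, 0, 0]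
def o0_1 : Mat := !![1, 2, 0, 0, 1, 0, 0; 2, 1, 0, 0, 2, 0, 0; 0, 0, 0, 0, 0, 0, 0; 0, 0, 0, 0, 0, 0, 0; 1, 2, 0, 0, 1, 0, 0; 0, 0, 0, 0, 0, 0, 0; 0, 0, 0, 0, 0, 0, 0]
def o0_2 : Mat := !![1, 1, 0, 2, 1, 1, 2; 1, 1, 0, 2, 1, 1, 2; 0, 0, 0, 0, 0, 0, 0; 2, 2, 0, 1, 2, 2, 1; 1, 1, 0, 2, 1, 1, 2; 1, 1, 0, 2, 1, 1, 2; 2, 2, 0, 1, 2, 2, 1]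
def o0_3 : Mat := !![1, 1, 2, 2, 1, 2, 0; 1, 1, 2, 2, 1, 2, 0; 2, 2, 1, 1, 2, 1, 0; 2, 2, 1, 1, 2, 1, 0; 1, 1, 2, 2, 1, 2, 0; 2, 2, 1, 1, 2, 1, 0; 0, 0, 0, 0, 0, 0, 0]
def o0_4 : Mat := !![1, 1, 2, 0, 1, 2, 2; 1, 1, 2, 0, 1, 2, 2; 2, 2, 1, 0, 2, 1, 1; 0, 0, 0, 0, 0, 0, 0; 1, 1, 2, 0, 1, 2, 2; 2, 2, 1, 0, 2, 1, 1; 2, 2, 1, 0, 2, 1, 1]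
def o0_5 : Mat := !![1, 1, 2, 1, 1, 0, 1; 1, 1, 2, 1, 1, 0, 1; 2, 2, 1, 2, 2, 0, 2; 1, 1, 2, 1, 1, 0, 1; 1, 1, 2, 1, 1, 0, 1; 0, 0, 0, 0, 0, 0, 0; 1, 1, 2, 1, 1, 0, 1]
def o0_6 : Mat := !![1, 1, 1, 2, 1, 0, 2; 1, 1, 1, 2, 1, 0, 2; 1, 1, 1, 2, 1, 0, 2; 2, 2, 2, 1, 2, 0, 1; 1, 1, 1, 2, 1, 0, 2; 0, 0, 0, 0, 0, 0, 0; 2, 2, 2, 1, 2, 0, 1]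
def o0_7 : Mat := !![1, 2, 0, 1, 2, 1, 1; 2, 1, 0, 2, 1, 2, 2; 0, 0, 0, 0, 0, 0, 0; 1, 2, 0, 1, 2, 1, 1; 2, 1, 0, 2, 1, 2, 2; 1, 2, 0, 1, 2, 1, 1; 1, 2, 0, 1, 2, 1, 1]
def o0_8 : Mat := !![1, 1, 1, 0, 1, 1, 1; 1, 1, 1, 0, 1, 1, 1; 1, 1, 1, 0, 1, 1, 1; 0, 0, 0, 0, 0, 0, 0; 1, 1, 1, 0, 1, 1, 1; 1, 1, 1, 0, 1, 1, 1; 1, 1, 1, 0, 1, 1, 1]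
def o0_9 : Mat := !![1, 2, 1, 0, 2, 1, 0; 2, 1, 2, 0, 1, 2, 0; 1, 2, 1, 0, 2, 1, 0; 0, 0, 0, 0, 0, 0, 0; 2, 1, 2, 0, 1, 2, 0; 1, 2, 1, 0, 2, 1, 0; 0, 0, 0, 0, 0, 0, 0]
def o0_10 : Mat := !![1, 2, 2, 0, 2, 2, 1; 2, 1, 1, 0, 1, 1, 2; 2, 1, 1, 0, 1, 1, 2; 0, 0, 0, 0, 0, 0, 0; 2, 1, 1, 0, 1, 1, 2; 2, 1, 1, 0, 1, 1, 2; 1, 2, 2, 0, 2, 2, 1]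
def o0_11 : Mat := !![1, 1, 1, 1, 1, 1, 0; 1, 1, 1, 1, 1, 1, 0; 1, 1, 1, 1, 1, 1, 0; 1, 1, 1, 1, 1, 1, 0; 1, 1, 1, 1, 1, 1, 0; 1, 1, 1, 1, 1, 1, 0; 0, 0, 0, 0, 0, 0, 0]
def o0_12 : Mat := !![1, 2, 1, 1, 2, 2, 2; 2, 1, 2, 2, 1, 1, 1; 1, 2, 1, 1, 2, 2, 2; 1, 2, 1, 1, 2, 2, 2; 2, 1, 2, 2, 1, 1, 1; 2, 1, 2, 2, 1, 1, 1; 2, 1, 2, 2, 1, 1, 1]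
def o0_13 : Mat := !![1, 2, 2, 1, 2, 2, 0; 2, 1, 1, 2, 1, 1, 0; 2, 1, 1, 2, 1, 1, 0; 1, 2, 2, 1, 2, 2, 0; 2, 1, 1, 2, 1, 1, 0; 2, 1, 1, 2, 1, 1, 0; 0, 0, 0, 0, 0, 0, 0]
def o0_14 : Mat := !![1, 0, 2, 1, 0, 0, 2; 0, 0, 0, 0, 0, 0, 0; 2, 0, 1, 2, 0, 0, 1; 1, 0, 2, 1, 0, 0, 2; 0, 0, 0, 0, 0, 0, 0; 0, 0, 0, 0, 0, 0, 0; 2, 0, 1, 2, 0, 0, 1]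
def o0_15 : Mat := !![1, 1, 0, 1, 1, 2, 1; 1, 1, 0, 1, 1, 2, 1; 0, 0, 0, 0, 0, 0, 0; 1, 1, 0, 1, 1, 2, 1; 1, 1, 0, 1, 1, 2, 1; 2, 2, 0, 2, 2, 1, 2; 1, 1, 0, 1, 1, 2, 1]
def o0_16 : Mat := !![1, 2, 1, 2, 2, 2, 1; 2, 1, 2, 1, 1, 1, 2; 1, 2, 1, 2, 2, 2, 1; 2, 1, 2, 1, 1, 1, 2; 2, 1, 2, 1, 1, 1, 2; 2, 1, 2, 1, 1, 1, 2; 1, 2, 1, 2, 2, 2, 1]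
def o0_17 : Mat := !![1, 2, 2, 2, 2, 0, 2; 2, 1, 1, 1, 1, 0, 1; 2, 1, 1, 1, 1, 0, 1; 2, 1, 1, 1, 1, 0, 1; 2, 1, 1, 1, 1, 0, 1; 0, 0, 0, 0, 0, 0, 0; 2, 1, 1, 1, 1, 0, 1]
def o0_18 : Mat := !![1, 2, 1, 1, 2, 0, 1; 2, 1, 2, 2, 1, 0, 2; 1, 2, 1, 1, 2, 0, 1; 1, 2, 1, 1, 2, 0, 1; 2, 1, 2, 2, 1, 0, 2; 0, 0, 0, 0, 0, 0, 0; 1, 2, 1, 1, 2, 0, 1]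
def o0_19 : Mat := !![1, 0, 2, 2, 0, 0, 1; 0, 0, 0, 0, 0, 0, 0; 2, 0, 1, 1, 0, 0, 2; 2, 0, 1, 1, 0, 0, 2; 0, 0, 0, 0, 0, 0, 0; 0, 0, 0, 0, 0, 0, 0; 1, 0, 2, 2, 0, 0, 1]
def o0_20 : Mat := !![0, 0, 0, 0, 0, 0, 0; 0, 1, 0, 0, 0, 0, 0; 0, 0, 0, 0, 0, 0, 0; 0, 0, 0, 0, 0, 0, 0; 0, 0, 0, 0, 0, 0, 0; 0, 0, 0, 0, 0, 0, 0; 0, 0, 0, 0, 0, 0, 0]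
def o0_21 : Mat := !![1, 2, 0, 2, 2, 0, 2; 2, 1, 0, 1, 1, 0, 1; 0, 0, 0, 0, 0, 0, 0; 2, 1, 0, 1, 1, 0, 1; 2, 1, 0, 1, 1, 0, 1; 0, 0, 0, 0, 0, 0, 0; 2, 1, 0, 1, 1, 0, 1]
def o0_22 : Mat := !![1, 2, 0, 1, 2, 0, 1; 2, 1, 0, 2, 1, 0, 2; 0, 0, 0, 0, 0, 0, 0; 1, 2, 0, 1, 2, 0, 1; 2, 1, 0, 2, 1, 0, 2; 0, 0, 0, 0, 0, 0, 0; 1, 2, 0, 1, 2, 0, 1]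
def o0_23 : Mat := !![1, 2, 1, 2, 2, 1, 0; 2, 1, 2, 1, 1, 2, 0; 1, 2, 1, 2, 2, 1, 0; 2, 1, 2, 1, 1, 2, 0; 2, 1, 2, 1, 1, 2, 0; 1, 2, 1, 2, 2, 1, 0; 0, 0, 0, 0, 0, 0, 0]
def o0_24 : Mat := !![1, 0, 2, 0, 0, 1, 0; 0, 0, 0, 0, 0, 0, 0; 2, 0, 1, 0, 0, 2, 0; 0, 0, 0, 0, 0, 0, 0; 0, 0, 0, 0, 0, 0, 0; 1, 0, 2, 0, 0, 1, 0; 0, 0, 0, 0, 0, 0, 0]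
def o0_25 : Mat := !![0, 0, 0, 0, 0, 0, 0; 0, 1, 2, 0, 2, 2, 0; 0, 2, 1, 0, 1, 1, 0; 0, 0, 0, 0, 0, 0, 0; 0, 2, 1, 0, 1, 1, 0; 0, 2, 1, 0, 1, 1, 0; 0, 0, 0, 0, 0, 0, 0]
def o0_26 : Mat := !![1, 0, 1, 2, 0, 1, 2; 0, 0, 0, 0, 0, 0, 0; 1, 0, 1, 2, 0, 1, 2; 2, 0, 2, 1, 0, 2, 1; 0, 0, 0, 0, 0, 0, 0; 1, 0, 1, 2, 0, 1, 2; 2, 0, 2, 1, 0, 2, 1]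
def o0_27 : Mat := !![1, 0, 1, 1, 0, 1, 1; 0, 0, 0, 0, 0, 0, 0; 1, 0, 1, 1, 0, 1, 1; 1, 0, 1, 1, 0, 1, 1; 0, 0, 0, 0, 0, 0, 0; 1, 0, 1, 1, 0, 1, 1; 1, 0, 1, 1, 0, 1, 1]
def o0_28 : Mat := !![0, 0, 0, 0, 0, 0, 0; 0, 0, 0, 0, 0, 0, 0; 0, 0, 0, 0, 0, 0, 0; 0, 0, 0, 0, 0, 0, 0; 0, 0, 0, 0, 1, 0, 0; 0, 0, 0, 0, 0, 0, 0; 0, 0, 0, 0, 0, 0, 0]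
def o0_29 : Mat := !![0, 0, 0, 0, 0, 0, 0; 0, 1, 0, 2, 2, 2, 2; 0, 0, 0, 0, 0, 0, 0; 0, 2, 0, 1, 1, 1, 1; 0, 2, 0, 1, 1, 1, 1; 0, 2, 0, 1, 1, 1, 1; 0, 2, 0, 1, 1, 1, 1]
def o0_30 : Mat := !![1, 2, 2, 1, 2, 1, 2; 2, 1, 1, 2, 1, 2, 1; 2, 1, 1, 2, 1, 2, 1; 1, 2, 2, 1, 2, 1, 2; 2, 1, 1, 2, 1, 2, 1; 1, 2, 2, 1, 2, 1, 2; 2, 1, 1, 2, 1, 2, 1]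
def o0_31 : Mat := !![1, 2, 1, 0, 2, 1, 2; 2, 1, 2, 0, 1, 2, 1; 1, 2, 1, 0, 2, 1, 2; 0, 0, 0, 0, 0, 0, 0; 2, 1, 2, 0, 1, 2, 1; 1, 2, 1, 0, 2, 1, 2; 2, 1, 2, 0, 1, 2, 1]
def o0_32 : Mat := !![0, 0, 0, 0, 0, 0, 0; 0, 1, 2, 2, 2, 1, 1; 0, 2, 1, 1, 1, 2, 2; 0, 2, 1, 1, 1, 2, 2; 0, 2, 1, 1, 1, 2, 2; 0, 1, 2, 2, 2, 1, 1; 0, 1, 2, 2, 2, 1, 1]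
def o0_33 : Mat := !![1, 0, 1, 0, 0, 2, 1; 0, 0, 0, 0, 0, 0, 0; 1, 0, 1, 0, 0, 2, 1; 0, 0, 0, 0, 0, 0, 0; 0, 0, 0, 0, 0, 0, 0; 2, 0, 2, 0, 0, 1, 2; 1, 0, 1, 0, 0, 2, 1]
def o0_34 : Mat := !![1, 0, 1, 2, 0, 2, 0; 0, 0, 0, 0, 0, 0, 0; 1, 0, 1, 2, 0, 2, 0; 2, 0, 2, 1, 0, 1, 0; 0, 0, 0, 0, 0, 0, 0; 2, 0, 2, 1, 0, 1, 0; 0, 0, 0, 0, 0, 0, 0]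
def o0_35 : Mat := !![0, 0, 0, 0, 0, 0, 0; 0, 1, 1, 0, 2, 1, 0; 0, 1, 1, 0, 2, 1, 0; 0, 0, 0, 0, 0, 0, 0; 0, 2, 2, 0, 1, 2, 0; 0, 1, 1, 0, 2, 1, 0; 0, 0, 0, 0, 0, 0, 0]
def o0_36 : Mat := !![0, 0, 0, 0, 0, 0, 0; 0, 0, 0, 0, 0, 0, 0; 0, 0, 1, 1, 2, 2, 1; 0, 0, 1, 1, 2, 2, 1; 0, 0, 2, 2, 1, 1, 2; 0, 0, 2, 2, 1, 1, 2; 0, 0, 1, 1, 2, 2, 1]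
def o0_37 : Mat := !![1, 0, 0, 1, 0, 2, 2; 0, 0, 0, 0, 0, 0, 0; 0, 0, 0, 0, 0, 0, 0; 1, 0, 0, 1, 0, 2, 2; 0, 0, 0, 0, 0, 0, 0; 2, 0, 0, 2, 0, 1, 1; 2, 0, 0, 2, 0, 1, 1]
def o0_38 : Mat := !![0, 0, 0, 0, 0, 0, 0; 0, 1, 0, 1, 2, 1, 1; 0, 0, 0, 0, 0, 0, 0; 0, 1, 0, 1, 2, 1, 1; 0, 2, 0, 2, 1, 2, 2; 0, 1, 0, 1, 2, 1, 1; 0, 1, 0, 1, 2, 1, 1]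
def o0_39 : Mat := !![0, 0, 0, 0, 0, 0, 0; 0, 1, 1, 0, 2, 1, 2; 0, 1, 1, 0, 2, 1, 2; 0, 0, 0, 0, 0, 0, 0; 0, 2, 2, 0, 1, 2, 1; 0, 1, 1, 0, 2, 1, 2; 0, 2, 2, 0, 1, 2, 1]
def o0_40 : Mat := !![1, 2, 2, 2, 2, 1, 1; 2, 1, 1, 1, 1, 2, 2; 2, 1, 1, 1, 1, 2, 2; 2, 1, 1, 1, 1, 2, 2; 2, 1, 1, 1, 1, 2, 2; 1, 2, 2, 2, 2, 1, 1; 1, 2, 2, 2, 2, 1, 1]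
def o0_41 : Mat := !![0, 0, 0, 0, 0, 0, 0; 0, 1, 2, 1, 2, 1, 2; 0, 2, 1, 2, 1, 2, 1; 0, 1, 2, 1, 2, 1, 2; 0, 2, 1, 2, 1, 2, 1; 0, 1, 2, 1, 2, 1, 2; 0, 2, 1, 2, 1, 2, 1]
def o0_42 : Mat := !![1, 2, 0, 2, 2, 2, 2; 2, 1, 0, 1, 1, 1, 1; 0, 0, 0, 0, 0, 0, 0; 2, 1, 0, 1, 1, 1, 1; 2, 1, 0, 1, 1, 1, 1; 2, 1, 0, 1, 1, 1, 1; 2, 1, 0, 1, 1, 1, 1]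
def o0_43 : Mat := !![1, 0, 1, 1, 0, 2, 0; 0, 0, 0, 0, 0, 0, 0; 1, 0, 1, 1, 0, 2, 0; 1, 0, 1, 1, 0, 2, 0; 0, 0, 0, 0, 0, 0, 0; 2, 0, 2, 2, 0, 1, 0; 0, 0, 0, 0, 0, 0, 0]
def o0_44 : Mat := !![0, 0, 0, 0, 0, 0, 0; 0, 1, 1, 1, 2, 2, 2; 0, 1, 1, 1, 2, 2, 2; 0, 1, 1, 1, 2, 2, 2; 0, 2, 2, 2, 1, 1, 1; 0, 2, 2, 2, 1, 1, 1; 0, 2, 2, 2, 1, 1, 1]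
def o0_45 : Mat := !![0, 0, 0, 0, 0, 0, 0; 0, 0, 0, 0, 0, 0, 0; 0, 0, 1, 2, 2, 0, 0; 0, 0, 2, 1, 1, 0, 0; 0, 0, 2, 1, 1, 0, 0; 0, 0, 0, 0, 0, 0, 0; 0, 0, 0, 0, 0, 0, 0]
def o0_46 : Mat := !![1, 0, 0, 2, 0, 0, 1; 0, 0, 0, 0, 0, 0, 0; 0, 0, 0, 0, 0, 0, 0; 2, 0, 0, 1, 0, 0, 2; 0, 0, 0, 0, 0, 0, 0; 0, 0, 0, 0, 0, 0, 0; 1, 0, 0, 2, 0, 0, 1]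
def o0_47 : Mat := !![1, 0, 1, 0, 0, 2, 2; 0, 0, 0, 0, 0, 0, 0; 1, 0, 1, 0, 0, 2, 2; 0, 0, 0, 0, 0, 0, 0; 0, 0, 0, 0, 0, 0, 0; 2, 0, 2, 0, 0, 1, 1; 2, 0, 2, 0, 0, 1, 1]
def o0_48 : Mat := !![0, 0, 0, 0, 0, 0, 0; 0, 1, 2, 2, 0, 1, 2; 0, 2, 1, 1, 0, 2, 1; 0, 2, 1, 1, 0, 2, 1; 0, 0, 0, 0, 0, 0, 0; 0, 1, 2, 2, 0, 1, 2; 0, 2, 1, 1, 0, 2, 1]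
def o0_49 : Mat := !![0, 0, 0, 0, 0, 0, 0; 0, 0, 0, 0, 0, 0, 0; 0, 0, 0, 0, 0, 0, 0; 0, 0, 0, 0, 0, 0, 0; 0, 0, 0, 0, 1, 0, 2; 0, 0, 0, 0, 0, 0, 0; 0, 0, 0, 0, 2, 0, 1]
def o0_50 : Mat := !![1, 0, 0, 2, 0, 2, 1; 0, 0, 0, 0, 0, 0, 0; 0, 0, 0, 0, 0, 0, 0; 2, 0, 0, 1, 0, 1, 2; 0, 0, 0, 0, 0, 0, 0; 2, 0, 0, 1, 0, 1, 2; 1, 0, 0, 2, 0, 2, 1]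
def o0_51 : Mat := !![0, 0, 0, 0, 0, 0, 0; 0, 1, 2, 0, 2, 2, 1; 0, 2, 1, 0, 1, 1, 2; 0, 0, 0, 0, 0, 0, 0; 0, 2, 1, 0, 1, 1, 2; 0, 2, 1, 0, 1, 1, 2; 0, 1, 2, 0, 2, 2, 1]
def o0_52 : Mat := !![0, 0, 0, 0, 0, 0, 0; 0, 1, 1, 2, 2, 1, 0; 0, 1, 1, 2, 2, 1, 0; 0, 2, 2, 1, 1, 2, 0; 0, 2, 2, 1, 1, 2, 0; 0, 1, 1, 2, 2, 1, 0; 0, 0, 0, 0, 0, 0, 0]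
def o0_53 : Mat := !![1, 2, 2, 0, 2, 2, 0; 2, 1, 1, 0, 1, 1, 0; 2, 1, 1, 0, 1, 1, 0; 0, 0, 0, 0, 0, 0, 0; 2, 1, 1, 0, 1, 1, 0; 2, 1, 1, 0, 1, 1, 0; 0, 0, 0, 0, 0, 0, 0]
def o0_54 : Mat := !![0, 0, 0, 0, 0, 0, 0; 0, 1, 0, 1, 2, 0, 1; 0, 0, 0, 0, 0, 0, 0; 0, 1, 0, 1, 2, 0, 1; 0, 2, 0, 2, 1, 0, 2; 0, 0, 0, 0, 0, 0, 0; 0, 1, 0, 1, 2, 0, 1]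
def o0_55 : Mat := !![0, 0, 0, 0, 0, 0, 0; 0, 1, 1, 2, 2, 2, 1; 0, 1, 1, 2, 2, 2, 1; 0, 2, 2, 1, 1, 1, 2; 0, 2, 2, 1, 1, 1, 2; 0, 2, 2, 1, 1, 1, 2; 0, 1, 1, 2, 2, 2, 1]
def o0_56 : Mat := !![0, 0, 0, 0, 0, 0, 0; 0, 1, 0, 2, 2, 0, 2; 0, 0, 0, 0, 0, 0, 0; 0, 2, 0, 1, 1, 0, 1; 0, 2, 0, 1, 1, 0, 1; 0, 0, 0, 0, 0, 0, 0; 0, 2, 0, 1, 1, 0, 1]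
def o0_57 : Mat := !![0, 0, 0, 0, 0, 0, 0; 0, 0, 0, 0, 0, 0, 0; 0, 0, 1, 0, 2, 0, 2; 0, 0, 0, 0, 0, 0, 0; 0, 0, 2, 0, 1, 0, 1; 0, 0, 0, 0, 0, 0, 0; 0, 0, 2, 0, 1, 0, 1]
def o0_58 : Mat := !![1, 1, 0, 1, 1, 1, 1; 1, 1, 0, 1, 1, 1, 1; 0, 0, 0, 0, 0, 0, 0; 1, 1, 0, 1, 1, 1, 1; 1, 1, 0, 1, 1, 1, 1; 1, 1, 0, 1, 1, 1, 1; 1, 1, 0, 1, 1, 1, 1]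
def o0_59 : Mat := !![1, 0, 2, 2, 0, 1, 0; 0, 0, 0, 0, 0, 0, 0; 2, 0, 1, 1, 0, 2, 0; 2, 0, 1, 1, 0, 2, 0; 0, 0, 0, 0, 0, 0, 0; 1, 0, 2, 2, 0, 1, 0; 0, 0, 0, 0, 0, 0, 0]
def o0_60 : Mat := !![0, 0, 0, 0, 0, 0, 0; 0, 1, 2, 1, 0, 0, 0; 0, 2, 1, 2, 0, 0, 0; 0, 1, 2, 1, 0, 0, 0; 0, 0, 0, 0, 0, 0, 0; 0, 0, 0, 0, 0, 0, 0; 0, 0, 0, 0, 0, 0, 0]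
def o0_61 : Mat := !![0, 0, 0, 0, 0, 0, 0; 0, 0, 0, 0, 0, 0, 0; 0, 0, 0, 0, 0, 0, 0; 0, 0, 0, 1, 2, 1, 0; 0, 0, 0, 2, 1, 2, 0; 0, 0, 0, 1, 2, 1, 0; 0, 0, 0, 0, 0, 0, 0]
def o0_62 : Mat := !![1, 0, 0, 1, 0, 0, 2; 0, 0, 0, 0, 0, 0, 0; 0, 0, 0, 0, 0, 0, 0; 1, 0, 0, 1, 0, 0, 2; 0, 0, 0, 0, 0, 0, 0; 0, 0, 0, 0, 0, 0, 0; 2, 0, 0, 2, 0, 0, 1]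
def o0_63 : Mat := !![1, 0, 2, 0, 0, 1, 1; 0, 0, 0, 0, 0, 0, 0; 2, 0, 1, 0, 0, 2, 2; 0, 0, 0, 0, 0, 0, 0; 0, 0, 0, 0, 0, 0, 0; 1, 0, 2, 0, 0, 1, 1; 1, 0, 2, 0, 0, 1, 1]
def o0_64 : Mat := !![0, 0, 0, 0, 0, 0, 0; 0, 1, 0, 0, 0, 0, 2; 0, 0, 0, 0, 0, 0, 0; 0, 0, 0, 0, 0, 0, 0; 0, 0, 0, 0, 0, 0, 0; 0, 0, 0, 0, 0, 0, 0; 0, 2, 0, 0, 0, 0, 1]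
def o0_65 : Mat := !![0, 0, 0, 0, 0, 0, 0; 0, 0, 0, 0, 0, 0, 0; 0, 0, 0, 0, 0, 0, 0; 0, 0, 0, 1, 2, 0, 0; 0, 0, 0, 2, 1, 0, 0; 0, 0, 0, 0, 0, 0, 0; 0, 0, 0, 0, 0, 0, 0]
def o0_66 : Mat := !![1, 0, 0, 1, 0, 1, 2; 0, 0, 0, 0, 0, 0, 0; 0, 0, 0, 0, 0, 0, 0; 1, 0, 0, 1, 0, 1, 2; 0, 0, 0, 0, 0, 0, 0; 1, 0, 0, 1, 0, 1, 2; 2, 0, 0, 2, 0, 2, 1]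
def o0_67 : Mat := !![0, 0, 0, 0, 0, 0, 0; 0, 1, 2, 1, 2, 2, 0; 0, 2, 1, 2, 1, 1, 0; 0, 1, 2, 1, 2, 2, 0; 0, 2, 1, 2, 1, 1, 0; 0, 2, 1, 2, 1, 1, 0; 0, 0, 0, 0, 0, 0, 0]
def o0_68 : Mat := !![0, 0, 0, 0, 0, 0, 0; 0, 1, 1, 1, 2, 0, 1; 0, 1, 1, 1, 2, 0, 1; 0, 1, 1, 1, 2, 0, 1; 0, 2, 2, 2, 1, 0, 2; 0, 0, 0, 0, 0, 0, 0; 0, 1, 1, 1, 2, 0, 1]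
def o0_69 : Mat := !![0, 0, 0, 0, 0, 0, 0; 0, 1, 2, 2, 2, 0, 2; 0, 2, 1, 1, 1, 0, 1; 0, 2, 1, 1, 1, 0, 1; 0, 2, 1, 1, 1, 0, 1; 0, 0, 0, 0, 0, 0, 0; 0, 2, 1, 1, 1, 0, 1]
def o0_70 : Mat := !![1, 1, 1, 0, 1, 1, 0; 1, 1, 1, 0, 1, 1, 0; 1, 1, 1, 0, 1, 1, 0; 0, 0, 0, 0, 0, 0, 0; 1, 1, 1, 0, 1, 1, 0; 1, 1, 1, 0, 1, 1, 0; 0, 0, 0, 0, 0, 0, 0]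
def o0_71 : Mat := !![0, 0, 0, 0, 0, 0, 0; 0, 0, 0, 0, 0, 0, 0; 0, 0, 0, 0, 0, 0, 0; 0, 0, 0, 0, 0, 0, 0; 0, 0, 0, 0, 1, 2, 0; 0, 0, 0, 0, 2, 1, 0; 0, 0, 0, 0, 0, 0, 0]
def o0_72 : Mat := !![0, 0, 0, 0, 0, 0, 0; 0, 1, 2, 0, 0, 0, 1; 0, 2, 1, 0, 0, 0, 2; 0, 0, 0, 0, 0, 0, 0; 0, 0, 0, 0, 0, 0, 0; 0, 0, 0, 0, 0, 0, 0; 0, 1, 2, 0, 0, 0, 1]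
def o0_73 : Mat := !![0, 0, 0, 0, 0, 0, 0; 0, 1, 0, 0, 0, 2, 0; 0, 0, 0, 0, 0, 0, 0; 0, 0, 0, 0, 0, 0, 0; 0, 0, 0, 0, 0, 0, 0; 0, 2, 0, 0, 0, 1, 0; 0, 0, 0, 0, 0, 0, 0]
def o0_74 : Mat := !![0, 0, 0, 0, 0, 0, 0; 0, 0, 0, 0, 0, 0, 0; 0, 0, 1, 2, 1, 1, 1; 0, 0, 2, 1, 2, 2, 2; 0, 0, 1, 2, 1, 1, 1; 0, 0, 1, 2, 1, 1, 1; 0, 0, 1, 2, 1, 1, 1]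
def o0_75 : Mat := !![1, 1, 2, 0, 1, 2, 1; 1, 1, 2, 0, 1, 2, 1; 2, 2, 1, 0, 2, 1, 2; 0, 0, 0, 0, 0, 0, 0; 1, 1, 2, 0, 1, 2, 1; 2, 2, 1, 0, 2, 1, 2; 1, 1, 2, 0, 1, 2, 1]
def o0_76 : Mat := !![1, 0, 2, 0, 0, 1, 2; 0, 0, 0, 0, 0, 0, 0; 2, 0, 1, 0, 0, 2, 1; 0, 0, 0, 0, 0, 0, 0; 0, 0, 0, 0, 0, 0, 0; 1, 0, 2, 0, 0, 1, 2; 2, 0, 1, 0, 0, 2, 1]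
def o0_77 : Mat := !![0, 0, 0, 0, 0, 0, 0; 0, 1, 0, 2, 0, 2, 0; 0, 0, 0, 0, 0, 0, 0; 0, 2, 0, 1, 0, 1, 0; 0, 0, 0, 0, 0, 0, 0; 0, 2, 0, 1, 0, 1, 0; 0, 0, 0, 0, 0, 0, 0]
def o0_78 : Mat := !![0, 0, 0, 0, 0, 0, 0; 0, 0, 0, 0, 0, 0, 0; 0, 0, 0, 0, 0, 0, 0; 0, 0, 0, 0, 0, 0, 0; 0, 0, 0, 0, 1, 2, 2; 0, 0, 0, 0, 2, 1, 1; 0, 0, 0, 0, 2, 1, 1]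
def o0_79 : Mat := !![1, 0, 0, 2, 0, 1, 1; 0, 0, 0, 0, 0, 0, 0; 0, 0, 0, 0, 0, 0, 0; 2, 0, 0, 1, 0, 2, 2; 0, 0, 0, 0, 0, 0, 0; 1, 0, 0, 2, 0, 1, 1; 1, 0, 0, 2, 0, 1, 1]
def o0_80 : Mat := !![1, 0, 2, 1, 0, 1, 0; 0, 0, 0, 0, 0, 0, 0; 2, 0, 1, 2, 0, 2, 0; 1, 0, 2, 1, 0, 1, 0; 0, 0, 0, 0, 0, 0, 0; 1, 0, 2, 1, 0, 1, 0; 0, 0, 0, 0, 0, 0, 0]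
def o0_81 : Mat := !![1, 0, 1, 2, 2, 0, 1; 0, 0, 0, 0, 0, 0, 0; 1, 0, 1, 2, 2, 0, 1; 2, 0, 2, 1, 1, 0, 2; 2, 0, 2, 1, 1, 0, 2; 0, 0, 0, 0, 0, 0, 0; 1, 0, 1, 2, 2, 0, 1]
def o0_82 : Mat := !![0, 0, 0, 0, 0, 0, 0; 0, 1, 0, 2, 0, 0, 0; 0, 0, 0, 0, 0, 0, 0; 0, 2, 0, 1, 0, 0, 0; 0, 0, 0, 0, 0, 0, 0; 0, 0, 0, 0, 0, 0, 0; 0, 0, 0, 0, 0, 0, 0]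
def o0_83 : Mat := !![0, 0, 0, 0, 0, 0, 0; 0, 0, 0, 0, 0, 0, 0; 0, 0, 0, 0, 0, 0, 0; 0, 0, 0, 0, 0, 0, 0; 0, 0, 0, 0, 1, 1, 2; 0, 0, 0, 0, 1, 1, 2; 0, 0, 0, 0, 2, 2, 1]
def o0_84 : Mat := !![0, 0, 0, 0, 0, 0, 0; 0, 0, 0, 0, 0, 0, 0; 0, 0, 1, 2, 1, 2, 2; 0, 0, 2, 1, 2, 1, 1; 0, 0, 1, 2, 1, 2, 2; 0, 0, 2, 1, 2, 1, 1; 0, 0, 2, 1, 2, 1, 1]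
def o0_85 : Mat := !![1, 1, 1, 1, 1, 2, 2; 1, 1, 1, 1, 1, 2, 2; 1, 1, 1, 1, 1, 2, 2; 1, 1, 1, 1, 1, 2, 2; 1, 1, 1, 1, 1, 2, 2; 2, 2, 2, 2, 2, 1, 1; 2, 2, 2, 2, 2, 1, 1]
def o0_86 : Mat := !![0, 0, 0, 0, 0, 0, 0; 0, 1, 1, 2, 0, 2, 2; 0, 1, 1, 2, 0, 2, 2; 0, 2, 2, 1, 0, 1, 1; 0, 0, 0, 0, 0, 0, 0; 0, 2, 2, 1, 0, 1, 1; 0, 2, 2, 1, 0, 1, 1]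
def o0_87 : Mat := !![0, 0, 0, 0, 0, 0, 0; 0, 0, 0, 0, 0, 0, 0; 0, 0, 1, 1, 2, 0, 0; 0, 0, 1, 1, 2, 0, 0; 0, 0, 2, 2, 1, 0, 0; 0, 0, 0, 0, 0, 0, 0; 0, 0, 0, 0, 0, 0, 0]
def o0_88 : Mat := !![0, 0, 0, 0, 0, 0, 0; 0, 1, 1, 2, 0, 1, 1; 0, 1, 1, 2, 0, 1, 1; 0, 2, 2, 1, 0, 2, 2; 0, 0, 0, 0, 0, 0, 0; 0, 1, 1, 2, 0, 1, 1; 0, 1, 1, 2, 0, 1, 1]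
def o0_89 : Mat := !![0, 0, 0, 0, 0, 0, 0; 0, 1, 2, 2, 0, 0, 0; 0, 2, 1, 1, 0, 0, 0; 0, 2, 1, 1, 0, 0, 0; 0, 0, 0, 0, 0, 0, 0; 0, 0, 0, 0, 0, 0, 0; 0, 0, 0, 0, 0, 0, 0]
def o0_90 : Mat := !![0, 0, 0, 0, 0, 0, 0; 0, 0, 0, 0, 0, 0, 0; 0, 0, 1, 1, 1, 1, 2; 0, 0, 1, 1, 1, 1, 2; 0, 0, 1, 1, 1, 1, 2; 0, 0, 1, 1, 1, 1, 2; 0, 0, 2, 2, 2, 2, 1]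
def o0_91 : Mat := !![1, 1, 2, 1, 1, 2, 0; 1, 1, 2, 1, 1, 2, 0; 2, 2, 1, 2, 2, 1, 0; 1, 1, 2, 1, 1, 2, 0; 1, 1, 2, 1, 1, 2, 0; 2, 2, 1, 2, 2, 1, 0; 0, 0, 0, 0, 0, 0, 0]
def o0_92 : Mat := !![1, 0, 2, 1, 0, 2, 1; 0, 0, 0, 0, 0, 0, 0; 2, 0, 1, 2, 0, 1, 2; 1, 0, 2, 1, 0, 2, 1; 0, 0, 0, 0, 0, 0, 0; 2, 0, 1, 2, 0, 1, 2; 1, 0, 2, 1, 0, 2, 1]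
def o0_93 : Mat := !![1, 0, 1, 0, 0, 2, 0; 0, 0, 0, 0, 0, 0, 0; 1, 0, 1, 0, 0, 2, 0; 0, 0, 0, 0, 0, 0, 0; 0, 0, 0, 0, 0, 0, 0; 2, 0, 2, 0, 0, 1, 0; 0, 0, 0, 0, 0, 0, 0]
def o0_94 : Mat := !![0, 0, 0, 0, 0, 0, 0; 0, 1, 0, 0, 0, 2, 2; 0, 0, 0, 0, 0, 0, 0; 0, 0, 0, 0, 0, 0, 0; 0, 0, 0, 0, 0, 0, 0; 0, 2, 0, 0, 0, 1, 1; 0, 2, 0, 0, 0, 1, 1]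
def o0_95 : Mat := !![0, 0, 0, 0, 0, 0, 0; 0, 0, 0, 0, 0, 0, 0; 0, 0, 0, 0, 0, 0, 0; 0, 0, 0, 1, 2, 2, 0; 0, 0, 0, 2, 1, 1, 0; 0, 0, 0, 2, 1, 1, 0; 0, 0, 0, 0, 0, 0, 0]
def o0_96 : Mat := !![0, 0, 0, 0, 0, 0, 0; 0, 0, 0, 0, 0, 0, 0; 0, 0, 1, 0, 2, 0, 0; 0, 0, 0, 0, 0, 0, 0; 0, 0, 2, 0, 1, 0, 0; 0, 0, 0, 0, 0, 0, 0; 0, 0, 0, 0, 0, 0, 0]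
def o0_97 : Mat := !![1, 1, 1, 2, 1, 2, 1; 1, 1, 1, 2, 1, 2, 1; 1, 1, 1, 2, 1, 2, 1; 2, 2, 2, 1, 2, 1, 2; 1, 1, 1, 2, 1, 2, 1; 2, 2, 2, 1, 2, 1, 2; 1, 1, 1, 2, 1, 2, 1]
def o0_98 : Mat := !![1, 0, 2, 2, 0, 2, 2; 0, 0, 0, 0, 0, 0, 0; 2, 0, 1, 1, 0, 1, 1; 2, 0, 1, 1, 0, 1, 1; 0, 0, 0, 0, 0, 0, 0; 2, 0, 1, 1, 0, 1, 1; 2, 0, 1, 1, 0, 1, 1]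
def o0_99 : Mat := !![1, 0, 1, 1, 2, 0, 2; 0, 0, 0, 0, 0, 0, 0; 1, 0, 1, 1, 2, 0, 2; 1, 0, 1, 1, 2, 0, 2; 2, 0, 2, 2, 1, 0, 1; 0, 0, 0, 0, 0, 0, 0; 2, 0, 2, 2, 1, 0, 1]
def o0_100 : Mat := !![1, 2, 1, 2, 0, 0, 1; 2, 1, 2, 1, 0, 0, 2; 1, 2, 1, 2, 0, 0, 1; 2, 1, 2, 1, 0, 0, 2; 0, 0, 0, 0, 0, 0, 0; 0, 0, 0, 0, 0, 0, 0; 1, 2, 1, 2, 0, 0, 1]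
def o0_101 : Mat := !![0, 0, 0, 0, 0, 0, 0; 0, 1, 0, 0, 0, 1, 2; 0, 0, 0, 0, 0, 0, 0; 0, 0, 0, 0, 0, 0, 0; 0, 0, 0, 0, 0, 0, 0; 0, 1, 0, 0, 0, 1, 2; 0, 2, 0, 0, 0, 2, 1]
def o0_102 : Mat := !![0, 0, 0, 0, 0, 0, 0; 0, 1, 1, 0, 0, 0, 1; 0, 1, 1, 0, 0, 0, 1; 0, 0, 0, 0, 0, 0, 0; 0, 0, 0, 0, 0, 0, 0; 0, 0, 0, 0, 0, 0, 0; 0, 1, 1, 0, 0, 0, 1]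
def o0_103 : Mat := !![0, 0, 0, 0, 0, 0, 0; 0, 0, 0, 0, 0, 0, 0; 0, 0, 1, 0, 1, 0, 1; 0, 0, 0, 0, 0, 0, 0; 0, 0, 1, 0, 1, 0, 1; 0, 0, 0, 0, 0, 0, 0; 0, 0, 1, 0, 1, 0, 1]
def o0_104 : Mat := !![0, 0, 0, 0, 0, 0, 0; 0, 0, 0, 0, 0, 0, 0; 0, 0, 1, 0, 2, 0, 1; 0, 0, 0, 0, 0, 0, 0; 0, 0, 2, 0, 1, 0, 2; 0, 0, 0, 0, 0, 0, 0; 0, 0, 1, 0, 2, 0, 1]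
def o0_105 : Mat := !![0, 0, 0, 0, 0, 0, 0; 0, 1, 1, 1, 0, 1, 2; 0, 1, 1, 1, 0, 1, 2; 0, 1, 1, 1, 0, 1, 2; 0, 0, 0, 0, 0, 0, 0; 0, 1, 1, 1, 0, 1, 2; 0, 2, 2, 2, 0, 2, 1]
def o0_106 : Mat := !![0, 0, 0, 0, 0, 0, 0; 0, 1, 2, 0, 0, 0, 2; 0, 2, 1, 0, 0, 0, 1; 0, 0, 0, 0, 0, 0, 0; 0, 0, 0, 0, 0, 0, 0; 0, 0, 0, 0, 0, 0, 0; 0, 2, 1, 0, 0, 0, 1]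
def o0_107 : Mat := !![0, 0, 0, 0, 0, 0, 0; 0, 0, 0, 0, 0, 0, 0; 0, 0, 1, 0, 1, 0, 0; 0, 0, 0, 0, 0, 0, 0; 0, 0, 1, 0, 1, 0, 0; 0, 0, 0, 0, 0, 0, 0; 0, 0, 0, 0, 0, 0, 0]
def o0_108 : Mat := !![0, 0, 0, 0, 0, 0, 0; 0, 0, 0, 0, 0, 0, 0; 0, 0, 0, 0, 0, 0, 0; 0, 0, 0, 1, 1, 2, 0; 0, 0, 0, 1, 1, 2, 0; 0, 0, 0, 2, 2, 1, 0; 0, 0, 0, 0, 0, 0, 0]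
def o0_109 : Mat := !![1, 1, 2, 2, 1, 0, 2; 1, 1, 2, 2, 1, 0, 2; 2, 2, 1, 1, 2, 0, 1; 2, 2, 1, 1, 2, 0, 1; 1, 1, 2, 2, 1, 0, 2; 0, 0, 0, 0, 0, 0, 0; 2, 2, 1, 1, 2, 0, 1]
def o0_110 : Mat := !![1, 1, 1, 1, 1, 0, 1; 1, 1, 1, 1, 1, 0, 1; 1, 1, 1, 1, 1, 0, 1; 1, 1, 1, 1, 1, 0, 1; 1, 1, 1, 1, 1, 0, 1; 0, 0, 0, 0, 0, 0, 0; 1, 1, 1, 1, 1, 0, 1]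
def o0_111 : Mat := !![1, 1, 0, 1, 1, 0, 1; 1, 1, 0, 1, 1, 0, 1; 0, 0, 0, 0, 0, 0, 0; 1, 1, 0, 1, 1, 0, 1; 1, 1, 0, 1, 1, 0, 1; 0, 0, 0, 0, 0, 0, 0; 1, 1, 0, 1, 1, 0, 1]
def o0_112 : Mat := !![1, 0, 1, 1, 0, 0, 2; 0, 0, 0, 0, 0, 0, 0; 1, 0, 1, 1, 0, 0, 2; 1, 0, 1, 1, 0, 0, 2; 0, 0, 0, 0, 0, 0, 0; 0, 0, 0, 0, 0, 0, 0; 2, 0, 2, 2, 0, 0, 1]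
def o0_113 : Mat := !![1, 0, 2, 2, 2, 2, 2; 0, 0, 0, 0, 0, 0, 0; 2, 0, 1, 1, 1, 1, 1; 2, 0, 1, 1, 1, 1, 1; 2, 0, 1, 1, 1, 1, 1; 2, 0, 1, 1, 1, 1, 1; 2, 0, 1, 1, 1, 1, 1]
def o0_114 : Mat := !![0, 0, 0, 0, 0, 0, 0; 0, 1, 0, 2, 0, 1, 0; 0, 0, 0, 0, 0, 0, 0; 0, 2, 0, 1, 0, 2, 0; 0, 0, 0, 0, 0, 0, 0; 0, 1, 0, 2, 0, 1, 0; 0, 0, 0, 0, 0, 0, 0]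
def o0_115 : Mat := !![0, 0, 0, 0, 0, 0, 0; 0, 1, 2, 0, 0, 0, 0; 0, 2, 1, 0, 0, 0, 0; 0, 0, 0, 0, 0, 0, 0; 0, 0, 0, 0, 0, 0, 0; 0, 0, 0, 0, 0, 0, 0; 0, 0, 0, 0, 0, 0, 0]
def o0_116 : Mat := !![0, 0, 0, 0, 0, 0, 0; 0, 1, 1, 1, 0, 0, 0; 0, 1, 1, 1, 0, 0, 0; 0, 1, 1, 1, 0, 0, 0; 0, 0, 0, 0, 0, 0, 0; 0, 0, 0, 0, 0, 0, 0; 0, 0, 0, 0, 0, 0, 0]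
def o0_117 : Mat := !![0, 0, 0, 0, 0, 0, 0; 0, 0, 0, 0, 0, 0, 0; 0, 0, 1, 1, 2, 1, 2; 0, 0, 1, 1, 2, 1, 2; 0, 0, 2, 2, 1, 2, 1; 0, 0, 1, 1, 2, 1, 2; 0, 0, 2, 2, 1, 2, 1]
def o0_118 : Mat := !![1, 0, 2, 1, 2, 2, 1; 0, 0, 0, 0, 0, 0, 0; 2, 0, 1, 2, 1, 1, 2; 1, 0, 2, 1, 2, 2, 1; 2, 0, 1, 2, 1, 1, 2; 2, 0, 1, 2, 1, 1, 2; 1, 0, 2, 1, 2, 2, 1]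
def o0_119 : Mat := !![1, 1, 0, 2, 1, 0, 2; 1, 1, 0, 2, 1, 0, 2; 0, 0, 0, 0, 0, 0, 0; 2, 2, 0, 1, 2, 0, 1; 1, 1, 0, 2, 1, 0, 2; 0, 0, 0, 0, 0, 0, 0; 2, 2, 0, 1, 2, 0, 1]
def o0_120 : Mat := !![1, 0, 1, 0, 2, 2, 0; 0, 0, 0, 0, 0, 0, 0; 1, 0, 1, 0, 2, 2, 0; 0, 0, 0, 0, 0, 0, 0; 2, 0, 2, 0, 1, 1, 0; 2, 0, 2, 0, 1, 1, 0; 0, 0, 0, 0, 0, 0, 0]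
def o0_121 : Mat := !![1, 2, 1, 1, 0, 0, 2; 2, 1, 2, 2, 0, 0, 1; 1, 2, 1, 1, 0, 0, 2; 1, 2, 1, 1, 0, 0, 2; 0, 0, 0, 0, 0, 0, 0; 0, 0, 0, 0, 0, 0, 0; 2, 1, 2, 2, 0, 0, 1]
def o0_122 : Mat := !![0, 0, 0, 0, 0, 0, 0; 0, 0, 0, 0, 0, 0, 0; 0, 0, 1, 1, 1, 0, 0; 0, 0, 1, 1, 1, 0, 0; 0, 0, 1, 1, 1, 0, 0; 0, 0, 0, 0, 0, 0, 0; 0, 0, 0, 0, 0, 0, 0]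
def o0_123 : Mat := !![0, 0, 0, 0, 0, 0, 0; 0, 0, 0, 0, 0, 0, 0; 0, 0, 1, 2, 2, 2, 2; 0, 0, 2, 1, 1, 1, 1; 0, 0, 2, 1, 1, 1, 1; 0, 0, 2, 1, 1, 1, 1; 0, 0, 2, 1, 1, 1, 1]
def o0_124 : Mat := !![0, 0, 0, 0, 0, 0, 0; 0, 0, 0, 0, 0, 0, 0; 0, 0, 0, 0, 0, 0, 0; 0, 0, 0, 0, 0, 0, 0; 0, 0, 0, 0, 1, 2, 1; 0, 0, 0, 0, 2, 1, 2; 0, 0, 0, 0, 1, 2, 1]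
def o0_125 : Mat := !![0, 0, 0, 0, 0, 0, 0; 0, 1, 1, 0, 0, 0, 0; 0, 1, 1, 0, 0, 0, 0; 0, 0, 0, 0, 0, 0, 0; 0, 0, 0, 0, 0, 0, 0; 0, 0, 0, 0, 0, 0, 0; 0, 0, 0, 0, 0, 0, 0]
def o0_126 : Mat := !![0, 0, 0, 0, 0, 0, 0; 0, 1, 0, 1, 0, 2, 0; 0, 0, 0, 0, 0, 0, 0; 0, 1, 0, 1, 0, 2, 0; 0, 0, 0, 0, 0, 0, 0; 0, 2, 0, 2, 0, 1, 0; 0, 0, 0, 0, 0, 0, 0]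
def o0_127 : Mat := !![0, 0, 0, 0, 0, 0, 0; 0, 1, 2, 1, 0, 1, 1; 0, 2, 1, 2, 0, 2, 2; 0, 1, 2, 1, 0, 1, 1; 0, 0, 0, 0, 0, 0, 0; 0, 1, 2, 1, 0, 1, 1; 0, 1, 2, 1, 0, 1, 1]
def o0_128 : Mat := !![0, 0, 0, 0, 0, 0, 0; 0, 1, 0, 0, 0, 2, 1; 0, 0, 0, 0, 0, 0, 0; 0, 0, 0, 0, 0, 0, 0; 0, 0, 0, 0, 0, 0, 0; 0, 2, 0, 0, 0, 1, 2; 0, 1, 0, 0, 0, 2, 1]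
def o0_129 : Mat := !![0, 0, 0, 0, 0, 0, 0; 0, 1, 0, 0, 0, 1, 0; 0, 0, 0, 0, 0, 0, 0; 0, 0, 0, 0, 0, 0, 0; 0, 0, 0, 0, 0, 0, 0; 0, 1, 0, 0, 0, 1, 0; 0, 0, 0, 0, 0, 0, 0]
def o0_130 : Mat := !![0, 0, 0, 0, 0, 0, 0; 0, 0, 0, 0, 0, 0, 0; 0, 0, 0, 0, 0, 0, 0; 0, 0, 0, 0, 0, 0, 0; 0, 0, 0, 0, 1, 1, 1; 0, 0, 0, 0, 1, 1, 1; 0, 0, 0, 0, 1, 1, 1]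
def o0_131 : Mat := !![1, 0, 0, 2, 2, 1, 1; 0, 0, 0, 0, 0, 0, 0; 0, 0, 0, 0, 0, 0, 0; 2, 0, 0, 1, 1, 2, 2; 2, 0, 0, 1, 1, 2, 2; 1, 0, 0, 2, 2, 1, 1; 1, 0, 0, 2, 2, 1, 1]
def o0_132 : Mat := !![1, 2, 0, 2, 2, 1, 2; 2, 1, 0, 1, 1, 2, 1; 0, 0, 0, 0, 0, 0, 0; 2, 1, 0, 1, 1, 2, 1; 2, 1, 0, 1, 1, 2, 1; 1, 2, 0, 2, 2, 1, 2; 2, 1, 0, 1, 1, 2, 1]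
def o0_133 : Mat := !![1, 1, 1, 2, 1, 1, 0; 1, 1, 1, 2, 1, 1, 0; 1, 1, 1, 2, 1, 1, 0; 2, 2, 2, 1, 2, 2, 0; 1, 1, 1, 2, 1, 1, 0; 1, 1, 1, 2, 1, 1, 0; 0, 0, 0, 0, 0, 0, 0]
def o0_134 : Mat := !![1, 2, 2, 1, 1, 1, 1; 2, 1, 1, 2, 2, 2, 2; 2, 1, 1, 2, 2, 2, 2; 1, 2, 2, 1, 1, 1, 1; 1, 2, 2, 1, 1, 1, 1; 1, 2, 2, 1, 1, 1, 1; 1, 2, 2, 1, 1, 1, 1]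
def o0_135 : Mat := !![1, 1, 2, 1, 1, 1, 2; 1, 1, 2, 1, 1, 1, 2; 2, 2, 1, 2, 2, 2, 1; 1, 1, 2, 1, 1, 1, 2; 1, 1, 2, 1, 1, 1, 2; 1, 1, 2, 1, 1, 1, 2; 2, 2, 1, 2, 2, 2, 1]
def o0_136 : Mat := !![1, 0, 1, 2, 0, 0, 1; 0, 0, 0, 0, 0, 0, 0; 1, 0, 1, 2, 0, 0, 1; 2, 0, 2, 1, 0, 0, 2; 0, 0, 0, 0, 0, 0, 0; 0, 0, 0, 0, 0, 0, 0; 1, 0, 1, 2, 0, 0, 1]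
def o0_137 : Mat := !![1, 0, 2, 1, 2, 1, 0; 0, 0, 0, 0, 0, 0, 0; 2, 0, 1, 2, 1, 2, 0; 1, 0, 2, 1, 2, 1, 0; 2, 0, 1, 2, 1, 2, 0; 1, 0, 2, 1, 2, 1, 0; 0, 0, 0, 0, 0, 0, 0]
def o0_138 : Mat := !![1, 2, 2, 2, 0, 2, 2; 2, 1, 1, 1, 0, 1, 1; 2, 1, 1, 1, 0, 1, 1; 2, 1, 1, 1, 0, 1, 1; 0, 0, 0, 0, 0, 0, 0; 2, 1, 1, 1, 0, 1, 1; 2, 1, 1, 1, 0, 1, 1]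
def o0_139 : Mat := !![0, 0, 0, 0, 0, 0, 0; 0, 1, 2, 2, 0, 2, 1; 0, 2, 1, 1, 0, 1, 2; 0, 2, 1, 1, 0, 1, 2; 0, 0, 0, 0, 0, 0, 0; 0, 2, 1, 1, 0, 1, 2; 0, 1, 2, 2, 0, 2, 1]
def o0_140 : Mat := !![1, 2, 1, 1, 1, 2, 1; 2, 1, 2, 2, 2, 1, 2; 1, 2, 1, 1, 1, 2, 1; 1, 2, 1, 1, 1, 2, 1; 1, 2, 1, 1, 1, 2, 1; 2, 1, 2, 2, 2, 1, 2; 1, 2, 1, 1, 1, 2, 1]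
def o0_141 : Mat := !![0, 0, 0, 0, 0, 0, 0; 0, 1, 2, 1, 0, 2, 2; 0, 2, 1, 2, 0, 1, 1; 0, 1, 2, 1, 0, 2, 2; 0, 0, 0, 0, 0, 0, 0; 0, 2, 1, 2, 0, 1, 1; 0, 2, 1, 2, 0, 1, 1]
def o0_142 : Mat := !![0, 0, 0, 0, 0, 0, 0; 0, 0, 0, 0, 0, 0, 0; 0, 0, 1, 2, 2, 1, 1; 0, 0, 2, 1, 1, 2, 2; 0, 0, 2, 1, 1, 2, 2; 0, 0, 1, 2, 2, 1, 1; 0, 0, 1, 2, 2, 1, 1]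
def o0_143 : Mat := !![1, 0, 2, 0, 2, 1, 2; 0, 0, 0, 0, 0, 0, 0; 2, 0, 1, 0, 1, 2, 1; 0, 0, 0, 0, 0, 0, 0; 2, 0, 1, 0, 1, 2, 1; 1, 0, 2, 0, 2, 1, 2; 2, 0, 1, 0, 1, 2, 1]
def o0_144 : Mat := !![1, 2, 2, 1, 0, 2, 1; 2, 1, 1, 2, 0, 1, 2; 2, 1, 1, 2, 0, 1, 2; 1, 2, 2, 1, 0, 2, 1; 0, 0, 0, 0, 0, 0, 0; 2, 1, 1, 2, 0, 1, 2; 1, 2, 2, 1, 0, 2, 1]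
def o0_145 : Mat := !![1, 2, 0, 0, 1, 1, 0; 2, 1, 0, 0, 2, 2, 0; 0, 0, 0, 0, 0, 0, 0; 0, 0, 0, 0, 0, 0, 0; 1, 2, 0, 0, 1, 1, 0; 1, 2, 0, 0, 1, 1, 0; 0, 0, 0, 0, 0, 0, 0]
def o0_146 : Mat := !![1, 2, 1, 0, 0, 2, 0; 2, 1, 2, 0, 0, 1, 0; 1, 2, 1, 0, 0, 2, 0; 0, 0, 0, 0, 0, 0, 0; 0, 0, 0, 0, 0, 0, 0; 2, 1, 2, 0, 0, 1, 0; 0, 0, 0, 0, 0, 0, 0]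
def o0_147 : Mat := !![0, 0, 0, 0, 0, 0, 0; 0, 0, 0, 0, 0, 0, 0; 0, 0, 0, 0, 0, 0, 0; 0, 0, 0, 0, 0, 0, 0; 0, 0, 0, 0, 1, 1, 0; 0, 0, 0, 0, 1, 1, 0; 0, 0, 0, 0, 0, 0, 0]
def o0_148 : Mat := !![0, 0, 0, 0, 0, 0, 0; 0, 1, 0, 1, 2, 2, 1; 0, 0, 0, 0, 0, 0, 0; 0, 1, 0, 1, 2, 2, 1; 0, 2, 0, 2, 1, 1, 2; 0, 2, 0, 2, 1, 1, 2; 0, 1, 0, 1, 2, 2, 1]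
def o0_149 : Mat := !![0, 0, 0, 0, 0, 0, 0; 0, 0, 0, 0, 0, 0, 0; 0, 0, 0, 0, 0, 0, 0; 0, 0, 0, 1, 1, 0, 0; 0, 0, 0, 1, 1, 0, 0; 0, 0, 0, 0, 0, 0, 0; 0, 0, 0, 0, 0, 0, 0]
def o0_150 : Mat := !![1, 0, 0, 1, 2, 1, 2; 0, 0, 0, 0, 0, 0, 0; 0, 0, 0, 0, 0, 0, 0; 1, 0, 0, 1, 2, 1, 2; 2, 0, 0, 2, 1, 2, 1; 1, 0, 0, 1, 2, 1, 2; 2, 0, 0, 2, 1, 2, 1]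
def o0_151 : Mat := !![0, 0, 0, 0, 0, 0, 0; 0, 1, 0, 0, 0, 1, 1; 0, 0, 0, 0, 0, 0, 0; 0, 0, 0, 0, 0, 0, 0; 0, 0, 0, 0, 0, 0, 0; 0, 1, 0, 0, 0, 1, 1; 0, 1, 0, 0, 0, 1, 1]
def o0_152 : Mat := !![1, 2, 0, 0, 1, 0, 1; 2, 1, 0, 0, 2, 0, 2; 0, 0, 0, 0, 0, 0, 0; 0, 0, 0, 0, 0, 0, 0; 1, 2, 0, 0, 1, 0, 1; 0, 0, 0, 0, 0, 0, 0; 1, 2, 0, 0, 1, 0, 1]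
def o0_153 : Mat := !![0, 0, 0, 0, 0, 0, 0; 0, 1, 0, 2, 2, 1, 2; 0, 0, 0, 0, 0, 0, 0; 0, 2, 0, 1, 1, 2, 1; 0, 2, 0, 1, 1, 2, 1; 0, 1, 0, 2, 2, 1, 2; 0, 2, 0, 1, 1, 2, 1]
def o0_154 : Mat := !![0, 0, 0, 0, 0, 0, 0; 0, 1, 0, 1, 0, 0, 0; 0, 0, 0, 0, 0, 0, 0; 0, 1, 0, 1, 0, 0, 0; 0, 0, 0, 0, 0, 0, 0; 0, 0, 0, 0, 0, 0, 0; 0, 0, 0, 0, 0, 0, 0]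
def o0_155 : Mat := !![1, 2, 0, 1, 1, 0, 0; 2, 1, 0, 2, 2, 0, 0; 0, 0, 0, 0, 0, 0, 0; 1, 2, 0, 1, 1, 0, 0; 1, 2, 0, 1, 1, 0, 0; 0, 0, 0, 0, 0, 0, 0; 0, 0, 0, 0, 0, 0, 0]
def o0_156 : Mat := !![0, 0, 0, 0, 0, 0, 0; 0, 1, 1, 0, 0, 0, 2; 0, 1, 1, 0, 0, 0, 2; 0, 0, 0, 0, 0, 0, 0; 0, 0, 0, 0, 0, 0, 0; 0, 0, 0, 0, 0, 0, 0; 0, 2, 2, 0, 0, 0, 1]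
def o0_157 : Mat := !![0, 0, 0, 0, 0, 0, 0; 0, 0, 0, 0, 0, 0, 0; 0, 0, 0, 0, 0, 0, 0; 0, 0, 0, 1, 1, 1, 0; 0, 0, 0, 1, 1, 1, 0; 0, 0, 0, 1, 1, 1, 0; 0, 0, 0, 0, 0, 0, 0]
def o0_158 : Mat := !![1, 0, 0, 1, 2, 0, 2; 0, 0, 0, 0, 0, 0, 0; 0, 0, 0, 0, 0, 0, 0; 1, 0, 0, 1, 2, 0, 2; 2, 0, 0, 2, 1, 0, 1; 0, 0, 0, 0, 0, 0, 0; 2, 0, 0, 2, 1, 0, 1]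
def o0_159 : Mat := !![1, 2, 0, 2, 0, 1, 1; 2, 1, 0, 1, 0, 2, 2; 0, 0, 0, 0, 0, 0, 0; 2, 1, 0, 1, 0, 2, 2; 0, 0, 0, 0, 0, 0, 0; 1, 2, 0, 2, 0, 1, 1; 1, 2, 0, 2, 0, 1, 1]
def o0_160 : Mat := !![1, 2, 2, 2, 2, 2, 0; 2, 1, 1, 1, 1, 1, 0; 2, 1, 1, 1, 1, 1, 0; 2, 1, 1, 1, 1, 1, 0; 2, 1, 1, 1, 1, 1, 0; 2, 1, 1, 1, 1, 1, 0; 0, 0, 0, 0, 0, 0, 0]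
def o0_161 : Mat := !![1, 1, 1, 0, 1, 1, 2; 1, 1, 1, 0, 1, 1, 2; 1, 1, 1, 0, 1, 1, 2; 0, 0, 0, 0, 0, 0, 0; 1, 1, 1, 0, 1, 1, 2; 1, 1, 1, 0, 1, 1, 2; 2, 2, 2, 0, 2, 2, 1]
def o0_162 : Mat := !![1, 2, 2, 0, 1, 0, 2; 2, 1, 1, 0, 2, 0, 1; 2, 1, 1, 0, 2, 0, 1; 0, 0, 0, 0, 0, 0, 0; 1, 2, 2, 0, 1, 0, 2; 0, 0, 0, 0, 0, 0, 0; 2, 1, 1, 0, 2, 0, 1]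
def o0_163 : Mat := !![1, 1, 2, 1, 2, 1, 1; 1, 1, 2, 1, 2, 1, 1; 2, 2, 1, 2, 1, 2, 2; 1, 1, 2, 1, 2, 1, 1; 2, 2, 1, 2, 1, 2, 2; 1, 1, 2, 1, 2, 1, 1; 1, 1, 2, 1, 2, 1, 1]
def o0_164 : Mat := !![1, 1, 2, 2, 1, 1, 1; 1, 1, 2, 2, 1, 1, 1; 2, 2, 1, 1, 2, 2, 2; 2, 2, 1, 1, 2, 2, 2; 1, 1, 2, 2, 1, 1, 1; 1, 1, 2, 2, 1, 1, 1; 1, 1, 2, 2, 1, 1, 1]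
def o0_165 : Mat := !![1, 2, 1, 1, 1, 0, 0; 2, 1, 2, 2, 2, 0, 0; 1, 2, 1, 1, 1, 0, 0; 1, 2, 1, 1, 1, 0, 0; 1, 2, 1, 1, 1, 0, 0; 0, 0, 0, 0, 0, 0, 0; 0, 0, 0, 0, 0, 0, 0]
def o0_166 : Mat := !![1, 0, 2, 0, 2, 1, 1; 0, 0, 0, 0, 0, 0, 0; 2, 0, 1, 0, 1, 2, 2; 0, 0, 0, 0, 0, 0, 0; 2, 0, 1, 0, 1, 2, 2; 1, 0, 2, 0, 2, 1, 1; 1, 0, 2, 0, 2, 1, 1]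
def o0_167 : Mat := !![1, 2, 2, 1, 0, 1, 0; 2, 1, 1, 2, 0, 2, 0; 2, 1, 1, 2, 0, 2, 0; 1, 2, 2, 1, 0, 1, 0; 0, 0, 0, 0, 0, 0, 0; 1, 2, 2, 1, 0, 1, 0; 0, 0, 0, 0, 0, 0, 0]
def o0_168 : Mat := !![1, 2, 1, 2, 1, 0, 0; 2, 1, 2, 1, 2, 0, 0; 1, 2, 1, 2, 1, 0, 0; 2, 1, 2, 1, 2, 0, 0; 1, 2, 1, 2, 1, 0, 0; 0, 0, 0, 0, 0, 0, 0; 0, 0, 0, 0, 0, 0, 0]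
def o0_169 : Mat := !![1, 1, 1, 1, 2, 2, 1; 1, 1, 1, 1, 2, 2, 1; 1, 1, 1, 1, 2, 2, 1; 1, 1, 1, 1, 2, 2, 1; 2, 2, 2, 2, 1, 1, 2; 2, 2, 2, 2, 1, 1, 2; 1, 1, 1, 1, 2, 2, 1]
def o0_170 : Mat := !![1, 2, 1, 0, 1, 0, 2; 2, 1, 2, 0, 2, 0, 1; 1, 2, 1, 0, 1, 0, 2; 0, 0, 0, 0, 0, 0, 0; 1, 2, 1, 0, 1, 0, 2; 0, 0, 0, 0, 0, 0, 0; 2, 1, 2, 0, 2, 0, 1]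
def o0_171 : Mat := !![1, 0, 2, 2, 2, 1, 0; 0, 0, 0, 0, 0, 0, 0; 2, 0, 1, 1, 1, 2, 0; 2, 0, 1, 1, 1, 2, 0; 2, 0, 1, 1, 1, 2, 0; 1, 0, 2, 2, 2, 1, 0; 0, 0, 0, 0, 0, 0, 0]
def o0_172 : Mat := !![0, 0, 0, 0, 0, 0, 0; 0, 0, 0, 0, 0, 0, 0; 0, 0, 1, 0, 1, 0, 2; 0, 0, 0, 0, 0, 0, 0; 0, 0, 1, 0, 1, 0, 2; 0, 0, 0, 0, 0, 0, 0; 0, 0, 2, 0, 2, 0, 1]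
def o0_173 : Mat := !![1, 2, 2, 0, 0, 1, 2; 2, 1, 1, 0, 0, 2, 1; 2, 1, 1, 0, 0, 2, 1; 0, 0, 0, 0, 0, 0, 0; 0, 0, 0, 0, 0, 0, 0; 1, 2, 2, 0, 0, 1, 2; 2, 1, 1, 0, 0, 2, 1]
def o0_174 : Mat := !![1, 1, 0, 0, 2, 1, 0; 1, 1, 0, 0, 2, 1, 0; 0, 0, 0, 0, 0, 0, 0; 0, 0, 0, 0, 0, 0, 0; 2, 2, 0, 0, 1, 2, 0; 1, 1, 0, 0, 2, 1, 0; 0, 0, 0, 0, 0, 0, 0]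
def o0_175 : Mat := !![0, 0, 0, 0, 0, 0, 0; 0, 1, 1, 1, 2, 1, 0; 0, 1, 1, 1, 2, 1, 0; 0, 1, 1, 1, 2, 1, 0; 0, 2, 2, 2, 1, 2, 0; 0, 1, 1, 1, 2, 1, 0; 0, 0, 0, 0, 0, 0, 0]
def o0_176 : Mat := !![0, 0, 0, 0, 0, 0, 0; 0, 0, 0, 0, 0, 0, 0; 0, 0, 0, 0, 0, 0, 0; 0, 0, 0, 0, 0, 0, 0; 0, 0, 0, 0, 1, 0, 1; 0, 0, 0, 0, 0, 0, 0; 0, 0, 0, 0, 1, 0, 1]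
def o0_177 : Mat := !![1, 0, 0, 2, 2, 2, 1; 0, 0, 0, 0, 0, 0, 0; 0, 0, 0, 0, 0, 0, 0; 2, 0, 0, 1, 1, 1, 2; 2, 0, 0, 1, 1, 1, 2; 2, 0, 0, 1, 1, 1, 2; 1, 0, 0, 2, 2, 2, 1]
def o0_178 : Mat := !![1, 2, 0, 1, 0, 1, 2; 2, 1, 0, 2, 0, 2, 1; 0, 0, 0, 0, 0, 0, 0; 1, 2, 0, 1, 0, 1, 2; 0, 0, 0, 0, 0, 0, 0; 1, 2, 0, 1, 0, 1, 2; 2, 1, 0, 2, 0, 2, 1]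
def o0_179 : Mat := !![0, 0, 0, 0, 0, 0, 0; 0, 1, 0, 1, 0, 1, 0; 0, 0, 0, 0, 0, 0, 0; 0, 1, 0, 1, 0, 1, 0; 0, 0, 0, 0, 0, 0, 0; 0, 1, 0, 1, 0, 1, 0; 0, 0, 0, 0, 0, 0, 0]
def o0_180 : Mat := !![1, 2, 0, 1, 1, 1, 0; 2, 1, 0, 2, 2, 2, 0; 0, 0, 0, 0, 0, 0, 0; 1, 2, 0, 1, 1, 1, 0; 1, 2, 0, 1, 1, 1, 0; 1, 2, 0, 1, 1, 1, 0; 0, 0, 0, 0, 0, 0, 0]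
def o0_181 : Mat := !![1, 1, 0, 0, 2, 0, 1; 1, 1, 0, 0, 2, 0, 1; 0, 0, 0, 0, 0, 0, 0; 0, 0, 0, 0, 0, 0, 0; 2, 2, 0, 0, 1, 0, 2; 0, 0, 0, 0, 0, 0, 0; 1, 1, 0, 0, 2, 0, 1]
def o0_182 : Mat := !![0, 0, 0, 0, 0, 0, 0; 0, 1, 2, 2, 2, 2, 0; 0, 2, 1, 1, 1, 1, 0; 0, 2, 1, 1, 1, 1, 0; 0, 2, 1, 1, 1, 1, 0; 0, 2, 1, 1, 1, 1, 0; 0, 0, 0, 0, 0, 0, 0]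
def o0_183 : Mat := !![0, 0, 0, 0, 0, 0, 0; 0, 1, 0, 0, 0, 0, 1; 0, 0, 0, 0, 0, 0, 0; 0, 0, 0, 0, 0, 0, 0; 0, 0, 0, 0, 0, 0, 0; 0, 0, 0, 0, 0, 0, 0; 0, 1, 0, 0, 0, 0, 1]
def o0_184 : Mat := !![1, 2, 0, 0, 1, 2, 1; 2, 1, 0, 0, 2, 1, 2; 0, 0, 0, 0, 0, 0, 0; 0, 0, 0, 0, 0, 0, 0; 1, 2, 0, 0, 1, 2, 1; 2, 1, 0, 0, 2, 1, 2; 1, 2, 0, 0, 1, 2, 1]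
def o0_185 : Mat := !![1, 1, 0, 1, 2, 0, 0; 1, 1, 0, 1, 2, 0, 0; 0, 0, 0, 0, 0, 0, 0; 1, 1, 0, 1, 2, 0, 0; 2, 2, 0, 2, 1, 0, 0; 0, 0, 0, 0, 0, 0, 0; 0, 0, 0, 0, 0, 0, 0]
def o0_186 : Mat := !![0, 0, 0, 0, 0, 0, 0; 0, 1, 1, 2, 0, 0, 0; 0, 1, 1, 2, 0, 0, 0; 0, 2, 2, 1, 0, 0, 0; 0, 0, 0, 0, 0, 0, 0; 0, 0, 0, 0, 0, 0, 0; 0, 0, 0, 0, 0, 0, 0]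
def o0_187 : Mat := !![1, 2, 2, 1, 1, 2, 2; 2, 1, 1, 2, 2, 1, 1; 2, 1, 1, 2, 2, 1, 1; 1, 2, 2, 1, 1, 2, 2; 1, 2, 2, 1, 1, 2, 2; 2, 1, 1, 2, 2, 1, 1; 2, 1, 1, 2, 2, 1, 1]
def o0_188 : Mat := !![1, 0, 0, 2, 2, 0, 1; 0, 0, 0, 0, 0, 0, 0; 0, 0, 0, 0, 0, 0, 0; 2, 0, 0, 1, 1, 0, 2; 2, 0, 0, 1, 1, 0, 2; 0, 0, 0, 0, 0, 0, 0; 1, 0, 0, 2, 2, 0, 1]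
def o0_189 : Mat := !![0, 0, 0, 0, 0, 0, 0; 0, 0, 0, 0, 0, 0, 0; 0, 0, 1, 2, 1, 0, 0; 0, 0, 2, 1, 2, 0, 0; 0, 0, 1, 2, 1, 0, 0; 0, 0, 0, 0, 0, 0, 0; 0, 0, 0, 0, 0, 0, 0]
def o0_190 : Mat := !![1, 2, 0, 1, 0, 0, 2; 2, 1, 0, 2, 0, 0, 1; 0, 0, 0, 0, 0, 0, 0; 1, 2, 0, 1, 0, 0, 2; 0, 0, 0, 0, 0, 0, 0; 0, 0, 0, 0, 0, 0, 0; 2, 1, 0, 2, 0, 0, 1]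
def o0_191 : Mat := !![1, 2, 2, 0, 2, 2, 2; 2, 1, 1, 0, 1, 1, 1; 2, 1, 1, 0, 1, 1, 1; 0, 0, 0, 0, 0, 0, 0; 2, 1, 1, 0, 1, 1, 1; 2, 1, 1, 0, 1, 1, 1; 2, 1, 1, 0, 1, 1, 1]
def o0_192 : Mat := !![1, 1, 1, 0, 0, 2, 2; 1, 1, 1, 0, 0, 2, 2; 1, 1, 1, 0, 0, 2, 2; 0, 0, 0, 0, 0, 0, 0; 0, 0, 0, 0, 0, 0, 0; 2, 2, 2, 0, 0, 1, 1; 2, 2, 2, 0, 0, 1, 1]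
def o0_193 : Mat := !![1, 2, 2, 2, 1, 0, 0; 2, 1, 1, 1, 2, 0, 0; 2, 1, 1, 1, 2, 0, 0; 2, 1, 1, 1, 2, 0, 0; 1, 2, 2, 2, 1, 0, 0; 0, 0, 0, 0, 0, 0, 0; 0, 0, 0, 0, 0, 0, 0]
def o0_194 : Mat := !![1, 1, 0, 2, 1, 2, 2; 1, 1, 0, 2, 1, 2, 2; 0, 0, 0, 0, 0, 0, 0; 2, 2, 0, 1, 2, 1, 1; 1, 1, 0, 2, 1, 2, 2; 2, 2, 0, 1, 2, 1, 1; 2, 2, 0, 1, 2, 1, 1]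
def o0_195 : Mat := !![1, 1, 2, 0, 2, 0, 2; 1, 1, 2, 0, 2, 0, 2; 2, 2, 1, 0, 1, 0, 1; 0, 0, 0, 0, 0, 0, 0; 2, 2, 1, 0, 1, 0, 1; 0, 0, 0, 0, 0, 0, 0; 2, 2, 1, 0, 1, 0, 1]
def o0_196 : Mat := !![1, 1, 2, 0, 1, 2, 0; 1, 1, 2, 0, 1, 2, 0; 2, 2, 1, 0, 2, 1, 0; 0, 0, 0, 0, 0, 0, 0; 1, 1, 2, 0, 1, 2, 0; 2, 2, 1, 0, 2, 1, 0; 0, 0, 0, 0, 0, 0, 0]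
def o0_197 : Mat := !![1, 2, 1, 0, 1, 0, 1; 2, 1, 2, 0, 2, 0, 2; 1, 2, 1, 0, 1, 0, 1; 0, 0, 0, 0, 0, 0, 0; 1, 2, 1, 0, 1, 0, 1; 0, 0, 0, 0, 0, 0, 0; 1, 2, 1, 0, 1, 0, 1]
def o0_198 : Mat := !![1, 1, 1, 1, 2, 0, 0; 1, 1, 1, 1, 2, 0, 0; 1, 1, 1, 1, 2, 0, 0; 1, 1, 1, 1, 2, 0, 0; 2, 2, 2, 2, 1, 0, 0; 0, 0, 0, 0, 0, 0, 0; 0, 0, 0, 0, 0, 0, 0]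
def o0_199 : Mat := !![1, 0, 1, 0, 2, 2, 2; 0, 0, 0, 0, 0, 0, 0; 1, 0, 1, 0, 2, 2, 2; 0, 0, 0, 0, 0, 0, 0; 2, 0, 2, 0, 1, 1, 1; 2, 0, 2, 0, 1, 1, 1; 2, 0, 2, 0, 1, 1, 1]
def o0_200 : Mat := !![1, 2, 2, 0, 0, 1, 1; 2, 1, 1, 0, 0, 2, 2; 2, 1, 1, 0, 0, 2, 2; 0, 0, 0, 0, 0, 0, 0; 0, 0, 0, 0, 0, 0, 0; 1, 2, 2, 0, 0, 1, 1; 1, 2, 2, 0, 0, 1, 1]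
def o0_201 : Mat := !![1, 1, 1, 2, 2, 0, 0; 1, 1, 1, 2, 2, 0, 0; 1, 1, 1, 2, 2, 0, 0; 2, 2, 2, 1, 1, 0, 0; 2, 2, 2, 1, 1, 0, 0; 0, 0, 0, 0, 0, 0, 0; 0, 0, 0, 0, 0, 0, 0]
def o0_202 : Mat := !![1, 1, 1, 0, 2, 0, 2; 1, 1, 1, 0, 2, 0, 2; 1, 1, 1, 0, 2, 0, 2; 0, 0, 0, 0, 0, 0, 0; 2, 2, 2, 0, 1, 0, 1; 0, 0, 0, 0, 0, 0, 0; 2, 2, 2, 0, 1, 0, 1]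
def o0_203 : Mat := !![1, 2, 2, 2, 0, 1, 0; 2, 1, 1, 1, 0, 2, 0; 2, 1, 1, 1, 0, 2, 0; 2, 1, 1, 1, 0, 2, 0; 0, 0, 0, 0, 0, 0, 0; 1, 2, 2, 2, 0, 1, 0; 0, 0, 0, 0, 0, 0, 0]
def o0_204 : Mat := !![1, 0, 1, 1, 2, 2, 0; 0, 0, 0, 0, 0, 0, 0; 1, 0, 1, 1, 2, 2, 0; 1, 0, 1, 1, 2, 2, 0; 2, 0, 2, 2, 1, 1, 0; 2, 0, 2, 2, 1, 1, 0; 0, 0, 0, 0, 0, 0, 0]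
def o0_205 : Mat := !![0, 0, 0, 0, 0, 0, 0; 0, 1, 1, 0, 2, 1, 1; 0, 1, 1, 0, 2, 1, 1; 0, 0, 0, 0, 0, 0, 0; 0, 2, 2, 0, 1, 2, 2; 0, 1, 1, 0, 2, 1, 1; 0, 1, 1, 0, 2, 1, 1]
def o0_206 : Mat := !![1, 1, 1, 2, 0, 0, 1; 1, 1, 1, 2, 0, 0, 1; 1, 1, 1, 2, 0, 0, 1; 2, 2, 2, 1, 0, 0, 2; 0, 0, 0, 0, 0, 0, 0; 0, 0, 0, 0, 0, 0, 0; 1, 1, 1, 2, 0, 0, 1]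
def o0_207 : Mat := !![1, 0, 0, 1, 2, 2, 2; 0, 0, 0, 0, 0, 0, 0; 0, 0, 0, 0, 0, 0, 0; 1, 0, 0, 1, 2, 2, 2; 2, 0, 0, 2, 1, 1, 1; 2, 0, 0, 2, 1, 1, 1; 2, 0, 0, 2, 1, 1, 1]
def o0_208 : Mat := !![0, 0, 0, 0, 0, 0, 0; 0, 0, 0, 0, 0, 0, 0; 0, 0, 1, 1, 1, 2, 1; 0, 0, 1, 1, 1, 2, 1; 0, 0, 1, 1, 1, 2, 1; 0, 0, 2, 2, 2, 1, 2; 0, 0, 1, 1, 1, 2, 1]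
def o0_209 : Mat := !![1, 2, 0, 2, 0, 2, 1; 2, 1, 0, 1, 0, 1, 2; 0, 0, 0, 0, 0, 0, 0; 2, 1, 0, 1, 0, 1, 2; 0, 0, 0, 0, 0, 0, 0; 2, 1, 0, 1, 0, 1, 2; 1, 2, 0, 2, 0, 2, 1]
def o0_210 : Mat := !![1, 2, 0, 0, 1, 1, 1; 2, 1, 0, 0, 2, 2, 2; 0, 0, 0, 0, 0, 0, 0; 0, 0, 0, 0, 0, 0, 0; 1, 2, 0, 0, 1, 1, 1; 1, 2, 0, 0, 1, 1, 1; 1, 2, 0, 0, 1, 1, 1]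
def o0_211 : Mat := !![1, 1, 0, 1, 2, 1, 0; 1, 1, 0, 1, 2, 1, 0; 0, 0, 0, 0, 0, 0, 0; 1, 1, 0, 1, 2, 1, 0; 2, 2, 0, 2, 1, 2, 0; 1, 1, 0, 1, 2, 1, 0; 0, 0, 0, 0, 0, 0, 0]
def o0_212 : Mat := !![0, 0, 0, 0, 0, 0, 0; 0, 1, 2, 0, 2, 2, 2; 0, 2, 1, 0, 1, 1, 1; 0, 0, 0, 0, 0, 0, 0; 0, 2, 1, 0, 1, 1, 1; 0, 2, 1, 0, 1, 1, 1; 0, 2, 1, 0, 1, 1, 1]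
def o0_213 : Mat := !![1, 1, 2, 0, 0, 1, 1; 1, 1, 2, 0, 0, 1, 1; 2, 2, 1, 0, 0, 2, 2; 0, 0, 0, 0, 0, 0, 0; 0, 0, 0, 0, 0, 0, 0; 1, 1, 2, 0, 0, 1, 1; 1, 1, 2, 0, 0, 1, 1]
def o0_214 : Mat := !![1, 2, 0, 1, 1, 2, 0; 2, 1, 0, 2, 2, 1, 0; 0, 0, 0, 0, 0, 0, 0; 1, 2, 0, 1, 1, 2, 0; 1, 2, 0, 1, 1, 2, 0; 2, 1, 0, 2, 2, 1, 0; 0, 0, 0, 0, 0, 0, 0]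
def o0_215 : Mat := !![0, 0, 0, 0, 0, 0, 0; 0, 1, 1, 1, 0, 2, 1; 0, 1, 1, 1, 0, 2, 1; 0, 1, 1, 1, 0, 2, 1; 0, 0, 0, 0, 0, 0, 0; 0, 2, 2, 2, 0, 1, 2; 0, 1, 1, 1, 0, 2, 1]
def o0_216 : Mat := !![1, 1, 0, 0, 2, 2, 1; 1, 1, 0, 0, 2, 2, 1; 0, 0, 0, 0, 0, 0, 0; 0, 0, 0, 0, 0, 0, 0; 2, 2, 0, 0, 1, 1, 2; 2, 2, 0, 0, 1, 1, 2; 1, 1, 0, 0, 2, 2, 1]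
def o0_217 : Mat := !![1, 2, 2, 2, 1, 2, 1; 2, 1, 1, 1, 2, 1, 2; 2, 1, 1, 1, 2, 1, 2; 2, 1, 1, 1, 2, 1, 2; 1, 2, 2, 2, 1, 2, 1; 2, 1, 1, 1, 2, 1, 2; 1, 2, 2, 2, 1, 2, 1]
def o0_218 : Mat := !![1, 1, 2, 1, 2, 2, 2; 1, 1, 2, 1, 2, 2, 2; 2, 2, 1, 2, 1, 1, 1; 1, 1, 2, 1, 2, 2, 2; 2, 2, 1, 2, 1, 1, 1; 2, 2, 1, 2, 1, 1, 1; 2, 2, 1, 2, 1, 1, 1]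
def o0_219 : Mat := !![1, 0, 1, 2, 2, 2, 0; 0, 0, 0, 0, 0, 0, 0; 1, 0, 1, 2, 2, 2, 0; 2, 0, 2, 1, 1, 1, 0; 2, 0, 2, 1, 1, 1, 0; 2, 0, 2, 1, 1, 1, 0; 0, 0, 0, 0, 0, 0, 0]
def o0_220 : Mat := !![1, 2, 0, 2, 0, 0, 1; 2, 1, 0, 1, 0, 0, 2; 0, 0, 0, 0, 0, 0, 0; 2, 1, 0, 1, 0, 0, 2; 0, 0, 0, 0, 0, 0, 0; 0, 0, 0, 0, 0, 0, 0; 1, 2, 0, 2, 0, 0, 1]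
def o0_221 : Mat := !![1, 0, 1, 0, 2, 2, 1; 0, 0, 0, 0, 0, 0, 0; 1, 0, 1, 0, 2, 2, 1; 0, 0, 0, 0, 0, 0, 0; 2, 0, 2, 0, 1, 1, 2; 2, 0, 2, 0, 1, 1, 2; 1, 0, 1, 0, 2, 2, 1]
def o0_222 : Mat := !![1, 2, 2, 1, 2, 0, 1; 2, 1, 1, 2, 1, 0, 2; 2, 1, 1, 2, 1, 0, 2; 1, 2, 2, 1, 2, 0, 1; 2, 1, 1, 2, 1, 0, 2; 0, 0, 0, 0, 0, 0, 0; 1, 2, 2, 1, 2, 0, 1]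
def o0_223 : Mat := !![1, 1, 1, 2, 0, 2, 0; 1, 1, 1, 2, 0, 2, 0; 1, 1, 1, 2, 0, 2, 0; 2, 2, 2, 1, 0, 1, 0; 0, 0, 0, 0, 0, 0, 0; 2, 2, 2, 1, 0, 1, 0; 0, 0, 0, 0, 0, 0, 0]
def o0_224 : Mat := !![1, 2, 1, 2, 2, 0, 2; 2, 1, 2, 1, 1, 0, 1; 1, 2, 1, 2, 2, 0, 2; 2, 1, 2, 1, 1, 0, 1; 2, 1, 2, 1, 1, 0, 1; 0, 0, 0, 0, 0, 0, 0; 2, 1, 2, 1, 1, 0, 1]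
def o0_225 : Mat := !![1, 0, 1, 0, 1, 2, 2; 0, 0, 0, 0, 0, 0, 0; 1, 0, 1, 0, 1, 2, 2; 0, 0, 0, 0, 0, 0, 0; 1, 0, 1, 0, 1, 2, 2; 2, 0, 2, 0, 2, 1, 1; 2, 0, 2, 0, 2, 1, 1]
def o0_226 : Mat := !![1, 2, 1, 2, 1, 1, 1; 2, 1, 2, 1, 2, 2, 2; 1, 2, 1, 2, 1, 1, 1; 2, 1, 2, 1, 2, 2, 2; 1, 2, 1, 2, 1, 1, 1; 1, 2, 1, 2, 1, 1, 1; 1, 2, 1, 2, 1, 1, 1]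
def o0_227 : Mat := !![1, 1, 2, 2, 2, 0, 0; 1, 1, 2, 2, 2, 0, 0; 2, 2, 1, 1, 1, 0, 0; 2, 2, 1, 1, 1, 0, 0; 2, 2, 1, 1, 1, 0, 0; 0, 0, 0, 0, 0, 0, 0; 0, 0, 0, 0, 0, 0, 0]
def o0_228 : Mat := !![1, 2, 0, 0, 1, 2, 0; 2, 1, 0, 0, 2, 1, 0; 0, 0, 0, 0, 0, 0, 0; 0, 0, 0, 0, 0, 0, 0; 1, 2, 0, 0, 1, 2, 0; 2, 1, 0, 0, 2, 1, 0; 0, 0, 0, 0, 0, 0, 0]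
def o0_229 : Mat := !![1, 2, 1, 2, 1, 2, 2; 2, 1, 2, 1, 2, 1, 1; 1, 2, 1, 2, 1, 2, 2; 2, 1, 2, 1, 2, 1, 1; 1, 2, 1, 2, 1, 2, 2; 2, 1, 2, 1, 2, 1, 1; 2, 1, 2, 1, 2, 1, 1]
def o0_230 : Mat := !![1, 2, 0, 0, 1, 1, 2; 2, 1, 0, 0, 2, 2, 1; 0, 0, 0, 0, 0, 0, 0; 0, 0, 0, 0, 0, 0, 0; 1, 2, 0, 0, 1, 1, 2; 1, 2, 0, 0, 1, 1, 2; 2, 1, 0, 0, 2, 2, 1]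
def o0_231 : Mat := !![1, 1, 1, 0, 2, 0, 1; 1, 1, 1, 0, 2, 0, 1; 1, 1, 1, 0, 2, 0, 1; 0, 0, 0, 0, 0, 0, 0; 2, 2, 2, 0, 1, 0, 2; 0, 0, 0, 0, 0, 0, 0; 1, 1, 1, 0, 2, 0, 1]
def o0_232 : Mat := !![1, 2, 1, 0, 0, 2, 2; 2, 1, 2, 0, 0, 1, 1; 1, 2, 1, 0, 0, 2, 2; 0, 0, 0, 0, 0, 0, 0; 0, 0, 0, 0, 0, 0, 0; 2, 1, 2, 0, 0, 1, 1; 2, 1, 2, 0, 0, 1, 1]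
def o0_233 : Mat := !![1, 2, 1, 1, 0, 2, 0; 2, 1, 2, 2, 0, 1, 0; 1, 2, 1, 1, 0, 2, 0; 1, 2, 1, 1, 0, 2, 0; 0, 0, 0, 0, 0, 0, 0; 2, 1, 2, 2, 0, 1, 0; 0, 0, 0, 0, 0, 0, 0]
def o0_234 : Mat := !![0, 0, 0, 0, 0, 0, 0; 0, 1, 1, 2, 2, 0, 2; 0, 1, 1, 2, 2, 0, 2; 0, 2, 2, 1, 1, 0, 1; 0, 2, 2, 1, 1, 0, 1; 0, 0, 0, 0, 0, 0, 0; 0, 2, 2, 1, 1, 0, 1]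
def o0_235 : Mat := !![1, 1, 1, 1, 0, 0, 2; 1, 1, 1, 1, 0, 0, 2; 1, 1, 1, 1, 0, 0, 2; 1, 1, 1, 1, 0, 0, 2; 0, 0, 0, 0, 0, 0, 0; 0, 0, 0, 0, 0, 0, 0; 2, 2, 2, 2, 0, 0, 1]
def o0_236 : Mat := !![0, 0, 0, 0, 0, 0, 0; 0, 1, 2, 1, 2, 0, 1; 0, 2, 1, 2, 1, 0, 2; 0, 1, 2, 1, 2, 0, 1; 0, 2, 1, 2, 1, 0, 2; 0, 0, 0, 0, 0, 0, 0; 0, 1, 2, 1, 2, 0, 1]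
def o0_237 : Mat := !![1, 0, 1, 2, 1, 0, 1; 0, 0, 0, 0, 0, 0, 0; 1, 0, 1, 2, 1, 0, 1; 2, 0, 2, 1, 2, 0, 2; 1, 0, 1, 2, 1, 0, 1; 0, 0, 0, 0, 0, 0, 0; 1, 0, 1, 2, 1, 0, 1]
def o0_238 : Mat := !![1, 0, 1, 1, 2, 1, 1; 0, 0, 0, 0, 0, 0, 0; 1, 0, 1, 1, 2, 1, 1; 1, 0, 1, 1, 2, 1, 1; 2, 0, 2, 2, 1, 2, 2; 1, 0, 1, 1, 2, 1, 1; 1, 0, 1, 1, 2, 1, 1]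
def o0_239 : Mat := !![1, 2, 0, 1, 0, 2, 2; 2, 1, 0, 2, 0, 1, 1; 0, 0, 0, 0, 0, 0, 0; 1, 2, 0, 1, 0, 2, 2; 0, 0, 0, 0, 0, 0, 0; 2, 1, 0, 2, 0, 1, 1; 2, 1, 0, 2, 0, 1, 1]
def o0_240 : Mat := !![1, 0, 1, 2, 2, 1, 2; 0, 0, 0, 0, 0, 0, 0; 1, 0, 1, 2, 2, 1, 2; 2, 0, 2, 1, 1, 2, 1; 2, 0, 2, 1, 1, 2, 1; 1, 0, 1, 2, 2, 1, 2; 2, 0, 2, 1, 1, 2, 1]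
def o0_241 : Mat := !![1, 2, 1, 0, 1, 0, 0; 2, 1, 2, 0, 2, 0, 0; 1, 2, 1, 0, 1, 0, 0; 0, 0, 0, 0, 0, 0, 0; 1, 2, 1, 0, 1, 0, 0; 0, 0, 0, 0, 0, 0, 0; 0, 0, 0, 0, 0, 0, 0]
def o0_242 : Mat := !![1, 1, 0, 0, 2, 1, 1; 1, 1, 0, 0, 2, 1, 1; 0, 0, 0, 0, 0, 0, 0; 0, 0, 0, 0, 0, 0, 0; 2, 2, 0, 0, 1, 2, 2; 1, 1, 0, 0, 2, 1, 1; 1, 1, 0, 0, 2, 1, 1]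
def o0_243 : Mat := !![1, 1, 2, 1, 0, 1, 0; 1, 1, 2, 1, 0, 1, 0; 2, 2, 1, 2, 0, 2, 0; 1, 1, 2, 1, 0, 1, 0; 0, 0, 0, 0, 0, 0, 0; 1, 1, 2, 1, 0, 1, 0; 0, 0, 0, 0, 0, 0, 0]
def o0_244 : Mat := !![1, 0, 2, 0, 1, 1, 1; 0, 0, 0, 0, 0, 0, 0; 2, 0, 1, 0, 2, 2, 2; 0, 0, 0, 0, 0, 0, 0; 1, 0, 2, 0, 1, 1, 1; 1, 0, 2, 0, 1, 1, 1; 1, 0, 2, 0, 1, 1, 1]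
def o0_245 : Mat := !![1, 2, 1, 1, 1, 1, 2; 2, 1, 2, 2, 2, 2, 1; 1, 2, 1, 1, 1, 1, 2; 1, 2, 1, 1, 1, 1, 2; 1, 2, 1, 1, 1, 1, 2; 1, 2, 1, 1, 1, 1, 2; 2, 1, 2, 2, 2, 2, 1]
def o0_246 : Mat := !![1, 1, 0, 1, 2, 2, 0; 1, 1, 0, 1, 2, 2, 0; 0, 0, 0, 0, 0, 0, 0; 1, 1, 0, 1, 2, 2, 0; 2, 2, 0, 2, 1, 1, 0; 2, 2, 0, 2, 1, 1, 0; 0, 0, 0, 0, 0, 0, 0]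
def o0_247 : Mat := !![1, 2, 2, 0, 1, 0, 0; 2, 1, 1, 0, 2, 0, 0; 2, 1, 1, 0, 2, 0, 0; 0, 0, 0, 0, 0, 0, 0; 1, 2, 2, 0, 1, 0, 0; 0, 0, 0, 0, 0, 0, 0; 0, 0, 0, 0, 0, 0, 0]
def o0_248 : Mat := !![1, 2, 0, 2, 1, 1, 0; 2, 1, 0, 1, 2, 2, 0; 0, 0, 0, 0, 0, 0, 0; 2, 1, 0, 1, 2, 2, 0; 1, 2, 0, 2, 1, 1, 0; 1, 2, 0, 2, 1, 1, 0; 0, 0, 0, 0, 0, 0, 0]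
def o0_249 : Mat := !![1, 1, 2, 2, 2, 2, 1; 1, 1, 2, 2, 2, 2, 1; 2, 2, 1, 1, 1, 1, 2; 2, 2, 1, 1, 1, 1, 2; 2, 2, 1, 1, 1, 1, 2; 2, 2, 1, 1, 1, 1, 2; 1, 1, 2, 2, 2, 2, 1]
def o0_250 : Mat := !![1, 2, 1, 2, 0, 2, 0; 2, 1, 2, 1, 0, 1, 0; 1, 2, 1, 2, 0, 2, 0; 2, 1, 2, 1, 0, 1, 0; 0, 0, 0, 0, 0, 0, 0; 2, 1, 2, 1, 0, 1, 0; 0, 0, 0, 0, 0, 0, 0]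
def o0_251 : Mat := !![1, 0, 2, 0, 2, 1, 0; 0, 0, 0, 0, 0, 0, 0; 2, 0, 1, 0, 1, 2, 0; 0, 0, 0, 0, 0, 0, 0; 2, 0, 1, 0, 1, 2, 0; 1, 0, 2, 0, 2, 1, 0; 0, 0, 0, 0, 0, 0, 0]
def o0_252 : Mat := !![1, 2, 1, 0, 0, 2, 1; 2, 1, 2, 0, 0, 1, 2; 1, 2, 1, 0, 0, 2, 1; 0, 0, 0, 0, 0, 0, 0; 0, 0, 0, 0, 0, 0, 0; 2, 1, 2, 0, 0, 1, 2; 1, 2, 1, 0, 0, 2, 1]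
def o0_253 : Mat := !![1, 1, 1, 1, 0, 1, 1; 1, 1, 1, 1, 0, 1, 1; 1, 1, 1, 1, 0, 1, 1; 1, 1, 1, 1, 0, 1, 1; 0, 0, 0, 0, 0, 0, 0; 1, 1, 1, 1, 0, 1, 1; 1, 1, 1, 1, 0, 1, 1]
def o0_254 : Mat := !![1, 2, 1, 0, 2, 1, 1; 2, 1, 2, 0, 1, 2, 2; 1, 2, 1, 0, 2, 1, 1; 0, 0, 0, 0, 0, 0, 0; 2, 1, 2, 0, 1, 2, 2; 1, 2, 1, 0, 2, 1, 1; 1, 2, 1, 0, 2, 1, 1]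
def o0_255 : Mat := !![1, 1, 0, 2, 0, 0, 1; 1, 1, 0, 2, 0, 0, 1; 0, 0, 0, 0, 0, 0, 0; 2, 2, 0, 1, 0, 0, 2; 0, 0, 0, 0, 0, 0, 0; 0, 0, 0, 0, 0, 0, 0; 1, 1, 0, 2, 0, 0, 1]
def o0_256 : Mat := !![1, 0, 1, 2, 1, 2, 0; 0, 0, 0, 0, 0, 0, 0; 1, 0, 1, 2, 1, 2, 0; 2, 0, 2, 1, 2, 1, 0; 1, 0, 1, 2, 1, 2, 0; 2, 0, 2, 1, 2, 1, 0; 0, 0, 0, 0, 0, 0, 0]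
def o0_257 : Mat := !![1, 1, 2, 0, 0, 1, 0; 1, 1, 2, 0, 0, 1, 0; 2, 2, 1, 0, 0, 2, 0; 0, 0, 0, 0, 0, 0, 0; 0, 0, 0, 0, 0, 0, 0; 1, 1, 2, 0, 0, 1, 0; 0, 0, 0, 0, 0, 0, 0]
def o0_258 : Mat := !![1, 1, 1, 2, 2, 1, 1; 1, 1, 1, 2, 2, 1, 1; 1, 1, 1, 2, 2, 1, 1; 2, 2, 2, 1, 1, 2, 2; 2, 2, 2, 1, 1, 2, 2; 1, 1, 1, 2, 2, 1, 1; 1, 1, 1, 2, 2, 1, 1]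
def o0_259 : Mat := !![1, 2, 2, 0, 1, 0, 1; 2, 1, 1, 0, 2, 0, 2; 2, 1, 1, 0, 2, 0, 2; 0, 0, 0, 0, 0, 0, 0; 1, 2, 2, 0, 1, 0, 1; 0, 0, 0, 0, 0, 0, 0; 1, 2, 2, 0, 1, 0, 1]
def o0_260 : Mat := !![1, 1, 0, 0, 2, 2, 0; 1, 1, 0, 0, 2, 2, 0; 0, 0, 0, 0, 0, 0, 0; 0, 0, 0, 0, 0, 0, 0; 2, 2, 0, 0, 1, 1, 0; 2, 2, 0, 0, 1, 1, 0; 0, 0, 0, 0, 0, 0, 0]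
def o0_261 : Mat := !![1, 2, 0, 2, 1, 0, 0; 2, 1, 0, 1, 2, 0, 0; 0, 0, 0, 0, 0, 0, 0; 2, 1, 0, 1, 2, 0, 0; 1, 2, 0, 2, 1, 0, 0; 0, 0, 0, 0, 0, 0, 0; 0, 0, 0, 0, 0, 0, 0]
def o0_262 : Mat := !![1, 1, 1, 2, 2, 2, 2; 1, 1, 1, 2, 2, 2, 2; 1, 1, 1, 2, 2, 2, 2; 2, 2, 2, 1, 1, 1, 1; 2, 2, 2, 1, 1, 1, 1; 2, 2, 2, 1, 1, 1, 1; 2, 2, 2, 1, 1, 1, 1]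
def o0_263 : Mat := !![1, 1, 0, 0, 2, 1, 2; 1, 1, 0, 0, 2, 1, 2; 0, 0, 0, 0, 0, 0, 0; 0, 0, 0, 0, 0, 0, 0; 2, 2, 0, 0, 1, 2, 1; 1, 1, 0, 0, 2, 1, 2; 2, 2, 0, 0, 1, 2, 1]
def o0_264 : Mat := !![0, 0, 0, 0, 0, 0, 0; 0, 1, 2, 1, 1, 0, 2; 0, 2, 1, 2, 2, 0, 1; 0, 1, 2, 1, 1, 0, 2; 0, 1, 2, 1, 1, 0, 2; 0, 0, 0, 0, 0, 0, 0; 0, 2, 1, 2, 2, 0, 1]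
def o0_265 : Mat := !![1, 1, 1, 0, 0, 2, 0; 1, 1, 1, 0, 0, 2, 0; 1, 1, 1, 0, 0, 2, 0; 0, 0, 0, 0, 0, 0, 0; 0, 0, 0, 0, 0, 0, 0; 2, 2, 2, 0, 0, 1, 0; 0, 0, 0, 0, 0, 0, 0]
def o0_266 : Mat := !![1, 1, 2, 1, 0, 2, 1; 1, 1, 2, 1, 0, 2, 1; 2, 2, 1, 2, 0, 1, 2; 1, 1, 2, 1, 0, 2, 1; 0, 0, 0, 0, 0, 0, 0; 2, 2, 1, 2, 0, 1, 2; 1, 1, 2, 1, 0, 2, 1]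
def o0_267 : Mat := !![1, 0, 1, 1, 1, 0, 2; 0, 0, 0, 0, 0, 0, 0; 1, 0, 1, 1, 1, 0, 2; 1, 0, 1, 1, 1, 0, 2; 1, 0, 1, 1, 1, 0, 2; 0, 0, 0, 0, 0, 0, 0; 2, 0, 2, 2, 2, 0, 1]
def o0_268 : Mat := !![1, 1, 2, 2, 0, 2, 2; 1, 1, 2, 2, 0, 2, 2; 2, 2, 1, 1, 0, 1, 1; 2, 2, 1, 1, 0, 1, 1; 0, 0, 0, 0, 0, 0, 0; 2, 2, 1, 1, 0, 1, 1; 2, 2, 1, 1, 0, 1, 1]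
def o0_269 : Mat := !![1, 2, 1, 1, 0, 1, 1; 2, 1, 2, 2, 0, 2, 2; 1, 2, 1, 1, 0, 1, 1; 1, 2, 1, 1, 0, 1, 1; 0, 0, 0, 0, 0, 0, 0; 1, 2, 1, 1, 0, 1, 1; 1, 2, 1, 1, 0, 1, 1]
def o0_270 : Mat := !![1, 0, 2, 2, 2, 0, 1; 0, 0, 0, 0, 0, 0, 0; 2, 0, 1, 1, 1, 0, 2; 2, 0, 1, 1, 1, 0, 2; 2, 0, 1, 1, 1, 0, 2; 0, 0, 0, 0, 0, 0, 0; 1, 0, 2, 2, 2, 0, 1]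
def o0_271 : Mat := !![1, 2, 1, 2, 0, 1, 2; 2, 1, 2, 1, 0, 2, 1; 1, 2, 1, 2, 0, 1, 2; 2, 1, 2, 1, 0, 2, 1; 0, 0, 0, 0, 0, 0, 0; 1, 2, 1, 2, 0, 1, 2; 2, 1, 2, 1, 0, 2, 1]
def o0_272 : Mat := !![1, 1, 1, 0, 2, 0, 0; 1, 1, 1, 0, 2, 0, 0; 1, 1, 1, 0, 2, 0, 0; 0, 0, 0, 0, 0, 0, 0; 2, 2, 2, 0, 1, 0, 0; 0, 0, 0, 0, 0, 0, 0; 0, 0, 0, 0, 0, 0, 0]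
def o0_273 : Mat := !![1, 1, 0, 1, 0, 0, 2; 1, 1, 0, 1, 0, 0, 2; 0, 0, 0, 0, 0, 0, 0; 1, 1, 0, 1, 0, 0, 2; 0, 0, 0, 0, 0, 0, 0; 0, 0, 0, 0, 0, 0, 0; 2, 2, 0, 2, 0, 0, 1]
def o0_274 : Mat := !![1, 0, 2, 1, 1, 1, 0; 0, 0, 0, 0, 0, 0, 0; 2, 0, 1, 2, 2, 2, 0; 1, 0, 2, 1, 1, 1, 0; 1, 0, 2, 1, 1, 1, 0; 1, 0, 2, 1, 1, 1, 0; 0, 0, 0, 0, 0, 0, 0]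
def o0_275 : Mat := !![1, 1, 1, 1, 2, 1, 2; 1, 1, 1, 1, 2, 1, 2; 1, 1, 1, 1, 2, 1, 2; 1, 1, 1, 1, 2, 1, 2; 2, 2, 2, 2, 1, 2, 1; 1, 1, 1, 1, 2, 1, 2; 2, 2, 2, 2, 1, 2, 1]
def o0_276 : Mat := !![1, 2, 0, 0, 1, 2, 2; 2, 1, 0, 0, 2, 1, 1; 0, 0, 0, 0, 0, 0, 0; 0, 0, 0, 0, 0, 0, 0; 1, 2, 0, 0, 1, 2, 2; 2, 1, 0, 0, 2, 1, 1; 2, 1, 0, 0, 2, 1, 1]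
def o0_277 : Mat := !![1, 1, 2, 0, 2, 0, 0; 1, 1, 2, 0, 2, 0, 0; 2, 2, 1, 0, 1, 0, 0; 0, 0, 0, 0, 0, 0, 0; 2, 2, 1, 0, 1, 0, 0; 0, 0, 0, 0, 0, 0, 0; 0, 0, 0, 0, 0, 0, 0]
def o0_278 : Mat := !![1, 1, 0, 2, 2, 1, 0; 1, 1, 0, 2, 2, 1, 0; 0, 0, 0, 0, 0, 0, 0; 2, 2, 0, 1, 1, 2, 0; 2, 2, 0, 1, 1, 2, 0; 1, 1, 0, 2, 2, 1, 0; 0, 0, 0, 0, 0, 0, 0]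
def o0_279 : Mat := !![0, 0, 0, 0, 0, 0, 0; 0, 1, 2, 2, 1, 0, 1; 0, 2, 1, 1, 2, 0, 2; 0, 2, 1, 1, 2, 0, 2; 0, 1, 2, 2, 1, 0, 1; 0, 0, 0, 0, 0, 0, 0; 0, 1, 2, 2, 1, 0, 1]
def o0_280 : Mat := !![1, 2, 2, 0, 0, 1, 0; 2, 1, 1, 0, 0, 2, 0; 2, 1, 1, 0, 0, 2, 0; 0, 0, 0, 0, 0, 0, 0; 0, 0, 0, 0, 0, 0, 0; 1, 2, 2, 0, 0, 1, 0; 0, 0, 0, 0, 0, 0, 0]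
def o0_281 : Mat := !![1, 1, 0, 1, 0, 2, 2; 1, 1, 0, 1, 0, 2, 2; 0, 0, 0, 0, 0, 0, 0; 1, 1, 0, 1, 0, 2, 2; 0, 0, 0, 0, 0, 0, 0; 2, 2, 0, 2, 0, 1, 1; 2, 2, 0, 2, 0, 1, 1]
def o0_282 : Mat := !![1, 0, 1, 1, 1, 1, 1; 0, 0, 0, 0, 0, 0, 0; 1, 0, 1, 1, 1, 1, 1; 1, 0, 1, 1, 1, 1, 1; 1, 0, 1, 1, 1, 1, 1; 1, 0, 1, 1, 1, 1, 1; 1, 0, 1, 1, 1, 1, 1]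
def o0_283 : Mat := !![1, 1, 2, 2, 0, 0, 1; 1, 1, 2, 2, 0, 0, 1; 2, 2, 1, 1, 0, 0, 2; 2, 2, 1, 1, 0, 0, 2; 0, 0, 0, 0, 0, 0, 0; 0, 0, 0, 0, 0, 0, 0; 1, 1, 2, 2, 0, 0, 1]
def o0_284 : Mat := !![1, 2, 1, 1, 2, 1, 0; 2, 1, 2, 2, 1, 2, 0; 1, 2, 1, 1, 2, 1, 0; 1, 2, 1, 1, 2, 1, 0; 2, 1, 2, 2, 1, 2, 0; 1, 2, 1, 1, 2, 1, 0; 0, 0, 0, 0, 0, 0, 0]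
def o0_285 : Mat := !![1, 0, 0, 2, 1, 0, 1; 0, 0, 0, 0, 0, 0, 0; 0, 0, 0, 0, 0, 0, 0; 2, 0, 0, 1, 2, 0, 2; 1, 0, 0, 2, 1, 0, 1; 0, 0, 0, 0, 0, 0, 0; 1, 0, 0, 2, 1, 0, 1]
def o0_286 : Mat := !![1, 1, 1, 0, 0, 2, 1; 1, 1, 1, 0, 0, 2, 1; 1, 1, 1, 0, 0, 2, 1; 0, 0, 0, 0, 0, 0, 0; 0, 0, 0, 0, 0, 0, 0; 2, 2, 2, 0, 0, 1, 2; 1, 1, 1, 0, 0, 2, 1]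
def o0_287 : Mat := !![1, 0, 2, 0, 1, 1, 0; 0, 0, 0, 0, 0, 0, 0; 2, 0, 1, 0, 2, 2, 0; 0, 0, 0, 0, 0, 0, 0; 1, 0, 2, 0, 1, 1, 0; 1, 0, 2, 0, 1, 1, 0; 0, 0, 0, 0, 0, 0, 0]
def o0_288 : Mat := !![0, 0, 0, 0, 0, 0, 0; 0, 1, 1, 1, 1, 2, 0; 0, 1, 1, 1, 1, 2, 0; 0, 1, 1, 1, 1, 2, 0; 0, 1, 1, 1, 1, 2, 0; 0, 2, 2, 2, 2, 1, 0; 0, 0, 0, 0, 0, 0, 0]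
def o0_289 : Mat := !![1, 1, 2, 0, 2, 0, 1; 1, 1, 2, 0, 2, 0, 1; 2, 2, 1, 0, 1, 0, 2; 0, 0, 0, 0, 0, 0, 0; 2, 2, 1, 0, 1, 0, 2; 0, 0, 0, 0, 0, 0, 0; 1, 1, 2, 0, 2, 0, 1]
def o0_290 : Mat := !![1, 2, 2, 1, 1, 0, 0; 2, 1, 1, 2, 2, 0, 0; 2, 1, 1, 2, 2, 0, 0; 1, 2, 2, 1, 1, 0, 0; 1, 2, 2, 1, 1, 0, 0; 0, 0, 0, 0, 0, 0, 0; 0, 0, 0, 0, 0, 0, 0]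
def o0_291 : Mat := !![1, 2, 0, 0, 1, 0, 2; 2, 1, 0, 0, 2, 0, 1; 0, 0, 0, 0, 0, 0, 0; 0, 0, 0, 0, 0, 0, 0; 1, 2, 0, 0, 1, 0, 2; 0, 0, 0, 0, 0, 0, 0; 2, 1, 0, 0, 2, 0, 1]
def o0_292 : Mat := !![1, 1, 0, 2, 2, 0, 0; 1, 1, 0, 2, 2, 0, 0; 0, 0, 0, 0, 0, 0, 0; 2, 2, 0, 1, 1, 0, 0; 2, 2, 0, 1, 1, 0, 0; 0, 0, 0, 0, 0, 0, 0; 0, 0, 0, 0, 0, 0, 0]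
def o0_293 : Mat := !![0, 0, 0, 0, 0, 0, 0; 0, 1, 0, 2, 1, 2, 1; 0, 0, 0, 0, 0, 0, 0; 0, 2, 0, 1, 2, 1, 2; 0, 1, 0, 2, 1, 2, 1; 0, 2, 0, 1, 2, 1, 2; 0, 1, 0, 2, 1, 2, 1]
def o0_294 : Mat := !![1, 1, 2, 0, 0, 1, 2; 1, 1, 2, 0, 0, 1, 2; 2, 2, 1, 0, 0, 2, 1; 0, 0, 0, 0, 0, 0, 0; 0, 0, 0, 0, 0, 0, 0; 1, 1, 2, 0, 0, 1, 2; 2, 2, 1, 0, 0, 2, 1]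
def o0_295 : Mat := !![1, 0, 1, 0, 1, 2, 0; 0, 0, 0, 0, 0, 0, 0; 1, 0, 1, 0, 1, 2, 0; 0, 0, 0, 0, 0, 0, 0; 1, 0, 1, 0, 1, 2, 0; 2, 0, 2, 0, 2, 1, 0; 0, 0, 0, 0, 0, 0, 0]
def o0_296 : Mat := !![1, 0, 2, 1, 1, 2, 1; 0, 0, 0, 0, 0, 0, 0; 2, 0, 1, 2, 2, 1, 2; 1, 0, 2, 1, 1, 2, 1; 1, 0, 2, 1, 1, 2, 1; 2, 0, 1, 2, 2, 1, 2; 1, 0, 2, 1, 1, 2, 1]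
def o0_297 : Mat := !![1, 1, 0, 2, 0, 1, 1; 1, 1, 0, 2, 0, 1, 1; 0, 0, 0, 0, 0, 0, 0; 2, 2, 0, 1, 0, 2, 2; 0, 0, 0, 0, 0, 0, 0; 1, 1, 0, 2, 0, 1, 1; 1, 1, 0, 2, 0, 1, 1]
def o0_298 : Mat := !![1, 0, 2, 2, 1, 2, 2; 0, 0, 0, 0, 0, 0, 0; 2, 0, 1, 1, 2, 1, 1; 2, 0, 1, 1, 2, 1, 1; 1, 0, 2, 2, 1, 2, 2; 2, 0, 1, 1, 2, 1, 1; 2, 0, 1, 1, 2, 1, 1]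
def o0_299 : Mat := !![0, 0, 0, 0, 0, 0, 0; 0, 1, 2, 0, 1, 1, 0; 0, 2, 1, 0, 2, 2, 0; 0, 0, 0, 0, 0, 0, 0; 0, 1, 2, 0, 1, 1, 0; 0, 1, 2, 0, 1, 1, 0; 0, 0, 0, 0, 0, 0, 0]
def o0_300 : Mat := !![1, 2, 2, 2, 0, 0, 1; 2, 1, 1, 1, 0, 0, 2; 2, 1, 1, 1, 0, 0, 2; 2, 1, 1, 1, 0, 0, 2; 0, 0, 0, 0, 0, 0, 0; 0, 0, 0, 0, 0, 0, 0; 1, 2, 2, 2, 0, 0, 1]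
def o0_301 : Mat := !![1, 0, 2, 1, 2, 0, 2; 0, 0, 0, 0, 0, 0, 0; 2, 0, 1, 2, 1, 0, 1; 1, 0, 2, 1, 2, 0, 2; 2, 0, 1, 2, 1, 0, 1; 0, 0, 0, 0, 0, 0, 0; 2, 0, 1, 2, 1, 0, 1]
def o0_302 : Mat := !![0, 0, 0, 0, 0, 0, 0; 0, 1, 1, 2, 1, 1, 2; 0, 1, 1, 2, 1, 1, 2; 0, 2, 2, 1, 2, 2, 1; 0, 1, 1, 2, 1, 1, 2; 0, 1, 1, 2, 1, 1, 2; 0, 2, 2, 1, 2, 2, 1]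
def o0_303 : Mat := !![1, 0, 0, 1, 1, 0, 2; 0, 0, 0, 0, 0, 0, 0; 0, 0, 0, 0, 0, 0, 0; 1, 0, 0, 1, 1, 0, 2; 1, 0, 0, 1, 1, 0, 2; 0, 0, 0, 0, 0, 0, 0; 2, 0, 0, 2, 2, 0, 1]
def o0_304 : Mat := !![0, 0, 0, 0, 0, 0, 0; 0, 1, 1, 0, 1, 2, 1; 0, 1, 1, 0, 1, 2, 1; 0, 0, 0, 0, 0, 0, 0; 0, 1, 1, 0, 1, 2, 1; 0, 2, 2, 0, 2, 1, 2; 0, 1, 1, 0, 1, 2, 1]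
def o0_305 : Mat := !![1, 1, 0, 0, 2, 2, 2; 1, 1, 0, 0, 2, 2, 2; 0, 0, 0, 0, 0, 0, 0; 0, 0, 0, 0, 0, 0, 0; 2, 2, 0, 0, 1, 1, 1; 2, 2, 0, 0, 1, 1, 1; 2, 2, 0, 0, 1, 1, 1]
def o0_306 : Mat := !![1, 2, 0, 2, 1, 2, 0; 2, 1, 0, 1, 2, 1, 0; 0, 0, 0, 0, 0, 0, 0; 2, 1, 0, 1, 2, 1, 0; 1, 2, 0, 2, 1, 2, 0; 2, 1, 0, 1, 2, 1, 0; 0, 0, 0, 0, 0, 0, 0]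
def o0_307 : Mat := !![0, 0, 0, 0, 0, 0, 0; 0, 1, 0, 1, 1, 2, 2; 0, 0, 0, 0, 0, 0, 0; 0, 1, 0, 1, 1, 2, 2; 0, 1, 0, 1, 1, 2, 2; 0, 2, 0, 2, 2, 1, 1; 0, 2, 0, 2, 2, 1, 1]
def o0_308 : Mat := !![0, 0, 0, 0, 0, 0, 0; 0, 1, 1, 1, 1, 1, 1; 0, 1, 1, 1, 1, 1, 1; 0, 1, 1, 1, 1, 1, 1; 0, 1, 1, 1, 1, 1, 1; 0, 1, 1, 1, 1, 1, 1; 0, 1, 1, 1, 1, 1, 1]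
def o0_309 : Mat := !![1, 1, 0, 2, 0, 2, 1; 1, 1, 0, 2, 0, 2, 1; 0, 0, 0, 0, 0, 0, 0; 2, 2, 0, 1, 0, 1, 2; 0, 0, 0, 0, 0, 0, 0; 2, 2, 0, 1, 0, 1, 2; 1, 1, 0, 2, 0, 2, 1]
def o0_310 : Mat := !![1, 0, 0, 1, 1, 2, 2; 0, 0, 0, 0, 0, 0, 0; 0, 0, 0, 0, 0, 0, 0; 1, 0, 0, 1, 1, 2, 2; 1, 0, 0, 1, 1, 2, 2; 2, 0, 0, 2, 2, 1, 1; 2, 0, 0, 2, 2, 1, 1]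
def o0_311 : Mat := !![1, 1, 1, 2, 0, 1, 2; 1, 1, 1, 2, 0, 1, 2; 1, 1, 1, 2, 0, 1, 2; 2, 2, 2, 1, 0, 2, 1; 0, 0, 0, 0, 0, 0, 0; 1, 1, 1, 2, 0, 1, 2; 2, 2, 2, 1, 0, 2, 1]
def o0_312 : Mat := !![1, 0, 2, 2, 1, 0, 1; 0, 0, 0, 0, 0, 0, 0; 2, 0, 1, 1, 2, 0, 2; 2, 0, 1, 1, 2, 0, 2; 1, 0, 2, 2, 1, 0, 1; 0, 0, 0, 0, 0, 0, 0; 1, 0, 2, 2, 1, 0, 1]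
def o0_313 : Mat := !![1, 1, 2, 1, 0, 0, 2; 1, 1, 2, 1, 0, 0, 2; 2, 2, 1, 2, 0, 0, 1; 1, 1, 2, 1, 0, 0, 2; 0, 0, 0, 0, 0, 0, 0; 0, 0, 0, 0, 0, 0, 0; 2, 2, 1, 2, 0, 0, 1]
def o0_314 : Mat := !![1, 2, 0, 1, 2, 2, 1; 2, 1, 0, 2, 1, 1, 2; 0, 0, 0, 0, 0, 0, 0; 1, 2, 0, 1, 2, 2, 1; 2, 1, 0, 2, 1, 1, 2; 2, 1, 0, 2, 1, 1, 2; 1, 2, 0, 1, 2, 2, 1]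
def o0_315 : Mat := !![0, 0, 0, 0, 0, 0, 0; 0, 0, 0, 0, 0, 0, 0; 0, 0, 0, 0, 0, 0, 0; 0, 0, 0, 1, 0, 1, 0; 0, 0, 0, 0, 0, 0, 0; 0, 0, 0, 1, 0, 1, 0; 0, 0, 0, 0, 0, 0, 0]
def o0_316 : Mat := !![1, 0, 1, 0, 1, 2, 1; 0, 0, 0, 0, 0, 0, 0; 1, 0, 1, 0, 1, 2, 1; 0, 0, 0, 0, 0, 0, 0; 1, 0, 1, 0, 1, 2, 1; 2, 0, 2, 0, 2, 1, 2; 1, 0, 1, 0, 1, 2, 1]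
def o0_317 : Mat := !![1, 1, 1, 1, 0, 2, 0; 1, 1, 1, 1, 0, 2, 0; 1, 1, 1, 1, 0, 2, 0; 1, 1, 1, 1, 0, 2, 0; 0, 0, 0, 0, 0, 0, 0; 2, 2, 2, 2, 0, 1, 0; 0, 0, 0, 0, 0, 0, 0]
def o0_318 : Mat := !![0, 0, 0, 0, 0, 0, 0; 0, 1, 2, 2, 1, 1, 0; 0, 2, 1, 1, 2, 2, 0; 0, 2, 1, 1, 2, 2, 0; 0, 1, 2, 2, 1, 1, 0; 0, 1, 2, 2, 1, 1, 0; 0, 0, 0, 0, 0, 0, 0]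
def o0_319 : Mat := !![1, 1, 2, 1, 2, 0, 0; 1, 1, 2, 1, 2, 0, 0; 2, 2, 1, 2, 1, 0, 0; 1, 1, 2, 1, 2, 0, 0; 2, 2, 1, 2, 1, 0, 0; 0, 0, 0, 0, 0, 0, 0; 0, 0, 0, 0, 0, 0, 0]
def o0_320 : Mat := !![1, 2, 2, 2, 1, 1, 2; 2, 1, 1, 1, 2, 2, 1; 2, 1, 1, 1, 2, 2, 1; 2, 1, 1, 1, 2, 2, 1; 1, 2, 2, 2, 1, 1, 2; 1, 2, 2, 2, 1, 1, 2; 2, 1, 1, 1, 2, 2, 1]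
def o0_321 : Mat := !![1, 1, 0, 0, 2, 0, 2; 1, 1, 0, 0, 2, 0, 2; 0, 0, 0, 0, 0, 0, 0; 0, 0, 0, 0, 0, 0, 0; 2, 2, 0, 0, 1, 0, 1; 0, 0, 0, 0, 0, 0, 0; 2, 2, 0, 0, 1, 0, 1]
def o0_322 : Mat := !![0, 0, 0, 0, 0, 0, 0; 0, 1, 0, 1, 1, 1, 2; 0, 0, 0, 0, 0, 0, 0; 0, 1, 0, 1, 1, 1, 2; 0, 1, 0, 1, 1, 1, 2; 0, 1, 0, 1, 1, 1, 2; 0, 2, 0, 2, 2, 2, 1]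
def o0_323 : Mat := !![1, 1, 2, 2, 0, 1, 0; 1, 1, 2, 2, 0, 1, 0; 2, 2, 1, 1, 0, 2, 0; 2, 2, 1, 1, 0, 2, 0; 0, 0, 0, 0, 0, 0, 0; 1, 1, 2, 2, 0, 1, 0; 0, 0, 0, 0, 0, 0, 0]
def o0_324 : Mat := !![1, 0, 2, 0, 1, 1, 2; 0, 0, 0, 0, 0, 0, 0; 2, 0, 1, 0, 2, 2, 1; 0, 0, 0, 0, 0, 0, 0; 1, 0, 2, 0, 1, 1, 2; 1, 0, 2, 0, 1, 1, 2; 2, 0, 1, 0, 2, 2, 1]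
def o0_325 : Mat := !![0, 0, 0, 0, 0, 0, 0; 0, 0, 0, 0, 0, 0, 0; 0, 0, 1, 0, 0, 0, 0; 0, 0, 0, 0, 0, 0, 0; 0, 0, 0, 0, 0, 0, 0; 0, 0, 0, 0, 0, 0, 0; 0, 0, 0, 0, 0, 0, 0]
def o0_326 : Mat := !![1, 0, 0, 2, 1, 1, 1; 0, 0, 0, 0, 0, 0, 0; 0, 0, 0, 0, 0, 0, 0; 2, 0, 0, 1, 2, 2, 2; 1, 0, 0, 2, 1, 1, 1; 1, 0, 0, 2, 1, 1, 1; 1, 0, 0, 2, 1, 1, 1]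
def o0_327 : Mat := !![1, 1, 0, 1, 0, 1, 2; 1, 1, 0, 1, 0, 1, 2; 0, 0, 0, 0, 0, 0, 0; 1, 1, 0, 1, 0, 1, 2; 0, 0, 0, 0, 0, 0, 0; 1, 1, 0, 1, 0, 1, 2; 2, 2, 0, 2, 0, 2, 1]
def o0_328 : Mat := !![0, 0, 0, 0, 0, 0, 0; 0, 1, 1, 2, 1, 2, 0; 0, 1, 1, 2, 1, 2, 0; 0, 2, 2, 1, 2, 1, 0; 0, 1, 1, 2, 1, 2, 0; 0, 2, 2, 1, 2, 1, 0; 0, 0, 0, 0, 0, 0, 0]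
def o0_329 : Mat := !![1, 2, 2, 1, 0, 0, 2; 2, 1, 1, 2, 0, 0, 1; 2, 1, 1, 2, 0, 0, 1; 1, 2, 2, 1, 0, 0, 2; 0, 0, 0, 0, 0, 0, 0; 0, 0, 0, 0, 0, 0, 0; 2, 1, 1, 2, 0, 0, 1]
def o0_330 : Mat := !![0, 0, 0, 0, 0, 0, 0; 0, 0, 0, 0, 0, 0, 0; 0, 0, 0, 0, 0, 0, 0; 0, 0, 0, 0, 0, 0, 0; 0, 0, 0, 0, 0, 0, 0; 0, 0, 0, 0, 0, 1, 1; 0, 0, 0, 0, 0, 1, 1]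
def o0_331 : Mat := !![0, 0, 0, 0, 0, 0, 0; 0, 1, 0, 2, 1, 0, 1; 0, 0, 0, 0, 0, 0, 0; 0, 2, 0, 1, 2, 0, 2; 0, 1, 0, 2, 1, 0, 1; 0, 0, 0, 0, 0, 0, 0; 0, 1, 0, 2, 1, 0, 1]
def o0_332 : Mat := !![1, 1, 0, 2, 2, 2, 0; 1, 1, 0, 2, 2, 2, 0; 0, 0, 0, 0, 0, 0, 0; 2, 2, 0, 1, 1, 1, 0; 2, 2, 0, 1, 1, 1, 0; 2, 2, 0, 1, 1, 1, 0; 0, 0, 0, 0, 0, 0, 0]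
def o0_333 : Mat := !![1, 0, 0, 2, 1, 2, 1; 0, 0, 0, 0, 0, 0, 0; 0, 0, 0, 0, 0, 0, 0; 2, 0, 0, 1, 2, 1, 2; 1, 0, 0, 2, 1, 2, 1; 2, 0, 0, 1, 2, 1, 2; 1, 0, 0, 2, 1, 2, 1]
def o0_334 : Mat := !![0, 0, 0, 0, 0, 0, 0; 0, 0, 0, 0, 0, 0, 0; 0, 0, 0, 0, 0, 0, 0; 0, 0, 0, 0, 0, 0, 0; 0, 0, 0, 0, 0, 0, 0; 0, 0, 0, 0, 0, 0, 0; 0, 0, 0, 0, 0, 0, 1]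
def o0_335 : Mat := !![1, 0, 1, 2, 1, 1, 2; 0, 0, 0, 0, 0, 0, 0; 1, 0, 1, 2, 1, 1, 2; 2, 0, 2, 1, 2, 2, 1; 1, 0, 1, 2, 1, 1, 2; 1, 0, 1, 2, 1, 1, 2; 2, 0, 2, 1, 2, 2, 1]
def o0_336 : Mat := !![1, 0, 2, 1, 1, 0, 2; 0, 0, 0, 0, 0, 0, 0; 2, 0, 1, 2, 2, 0, 1; 1, 0, 2, 1, 1, 0, 2; 1, 0, 2, 1, 1, 0, 2; 0, 0, 0, 0, 0, 0, 0; 2, 0, 1, 2, 2, 0, 1]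
def o0_337 : Mat := !![0, 0, 0, 0, 0, 0, 0; 0, 0, 0, 0, 0, 0, 0; 0, 0, 1, 2, 0, 0, 0; 0, 0, 2, 1, 0, 0, 0; 0, 0, 0, 0, 0, 0, 0; 0, 0, 0, 0, 0, 0, 0; 0, 0, 0, 0, 0, 0, 0]
def o0_338 : Mat := !![1, 0, 1, 1, 1, 2, 0; 0, 0, 0, 0, 0, 0, 0; 1, 0, 1, 1, 1, 2, 0; 1, 0, 1, 1, 1, 2, 0; 1, 0, 1, 1, 1, 2, 0; 2, 0, 2, 2, 2, 1, 0; 0, 0, 0, 0, 0, 0, 0]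
def o0_339 : Mat := !![0, 0, 0, 0, 0, 0, 0; 0, 1, 2, 0, 1, 1, 2; 0, 2, 1, 0, 2, 2, 1; 0, 0, 0, 0, 0, 0, 0; 0, 1, 2, 0, 1, 1, 2; 0, 1, 2, 0, 1, 1, 2; 0, 2, 1, 0, 2, 2, 1]
def o0_340 : Mat := !![1, 1, 2, 2, 2, 1, 2; 1, 1, 2, 2, 2, 1, 2; 2, 2, 1, 1, 1, 2, 1; 2, 2, 1, 1, 1, 2, 1; 2, 2, 1, 1, 1, 2, 1; 1, 1, 2, 2, 2, 1, 2; 2, 2, 1, 1, 1, 2, 1]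
def o0_341 : Mat := !![0, 0, 0, 0, 0, 0, 0; 0, 1, 0, 2, 1, 1, 1; 0, 0, 0, 0, 0, 0, 0; 0, 2, 0, 1, 2, 2, 2; 0, 1, 0, 2, 1, 1, 1; 0, 1, 0, 2, 1, 1, 1; 0, 1, 0, 2, 1, 1, 1]
def o0_342 : Mat := !![1, 0, 2, 2, 1, 1, 0; 0, 0, 0, 0, 0, 0, 0; 2, 0, 1, 1, 2, 2, 0; 2, 0, 1, 1, 2, 2, 0; 1, 0, 2, 2, 1, 1, 0; 1, 0, 2, 2, 1, 1, 0; 0, 0, 0, 0, 0, 0, 0]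
def o0_343 : Mat := !![0, 0, 0, 0, 0, 0, 0; 0, 0, 0, 0, 0, 0, 0; 0, 0, 1, 1, 0, 1, 2; 0, 0, 1, 1, 0, 1, 2; 0, 0, 0, 0, 0, 0, 0; 0, 0, 1, 1, 0, 1, 2; 0, 0, 2, 2, 0, 2, 1]
def o0_344 : Mat := !![0, 0, 0, 0, 0, 0, 0; 0, 0, 0, 0, 0, 0, 0; 0, 0, 0, 0, 0, 0, 0; 0, 0, 0, 1, 0, 2, 0; 0, 0, 0, 0, 0, 0, 0; 0, 0, 0, 2, 0, 1, 0; 0, 0, 0, 0, 0, 0, 0]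
def o0_345 : Mat := !![1, 0, 0, 1, 1, 1, 2; 0, 0, 0, 0, 0, 0, 0; 0, 0, 0, 0, 0, 0, 0; 1, 0, 0, 1, 1, 1, 2; 1, 0, 0, 1, 1, 1, 2; 1, 0, 0, 1, 1, 1, 2; 2, 0, 0, 2, 2, 2, 1]
def o0_346 : Mat := !![0, 0, 0, 0, 0, 0, 0; 0, 1, 1, 0, 1, 2, 2; 0, 1, 1, 0, 1, 2, 2; 0, 0, 0, 0, 0, 0, 0; 0, 1, 1, 0, 1, 2, 2; 0, 2, 2, 0, 2, 1, 1; 0, 2, 2, 0, 2, 1, 1]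
def o0_347 : Mat := !![0, 0, 0, 0, 0, 0, 0; 0, 1, 0, 1, 1, 0, 2; 0, 0, 0, 0, 0, 0, 0; 0, 1, 0, 1, 1, 0, 2; 0, 1, 0, 1, 1, 0, 2; 0, 0, 0, 0, 0, 0, 0; 0, 2, 0, 2, 2, 0, 1]
def o0_348 : Mat := !![0, 0, 0, 0, 0, 0, 0; 0, 0, 0, 0, 0, 0, 0; 0, 0, 0, 0, 0, 0, 0; 0, 0, 0, 1, 0, 0, 0; 0, 0, 0, 0, 0, 0, 0; 0, 0, 0, 0, 0, 0, 0; 0, 0, 0, 0, 0, 0, 0]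
def o0_349 : Mat := !![0, 0, 0, 0, 0, 0, 0; 0, 0, 0, 0, 0, 0, 0; 0, 0, 1, 1, 0, 2, 1; 0, 0, 1, 1, 0, 2, 1; 0, 0, 0, 0, 0, 0, 0; 0, 0, 2, 2, 0, 1, 2; 0, 0, 1, 1, 0, 2, 1]
def o0_350 : Mat := !![0, 0, 0, 0, 0, 0, 0; 0, 0, 0, 0, 0, 0, 0; 0, 0, 1, 0, 0, 0, 2; 0, 0, 0, 0, 0, 0, 0; 0, 0, 0, 0, 0, 0, 0; 0, 0, 0, 0, 0, 0, 0; 0, 0, 2, 0, 0, 0, 1]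
def o0_351 : Mat := !![0, 0, 0, 0, 0, 0, 0; 0, 1, 2, 1, 1, 2, 1; 0, 2, 1, 2, 2, 1, 2; 0, 1, 2, 1, 1, 2, 1; 0, 1, 2, 1, 1, 2, 1; 0, 2, 1, 2, 2, 1, 2; 0, 1, 2, 1, 1, 2, 1]
def o0_352 : Mat := !![0, 0, 0, 0, 0, 0, 0; 0, 1, 1, 0, 1, 2, 0; 0, 1, 1, 0, 1, 2, 0; 0, 0, 0, 0, 0, 0, 0; 0, 1, 1, 0, 1, 2, 0; 0, 2, 2, 0, 2, 1, 0; 0, 0, 0, 0, 0, 0, 0]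
def o0_353 : Mat := !![0, 0, 0, 0, 0, 0, 0; 0, 1, 2, 2, 1, 2, 2; 0, 2, 1, 1, 2, 1, 1; 0, 2, 1, 1, 2, 1, 1; 0, 1, 2, 2, 1, 2, 2; 0, 2, 1, 1, 2, 1, 1; 0, 2, 1, 1, 2, 1, 1]
def o0_354 : Mat := !![0, 0, 0, 0, 0, 0, 0; 0, 0, 0, 0, 0, 0, 0; 0, 0, 1, 2, 0, 1, 1; 0, 0, 2, 1, 0, 2, 2; 0, 0, 0, 0, 0, 0, 0; 0, 0, 1, 2, 0, 1, 1; 0, 0, 1, 2, 0, 1, 1]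
def o0_355 : Mat := !![0, 0, 0, 0, 0, 0, 0; 0, 0, 0, 0, 0, 0, 0; 0, 0, 0, 0, 0, 0, 0; 0, 0, 0, 0, 0, 0, 0; 0, 0, 0, 0, 0, 0, 0; 0, 0, 0, 0, 0, 1, 2; 0, 0, 0, 0, 0, 2, 1]
def o0_356 : Mat := !![0, 0, 0, 0, 0, 0, 0; 0, 1, 2, 0, 1, 1, 1; 0, 2, 1, 0, 2, 2, 2; 0, 0, 0, 0, 0, 0, 0; 0, 1, 2, 0, 1, 1, 1; 0, 1, 2, 0, 1, 1, 1; 0, 1, 2, 0, 1, 1, 1]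
def o0_357 : Mat := !![0, 0, 0, 0, 0, 0, 0; 0, 1, 2, 1, 1, 1, 0; 0, 2, 1, 2, 2, 2, 0; 0, 1, 2, 1, 1, 1, 0; 0, 1, 2, 1, 1, 1, 0; 0, 1, 2, 1, 1, 1, 0; 0, 0, 0, 0, 0, 0, 0]
def o0_358 : Mat := !![0, 0, 0, 0, 0, 0, 0; 0, 0, 0, 0, 0, 0, 0; 0, 0, 1, 2, 0, 2, 2; 0, 0, 2, 1, 0, 1, 1; 0, 0, 0, 0, 0, 0, 0; 0, 0, 2, 1, 0, 1, 1; 0, 0, 2, 1, 0, 1, 1]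
def o0_359 : Mat := !![0, 0, 0, 0, 0, 0, 0; 0, 0, 0, 0, 0, 0, 0; 0, 0, 0, 0, 0, 0, 0; 0, 0, 0, 0, 0, 0, 0; 0, 0, 0, 0, 0, 0, 0; 0, 0, 0, 0, 0, 1, 0; 0, 0, 0, 0, 0, 0, 0]
def o0_360 : Mat := !![0, 0, 0, 0, 0, 0, 0; 0, 1, 1, 1, 1, 0, 2; 0, 1, 1, 1, 1, 0, 2; 0, 1, 1, 1, 1, 0, 2; 0, 1, 1, 1, 1, 0, 2; 0, 0, 0, 0, 0, 0, 0; 0, 2, 2, 2, 2, 0, 1]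
def o0_361 : Mat := !![0, 0, 0, 0, 0, 0, 0; 0, 0, 0, 0, 0, 0, 0; 0, 0, 1, 1, 0, 0, 0; 0, 0, 1, 1, 0, 0, 0; 0, 0, 0, 0, 0, 0, 0; 0, 0, 0, 0, 0, 0, 0; 0, 0, 0, 0, 0, 0, 0]
def o0_362 : Mat := !![0, 0, 0, 0, 0, 0, 0; 0, 0, 0, 0, 0, 0, 0; 0, 0, 1, 0, 0, 0, 1; 0, 0, 0, 0, 0, 0, 0; 0, 0, 0, 0, 0, 0, 0; 0, 0, 0, 0, 0, 0, 0; 0, 0, 1, 0, 0, 0, 1]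
def o0_363 : Mat := !![0, 0, 0, 0, 0, 0, 0; 0, 1, 1, 2, 1, 0, 1; 0, 1, 1, 2, 1, 0, 1; 0, 2, 2, 1, 2, 0, 2; 0, 1, 1, 2, 1, 0, 1; 0, 0, 0, 0, 0, 0, 0; 0, 1, 1, 2, 1, 0, 1]

end Cfsg.Agent.Lead.O73
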