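import Cfsg.Agent.Lib.Lead.O73.Gens

/-! # O73: objects of level 1 -/

set_option autoImplicit false
set_option maxRecDepth 100000

namespace Cfsg.Agent.Lead.O73

open Cfsg.Spor.Fi22 (Gen)

def o1_0 : Mat := !![0, 0, 0, 0, 0, 0, 0; 0, 0, 0, 0, 0, 0, 0; 0, 0, 0, 0, 0, 0, 0; 0, 0, 0, 0, 0, 0, 0; 0, 0, 0, 0, 1, 0, 0; 0, 0, 0, 0, 0, 0, 0; 0, 0, 0, 0, 0, 0, 0]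
def o1_1 : Mat := !![0, 0, 0, 0, 0, 0, 0; 0, 1, 1, 0, 2, 1, 0; 0, 1, 1, 0, 2, 1, 0; 0, 0, 0, 0, 0, 0, 0; 0, 2, 2, 0, 1, 2, 0; 0, 1, 1, 0, 2, 1, 0; 0, 0, 0, 0, 0, 0, 0]
def o1_2 : Mat := !![0, 0, 0, 0, 0, 0, 0; 0, 1, 0, 1, 2, 1, 1; 0, 0, 0, 0, 0, 0, 0; 0, 1, 0, 1, 2, 1, 1; 0, 2, 0, 2, 1, 2, 2; 0, 1, 0, 1, 2, 1, 1; 0, 1, 0, 1, 2, 1, 1]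
def o1_3 : Mat := !![0, 0, 0, 0, 0, 0, 0; 0, 1, 1, 1, 2, 2, 2; 0, 1, 1, 1, 2, 2, 2; 0, 1, 1, 1, 2, 2, 2; 0, 2, 2, 2, 1, 1, 1; 0, 2, 2, 2, 1, 1, 1; 0, 2, 2, 2, 1, 1, 1]
def o1_4 : Mat := !![0, 0, 0, 0, 0, 0, 0; 0, 1, 2, 2, 0, 1, 2; 0, 2, 1, 1, 0, 2, 1; 0, 2, 1, 1, 0, 2, 1; 0, 0, 0, 0, 0, 0, 0; 0, 1, 2, 2, 0, 1, 2; 0, 2, 1, 1, 0, 2, 1]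
def o1_5 : Mat := !![0, 0, 0, 0, 0, 0, 0; 0, 1, 2, 0, 2, 2, 1; 0, 2, 1, 0, 1, 1, 2; 0, 0, 0, 0, 0, 0, 0; 0, 2, 1, 0, 1, 1, 2; 0, 2, 1, 0, 1, 1, 2; 0, 1, 2, 0, 2, 2, 1]
def o1_6 : Mat := !![0, 0, 0, 0, 0, 0, 0; 0, 1, 1, 2, 2, 2, 1; 0, 1, 1, 2, 2, 2, 1; 0, 2, 2, 1, 1, 1, 2; 0, 2, 2, 1, 1, 1, 2; 0, 2, 2, 1, 1, 1, 2; 0, 1, 1, 2, 2, 2, 1]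
def o1_7 : Mat := !![0, 0, 0, 0, 0, 0, 0; 0, 1, 2, 1, 0, 0, 0; 0, 2, 1, 2, 0, 0, 0; 0, 1, 2, 1, 0, 0, 0; 0, 0, 0, 0, 0, 0, 0; 0, 0, 0, 0, 0, 0, 0; 0, 0, 0, 0, 0, 0, 0]
def o1_8 : Mat := !![0, 0, 0, 0, 0, 0, 0; 0, 1, 0, 0, 0, 0, 2; 0, 0, 0, 0, 0, 0, 0; 0, 0, 0, 0, 0, 0, 0; 0, 0, 0, 0, 0, 0, 0; 0, 0, 0, 0, 0, 0, 0; 0, 2, 0, 0, 0, 0, 1]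
def o1_9 : Mat := !![0, 0, 0, 0, 0, 0, 0; 0, 1, 2, 1, 2, 2, 0; 0, 2, 1, 2, 1, 1, 0; 0, 1, 2, 1, 2, 2, 0; 0, 2, 1, 2, 1, 1, 0; 0, 2, 1, 2, 1, 1, 0; 0, 0, 0, 0, 0, 0, 0]
def o1_10 : Mat := !![0, 0, 0, 0, 0, 0, 0; 0, 1, 0, 2, 2, 0, 2; 0, 0, 0, 0, 0, 0, 0; 0, 2, 0, 1, 1, 0, 1; 0, 2, 0, 1, 1, 0, 1; 0, 0, 0, 0, 0, 0, 0; 0, 2, 0, 1, 1, 0, 1]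
def o1_11 : Mat := !![0, 0, 0, 0, 0, 0, 0; 0, 1, 0, 1, 2, 0, 1; 0, 0, 0, 0, 0, 0, 0; 0, 1, 0, 1, 2, 0, 1; 0, 2, 0, 2, 1, 0, 2; 0, 0, 0, 0, 0, 0, 0; 0, 1, 0, 1, 2, 0, 1]
def o1_12 : Mat := !![0, 0, 0, 0, 0, 0, 0; 0, 1, 2, 0, 0, 0, 1; 0, 2, 1, 0, 0, 0, 2; 0, 0, 0, 0, 0, 0, 0; 0, 0, 0, 0, 0, 0, 0; 0, 0, 0, 0, 0, 0, 0; 0, 1, 2, 0, 0, 0, 1]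
def o1_13 : Mat := !![0, 0, 0, 0, 0, 0, 0; 0, 1, 0, 2, 0, 2, 0; 0, 0, 0, 0, 0, 0, 0; 0, 2, 0, 1, 0, 1, 0; 0, 0, 0, 0, 0, 0, 0; 0, 2, 0, 1, 0, 1, 0; 0, 0, 0, 0, 0, 0, 0]
def o1_14 : Mat := !![0, 0, 0, 0, 0, 0, 0; 0, 1, 0, 2, 0, 0, 0; 0, 0, 0, 0, 0, 0, 0; 0, 2, 0, 1, 0, 0, 0; 0, 0, 0, 0, 0, 0, 0; 0, 0, 0, 0, 0, 0, 0; 0, 0, 0, 0, 0, 0, 0]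
def o1_15 : Mat := !![0, 0, 0, 0, 0, 0, 0; 0, 1, 2, 2, 2, 0, 2; 0, 2, 1, 1, 1, 0, 1; 0, 2, 1, 1, 1, 0, 1; 0, 2, 1, 1, 1, 0, 1; 0, 0, 0, 0, 0, 0, 0; 0, 2, 1, 1, 1, 0, 1]
def o1_16 : Mat := !![0, 0, 0, 0, 0, 0, 0; 0, 1, 1, 1, 2, 0, 1; 0, 1, 1, 1, 2, 0, 1; 0, 1, 1, 1, 2, 0, 1; 0, 2, 2, 2, 1, 0, 2; 0, 0, 0, 0, 0, 0, 0; 0, 1, 1, 1, 2, 0, 1]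
def o1_17 : Mat := !![1, 2, 0, 2, 2, 2, 2; 2, 1, 0, 1, 1, 1, 1; 0, 0, 0, 0, 0, 0, 0; 2, 1, 0, 1, 1, 1, 1; 2, 1, 0, 1, 1, 1, 1; 2, 1, 0, 1, 1, 1, 1; 2, 1, 0, 1, 1, 1, 1]
def o1_18 : Mat := !![0, 0, 0, 0, 0, 0, 0; 0, 1, 2, 1, 2, 1, 2; 0, 2, 1, 2, 1, 2, 1; 0, 1, 2, 1, 2, 1, 2; 0, 2, 1, 2, 1, 2, 1; 0, 1, 2, 1, 2, 1, 2; 0, 2, 1, 2, 1, 2, 1]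
def o1_19 : Mat := !![0, 0, 0, 0, 0, 0, 0; 0, 1, 0, 0, 0, 2, 0; 0, 0, 0, 0, 0, 0, 0; 0, 0, 0, 0, 0, 0, 0; 0, 0, 0, 0, 0, 0, 0; 0, 2, 0, 0, 0, 1, 0; 0, 0, 0, 0, 0, 0, 0]
def o1_20 : Mat := !![0, 0, 0, 0, 0, 0, 0; 0, 0, 0, 0, 0, 0, 0; 0, 0, 0, 0, 0, 0, 0; 0, 0, 0, 0, 0, 0, 0; 0, 0, 0, 0, 1, 2, 0; 0, 0, 0, 0, 2, 1, 0; 0, 0, 0, 0, 0, 0, 0]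
def o1_21 : Mat := !![0, 0, 0, 0, 0, 0, 0; 0, 1, 1, 2, 0, 1, 1; 0, 1, 1, 2, 0, 1, 1; 0, 2, 2, 1, 0, 2, 2; 0, 0, 0, 0, 0, 0, 0; 0, 1, 1, 2, 0, 1, 1; 0, 1, 1, 2, 0, 1, 1]
def o1_22 : Mat := !![0, 0, 0, 0, 0, 0, 0; 0, 1, 0, 0, 0, 2, 2; 0, 0, 0, 0, 0, 0, 0; 0, 0, 0, 0, 0, 0, 0; 0, 0, 0, 0, 0, 0, 0; 0, 2, 0, 0, 0, 1, 1; 0, 2, 0, 0, 0, 1, 1]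
def o1_23 : Mat := !![0, 0, 0, 0, 0, 0, 0; 0, 1, 0, 0, 0, 1, 2; 0, 0, 0, 0, 0, 0, 0; 0, 0, 0, 0, 0, 0, 0; 0, 0, 0, 0, 0, 0, 0; 0, 1, 0, 0, 0, 1, 2; 0, 2, 0, 0, 0, 2, 1]
def o1_24 : Mat := !![0, 0, 0, 0, 0, 0, 0; 0, 1, 1, 2, 0, 2, 2; 0, 1, 1, 2, 0, 2, 2; 0, 2, 2, 1, 0, 1, 1; 0, 0, 0, 0, 0, 0, 0; 0, 2, 2, 1, 0, 1, 1; 0, 2, 2, 1, 0, 1, 1]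
def o1_25 : Mat := !![0, 0, 0, 0, 0, 0, 0; 0, 0, 0, 0, 0, 0, 0; 0, 0, 1, 2, 1, 2, 2; 0, 0, 2, 1, 2, 1, 1; 0, 0, 1, 2, 1, 2, 2; 0, 0, 2, 1, 2, 1, 1; 0, 0, 2, 1, 2, 1, 1]
def o1_26 : Mat := !![0, 0, 0, 0, 0, 0, 0; 0, 1, 1, 2, 2, 1, 0; 0, 1, 1, 2, 2, 1, 0; 0, 2, 2, 1, 1, 2, 0; 0, 2, 2, 1, 1, 2, 0; 0, 1, 1, 2, 2, 1, 0; 0, 0, 0, 0, 0, 0, 0]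
def o1_27 : Mat := !![1, 2, 2, 0, 2, 2, 0; 2, 1, 1, 0, 1, 1, 0; 2, 1, 1, 0, 1, 1, 0; 0, 0, 0, 0, 0, 0, 0; 2, 1, 1, 0, 1, 1, 0; 2, 1, 1, 0, 1, 1, 0; 0, 0, 0, 0, 0, 0, 0]
def o1_28 : Mat := !![1, 2, 1, 0, 2, 1, 2; 2, 1, 2, 0, 1, 2, 1; 1, 2, 1, 0, 2, 1, 2; 0, 0, 0, 0, 0, 0, 0; 2, 1, 2, 0, 1, 2, 1; 1, 2, 1, 0, 2, 1, 2; 2, 1, 2, 0, 1, 2, 1]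
def o1_29 : Mat := !![1, 1, 0, 1, 1, 1, 1; 1, 1, 0, 1, 1, 1, 1; 0, 0, 0, 0, 0, 0, 0; 1, 1, 0, 1, 1, 1, 1; 1, 1, 0, 1, 1, 1, 1; 1, 1, 0, 1, 1, 1, 1; 1, 1, 0, 1, 1, 1, 1]
def o1_30 : Mat := !![0, 0, 0, 0, 0, 0, 0; 0, 1, 2, 2, 2, 1, 1; 0, 2, 1, 1, 1, 2, 2; 0, 2, 1, 1, 1, 2, 2; 0, 2, 1, 1, 1, 2, 2; 0, 1, 2, 2, 2, 1, 1; 0, 1, 2, 2, 2, 1, 1]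
def o1_31 : Mat := !![0, 0, 0, 0, 0, 0, 0; 0, 0, 0, 0, 0, 0, 0; 0, 0, 1, 0, 2, 0, 2; 0, 0, 0, 0, 0, 0, 0; 0, 0, 2, 0, 1, 0, 1; 0, 0, 0, 0, 0, 0, 0; 0, 0, 2, 0, 1, 0, 1]
def o1_32 : Mat := !![0, 0, 0, 0, 0, 0, 0; 0, 1, 2, 2, 0, 0, 0; 0, 2, 1, 1, 0, 0, 0; 0, 2, 1, 1, 0, 0, 0; 0, 0, 0, 0, 0, 0, 0; 0, 0, 0, 0, 0, 0, 0; 0, 0, 0, 0, 0, 0, 0]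
def o1_33 : Mat := !![0, 0, 0, 0, 0, 0, 0; 0, 0, 0, 0, 0, 0, 0; 0, 0, 1, 1, 2, 0, 0; 0, 0, 1, 1, 2, 0, 0; 0, 0, 2, 2, 1, 0, 0; 0, 0, 0, 0, 0, 0, 0; 0, 0, 0, 0, 0, 0, 0]
def o1_34 : Mat := !![0, 0, 0, 0, 0, 0, 0; 0, 1, 1, 1, 0, 1, 2; 0, 1, 1, 1, 0, 1, 2; 0, 1, 1, 1, 0, 1, 2; 0, 0, 0, 0, 0, 0, 0; 0, 1, 1, 1, 0, 1, 2; 0, 2, 2, 2, 0, 2, 1]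
def o1_35 : Mat := !![0, 0, 0, 0, 0, 0, 0; 0, 1, 0, 2, 0, 1, 0; 0, 0, 0, 0, 0, 0, 0; 0, 2, 0, 1, 0, 2, 0; 0, 0, 0, 0, 0, 0, 0; 0, 1, 0, 2, 0, 1, 0; 0, 0, 0, 0, 0, 0, 0]
def o1_36 : Mat := !![0, 0, 0, 0, 0, 0, 0; 0, 1, 2, 0, 0, 0, 0; 0, 2, 1, 0, 0, 0, 0; 0, 0, 0, 0, 0, 0, 0; 0, 0, 0, 0, 0, 0, 0; 0, 0, 0, 0, 0, 0, 0; 0, 0, 0, 0, 0, 0, 0]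
def o1_37 : Mat := !![0, 0, 0, 0, 0, 0, 0; 0, 0, 0, 0, 0, 0, 0; 0, 0, 1, 0, 1, 0, 1; 0, 0, 0, 0, 0, 0, 0; 0, 0, 1, 0, 1, 0, 1; 0, 0, 0, 0, 0, 0, 0; 0, 0, 1, 0, 1, 0, 1]
def o1_38 : Mat := !![0, 0, 0, 0, 0, 0, 0; 0, 1, 1, 0, 0, 0, 1; 0, 1, 1, 0, 0, 0, 1; 0, 0, 0, 0, 0, 0, 0; 0, 0, 0, 0, 0, 0, 0; 0, 0, 0, 0, 0, 0, 0; 0, 1, 1, 0, 0, 0, 1]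
def o1_39 : Mat := !![1, 1, 1, 0, 1, 1, 0; 1, 1, 1, 0, 1, 1, 0; 1, 1, 1, 0, 1, 1, 0; 0, 0, 0, 0, 0, 0, 0; 1, 1, 1, 0, 1, 1, 0; 1, 1, 1, 0, 1, 1, 0; 0, 0, 0, 0, 0, 0, 0]
def o1_40 : Mat := !![0, 0, 0, 0, 0, 0, 0; 0, 0, 0, 0, 0, 0, 0; 0, 0, 0, 0, 0, 0, 0; 0, 0, 0, 1, 2, 0, 0; 0, 0, 0, 2, 1, 0, 0; 0, 0, 0, 0, 0, 0, 0; 0, 0, 0, 0, 0, 0, 0]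
def o1_41 : Mat := !![0, 0, 0, 0, 0, 0, 0; 0, 1, 1, 0, 2, 1, 2; 0, 1, 1, 0, 2, 1, 2; 0, 0, 0, 0, 0, 0, 0; 0, 2, 2, 0, 1, 2, 1; 0, 1, 1, 0, 2, 1, 2; 0, 2, 2, 0, 1, 2, 1]
def o1_42 : Mat := !![1, 2, 2, 2, 2, 1, 1; 2, 1, 1, 1, 1, 2, 2; 2, 1, 1, 1, 1, 2, 2; 2, 1, 1, 1, 1, 2, 2; 2, 1, 1, 1, 1, 2, 2; 1, 2, 2, 2, 2, 1, 1; 1, 2, 2, 2, 2, 1, 1]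
def o1_43 : Mat := !![1, 2, 1, 2, 2, 1, 0; 2, 1, 2, 1, 1, 2, 0; 1, 2, 1, 2, 2, 1, 0; 2, 1, 2, 1, 1, 2, 0; 2, 1, 2, 1, 1, 2, 0; 1, 2, 1, 2, 2, 1, 0; 0, 0, 0, 0, 0, 0, 0]
def o1_44 : Mat := !![1, 0, 1, 1, 0, 2, 0; 0, 0, 0, 0, 0, 0, 0; 1, 0, 1, 1, 0, 2, 0; 1, 0, 1, 1, 0, 2, 0; 0, 0, 0, 0, 0, 0, 0; 2, 0, 2, 2, 0, 1, 0; 0, 0, 0, 0, 0, 0, 0]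
def o1_45 : Mat := !![1, 1, 2, 0, 1, 2, 1; 1, 1, 2, 0, 1, 2, 1; 2, 2, 1, 0, 2, 1, 2; 0, 0, 0, 0, 0, 0, 0; 1, 1, 2, 0, 1, 2, 1; 2, 2, 1, 0, 2, 1, 2; 1, 1, 2, 0, 1, 2, 1]
def o1_46 : Mat := !![0, 0, 0, 0, 0, 0, 0; 0, 1, 2, 0, 2, 2, 0; 0, 2, 1, 0, 1, 1, 0; 0, 0, 0, 0, 0, 0, 0; 0, 2, 1, 0, 1, 1, 0; 0, 2, 1, 0, 1, 1, 0; 0, 0, 0, 0, 0, 0, 0]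
def o1_47 : Mat := !![0, 0, 0, 0, 0, 0, 0; 0, 0, 0, 0, 0, 0, 0; 0, 0, 1, 2, 2, 0, 0; 0, 0, 2, 1, 1, 0, 0; 0, 0, 2, 1, 1, 0, 0; 0, 0, 0, 0, 0, 0, 0; 0, 0, 0, 0, 0, 0, 0]
def o1_48 : Mat := !![0, 0, 0, 0, 0, 0, 0; 0, 0, 0, 0, 0, 0, 0; 0, 0, 1, 2, 1, 1, 1; 0, 0, 2, 1, 2, 2, 2; 0, 0, 1, 2, 1, 1, 1; 0, 0, 1, 2, 1, 1, 1; 0, 0, 1, 2, 1, 1, 1]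
def o1_49 : Mat := !![0, 0, 0, 0, 0, 0, 0; 0, 1, 2, 0, 0, 0, 2; 0, 2, 1, 0, 0, 0, 1; 0, 0, 0, 0, 0, 0, 0; 0, 0, 0, 0, 0, 0, 0; 0, 0, 0, 0, 0, 0, 0; 0, 2, 1, 0, 0, 0, 1]
def o1_50 : Mat := !![0, 0, 0, 0, 0, 0, 0; 0, 0, 0, 0, 0, 0, 0; 0, 0, 1, 0, 2, 0, 1; 0, 0, 0, 0, 0, 0, 0; 0, 0, 2, 0, 1, 0, 2; 0, 0, 0, 0, 0, 0, 0; 0, 0, 1, 0, 2, 0, 1]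
def o1_51 : Mat := !![0, 0, 0, 0, 0, 0, 0; 0, 1, 1, 0, 0, 0, 0; 0, 1, 1, 0, 0, 0, 0; 0, 0, 0, 0, 0, 0, 0; 0, 0, 0, 0, 0, 0, 0; 0, 0, 0, 0, 0, 0, 0; 0, 0, 0, 0, 0, 0, 0]
def o1_52 : Mat := !![0, 0, 0, 0, 0, 0, 0; 0, 1, 0, 1, 0, 2, 0; 0, 0, 0, 0, 0, 0, 0; 0, 1, 0, 1, 0, 2, 0; 0, 0, 0, 0, 0, 0, 0; 0, 2, 0, 2, 0, 1, 0; 0, 0, 0, 0, 0, 0, 0]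
def o1_53 : Mat := !![0, 0, 0, 0, 0, 0, 0; 0, 0, 0, 0, 0, 0, 0; 0, 0, 1, 1, 1, 0, 0; 0, 0, 1, 1, 1, 0, 0; 0, 0, 1, 1, 1, 0, 0; 0, 0, 0, 0, 0, 0, 0; 0, 0, 0, 0, 0, 0, 0]
def o1_54 : Mat := !![0, 0, 0, 0, 0, 0, 0; 0, 1, 2, 2, 0, 2, 1; 0, 2, 1, 1, 0, 1, 2; 0, 2, 1, 1, 0, 1, 2; 0, 0, 0, 0, 0, 0, 0; 0, 2, 1, 1, 0, 1, 2; 0, 1, 2, 2, 0, 2, 1]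
def o1_55 : Mat := !![1, 2, 1, 1, 1, 2, 1; 2, 1, 2, 2, 2, 1, 2; 1, 2, 1, 1, 1, 2, 1; 1, 2, 1, 1, 1, 2, 1; 1, 2, 1, 1, 1, 2, 1; 2, 1, 2, 2, 2, 1, 2; 1, 2, 1, 1, 1, 2, 1]
def o1_56 : Mat := !![0, 0, 0, 0, 0, 0, 0; 0, 0, 0, 0, 0, 0, 0; 0, 0, 0, 0, 0, 0, 0; 0, 0, 0, 0, 0, 0, 0; 0, 0, 0, 0, 1, 1, 2; 0, 0, 0, 0, 1, 1, 2; 0, 0, 0, 0, 2, 2, 1]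
def o1_57 : Mat := !![0, 0, 0, 0, 0, 0, 0; 0, 1, 1, 1, 0, 0, 0; 0, 1, 1, 1, 0, 0, 0; 0, 1, 1, 1, 0, 0, 0; 0, 0, 0, 0, 0, 0, 0; 0, 0, 0, 0, 0, 0, 0; 0, 0, 0, 0, 0, 0, 0]
def o1_58 : Mat := !![1, 1, 1, 1, 1, 2, 2; 1, 1, 1, 1, 1, 2, 2; 1, 1, 1, 1, 1, 2, 2; 1, 1, 1, 1, 1, 2, 2; 1, 1, 1, 1, 1, 2, 2; 2, 2, 2, 2, 2, 1, 1; 2, 2, 2, 2, 2, 1, 1]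
def o1_59 : Mat := !![0, 0, 0, 0, 0, 0, 0; 0, 0, 0, 0, 0, 0, 0; 0, 0, 0, 0, 0, 0, 0; 0, 0, 0, 0, 0, 0, 0; 0, 0, 0, 0, 1, 0, 2; 0, 0, 0, 0, 0, 0, 0; 0, 0, 0, 0, 2, 0, 1]
def o1_60 : Mat := !![1, 0, 0, 2, 0, 2, 1; 0, 0, 0, 0, 0, 0, 0; 0, 0, 0, 0, 0, 0, 0; 2, 0, 0, 1, 0, 1, 2; 0, 0, 0, 0, 0, 0, 0; 2, 0, 0, 1, 0, 1, 2; 1, 0, 0, 2, 0, 2, 1]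
def o1_61 : Mat := !![1, 2, 2, 1, 2, 1, 2; 2, 1, 1, 2, 1, 2, 1; 2, 1, 1, 2, 1, 2, 1; 1, 2, 2, 1, 2, 1, 2; 2, 1, 1, 2, 1, 2, 1; 1, 2, 2, 1, 2, 1, 2; 2, 1, 1, 2, 1, 2, 1]
def o1_62 : Mat := !![0, 0, 0, 0, 0, 0, 0; 0, 1, 0, 2, 2, 2, 2; 0, 0, 0, 0, 0, 0, 0; 0, 2, 0, 1, 1, 1, 1; 0, 2, 0, 1, 1, 1, 1; 0, 2, 0, 1, 1, 1, 1; 0, 2, 0, 1, 1, 1, 1]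
def o1_63 : Mat := !![1, 2, 1, 1, 2, 0, 1; 2, 1, 2, 2, 1, 0, 2; 1, 2, 1, 1, 2, 0, 1; 1, 2, 1, 1, 2, 0, 1; 2, 1, 2, 2, 1, 0, 2; 0, 0, 0, 0, 0, 0, 0; 1, 2, 1, 1, 2, 0, 1]
def o1_64 : Mat := !![1, 2, 2, 2, 2, 0, 2; 2, 1, 1, 1, 1, 0, 1; 2, 1, 1, 1, 1, 0, 1; 2, 1, 1, 1, 1, 0, 1; 2, 1, 1, 1, 1, 0, 1; 0, 0, 0, 0, 0, 0, 0; 2, 1, 1, 1, 1, 0, 1]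
def o1_65 : Mat := !![1, 0, 1, 0, 0, 2, 1; 0, 0, 0, 0, 0, 0, 0; 1, 0, 1, 0, 0, 2, 1; 0, 0, 0, 0, 0, 0, 0; 0, 0, 0, 0, 0, 0, 0; 2, 0, 2, 0, 0, 1, 2; 1, 0, 1, 0, 0, 2, 1]
def o1_66 : Mat := !![1, 0, 2, 2, 0, 1, 0; 0, 0, 0, 0, 0, 0, 0; 2, 0, 1, 1, 0, 2, 0; 2, 0, 1, 1, 0, 2, 0; 0, 0, 0, 0, 0, 0, 0; 1, 0, 2, 2, 0, 1, 0; 0, 0, 0, 0, 0, 0, 0]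
def o1_67 : Mat := !![1, 1, 2, 1, 1, 2, 0; 1, 1, 2, 1, 1, 2, 0; 2, 2, 1, 2, 2, 1, 0; 1, 1, 2, 1, 1, 2, 0; 1, 1, 2, 1, 1, 2, 0; 2, 2, 1, 2, 2, 1, 0; 0, 0, 0, 0, 0, 0, 0]
def o1_68 : Mat := !![0, 0, 0, 0, 0, 0, 0; 0, 1, 0, 0, 0, 0, 0; 0, 0, 0, 0, 0, 0, 0; 0, 0, 0, 0, 0, 0, 0; 0, 0, 0, 0, 0, 0, 0; 0, 0, 0, 0, 0, 0, 0; 0, 0, 0, 0, 0, 0, 0]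
def o1_69 : Mat := !![0, 0, 0, 0, 0, 0, 0; 0, 0, 0, 0, 0, 0, 0; 0, 0, 1, 1, 2, 2, 1; 0, 0, 1, 1, 2, 2, 1; 0, 0, 2, 2, 1, 1, 2; 0, 0, 2, 2, 1, 1, 2; 0, 0, 1, 1, 2, 2, 1]
def o1_70 : Mat := !![0, 0, 0, 0, 0, 0, 0; 0, 0, 0, 0, 0, 0, 0; 0, 0, 0, 0, 0, 0, 0; 0, 0, 0, 1, 2, 1, 0; 0, 0, 0, 2, 1, 2, 0; 0, 0, 0, 1, 2, 1, 0; 0, 0, 0, 0, 0, 0, 0]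
def o1_71 : Mat := !![0, 0, 0, 0, 0, 0, 0; 0, 0, 0, 0, 0, 0, 0; 0, 0, 1, 1, 1, 1, 2; 0, 0, 1, 1, 1, 1, 2; 0, 0, 1, 1, 1, 1, 2; 0, 0, 1, 1, 1, 1, 2; 0, 0, 2, 2, 2, 2, 1]
def o1_72 : Mat := !![0, 0, 0, 0, 0, 0, 0; 0, 1, 2, 1, 0, 1, 1; 0, 2, 1, 2, 0, 2, 2; 0, 1, 2, 1, 0, 1, 1; 0, 0, 0, 0, 0, 0, 0; 0, 1, 2, 1, 0, 1, 1; 0, 1, 2, 1, 0, 1, 1]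
def o1_73 : Mat := !![0, 0, 0, 0, 0, 0, 0; 0, 1, 0, 0, 0, 2, 1; 0, 0, 0, 0, 0, 0, 0; 0, 0, 0, 0, 0, 0, 0; 0, 0, 0, 0, 0, 0, 0; 0, 2, 0, 0, 0, 1, 2; 0, 1, 0, 0, 0, 2, 1]
def o1_74 : Mat := !![0, 0, 0, 0, 0, 0, 0; 0, 0, 0, 0, 0, 0, 0; 0, 0, 1, 2, 2, 2, 2; 0, 0, 2, 1, 1, 1, 1; 0, 0, 2, 1, 1, 1, 1; 0, 0, 2, 1, 1, 1, 1; 0, 0, 2, 1, 1, 1, 1]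
def o1_75 : Mat := !![0, 0, 0, 0, 0, 0, 0; 0, 0, 0, 0, 0, 0, 0; 0, 0, 0, 0, 0, 0, 0; 0, 0, 0, 0, 0, 0, 0; 0, 0, 0, 0, 1, 2, 1; 0, 0, 0, 0, 2, 1, 2; 0, 0, 0, 0, 1, 2, 1]
def o1_76 : Mat := !![0, 0, 0, 0, 0, 0, 0; 0, 0, 0, 0, 0, 0, 0; 0, 0, 0, 0, 0, 0, 0; 0, 0, 0, 0, 0, 0, 0; 0, 0, 0, 0, 1, 1, 0; 0, 0, 0, 0, 1, 1, 0; 0, 0, 0, 0, 0, 0, 0]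
def o1_77 : Mat := !![0, 0, 0, 0, 0, 0, 0; 0, 1, 0, 0, 0, 1, 1; 0, 0, 0, 0, 0, 0, 0; 0, 0, 0, 0, 0, 0, 0; 0, 0, 0, 0, 0, 0, 0; 0, 1, 0, 0, 0, 1, 1; 0, 1, 0, 0, 0, 1, 1]
def o1_78 : Mat := !![1, 2, 0, 0, 1, 0, 1; 2, 1, 0, 0, 2, 0, 2; 0, 0, 0, 0, 0, 0, 0; 0, 0, 0, 0, 0, 0, 0; 1, 2, 0, 0, 1, 0, 1; 0, 0, 0, 0, 0, 0, 0; 1, 2, 0, 0, 1, 0, 1]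
def o1_79 : Mat := !![0, 0, 0, 0, 0, 0, 0; 0, 0, 0, 0, 0, 0, 0; 0, 0, 1, 2, 2, 1, 1; 0, 0, 2, 1, 1, 2, 2; 0, 0, 2, 1, 1, 2, 2; 0, 0, 1, 2, 2, 1, 1; 0, 0, 1, 2, 2, 1, 1]
def o1_80 : Mat := !![0, 0, 0, 0, 0, 0, 0; 0, 1, 2, 1, 0, 2, 2; 0, 2, 1, 2, 0, 1, 1; 0, 1, 2, 1, 0, 2, 2; 0, 0, 0, 0, 0, 0, 0; 0, 2, 1, 2, 0, 1, 1; 0, 2, 1, 2, 0, 1, 1]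
def o1_81 : Mat := !![1, 2, 1, 2, 1, 0, 0; 2, 1, 2, 1, 2, 0, 0; 1, 2, 1, 2, 1, 0, 0; 2, 1, 2, 1, 2, 0, 0; 1, 2, 1, 2, 1, 0, 0; 0, 0, 0, 0, 0, 0, 0; 0, 0, 0, 0, 0, 0, 0]
def o1_82 : Mat := !![0, 0, 0, 0, 0, 0, 0; 0, 0, 0, 0, 0, 0, 0; 0, 0, 0, 0, 0, 0, 0; 0, 0, 0, 1, 2, 2, 0; 0, 0, 0, 2, 1, 1, 0; 0, 0, 0, 2, 1, 1, 0; 0, 0, 0, 0, 0, 0, 0]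
def o1_83 : Mat := !![1, 0, 0, 1, 0, 1, 2; 0, 0, 0, 0, 0, 0, 0; 0, 0, 0, 0, 0, 0, 0; 1, 0, 0, 1, 0, 1, 2; 0, 0, 0, 0, 0, 0, 0; 1, 0, 0, 1, 0, 1, 2; 2, 0, 0, 2, 0, 2, 1]
def o1_84 : Mat := !![1, 1, 1, 2, 1, 2, 1; 1, 1, 1, 2, 1, 2, 1; 1, 1, 1, 2, 1, 2, 1; 2, 2, 2, 1, 2, 1, 2; 1, 1, 1, 2, 1, 2, 1; 2, 2, 2, 1, 2, 1, 2; 1, 1, 1, 2, 1, 2, 1]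
def o1_85 : Mat := !![0, 0, 0, 0, 0, 0, 0; 0, 1, 0, 0, 0, 1, 0; 0, 0, 0, 0, 0, 0, 0; 0, 0, 0, 0, 0, 0, 0; 0, 0, 0, 0, 0, 0, 0; 0, 1, 0, 0, 0, 1, 0; 0, 0, 0, 0, 0, 0, 0]
def o1_86 : Mat := !![1, 0, 0, 1, 0, 2, 2; 0, 0, 0, 0, 0, 0, 0; 0, 0, 0, 0, 0, 0, 0; 1, 0, 0, 1, 0, 2, 2; 0, 0, 0, 0, 0, 0, 0; 2, 0, 0, 2, 0, 1, 1; 2, 0, 0, 2, 0, 1, 1]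
def o1_87 : Mat := !![1, 2, 0, 1, 2, 0, 1; 2, 1, 0, 2, 1, 0, 2; 0, 0, 0, 0, 0, 0, 0; 1, 2, 0, 1, 2, 0, 1; 2, 1, 0, 2, 1, 0, 2; 0, 0, 0, 0, 0, 0, 0; 1, 2, 0, 1, 2, 0, 1]
def o1_88 : Mat := !![1, 2, 0, 2, 2, 0, 2; 2, 1, 0, 1, 1, 0, 1; 0, 0, 0, 0, 0, 0, 0; 2, 1, 0, 1, 1, 0, 1; 2, 1, 0, 1, 1, 0, 1; 0, 0, 0, 0, 0, 0, 0; 2, 1, 0, 1, 1, 0, 1]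
def o1_89 : Mat := !![1, 1, 0, 1, 1, 2, 1; 1, 1, 0, 1, 1, 2, 1; 0, 0, 0, 0, 0, 0, 0; 1, 1, 0, 1, 1, 2, 1; 1, 1, 0, 1, 1, 2, 1; 2, 2, 0, 2, 2, 1, 2; 1, 1, 0, 1, 1, 2, 1]
def o1_90 : Mat := !![1, 2, 2, 1, 2, 2, 0; 2, 1, 1, 2, 1, 1, 0; 2, 1, 1, 2, 1, 1, 0; 1, 2, 2, 1, 2, 2, 0; 2, 1, 1, 2, 1, 1, 0; 2, 1, 1, 2, 1, 1, 0; 0, 0, 0, 0, 0, 0, 0]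
def o1_91 : Mat := !![1, 0, 1, 2, 0, 1, 2; 0, 0, 0, 0, 0, 0, 0; 1, 0, 1, 2, 0, 1, 2; 2, 0, 2, 1, 0, 2, 1; 0, 0, 0, 0, 0, 0, 0; 1, 0, 1, 2, 0, 1, 2; 2, 0, 2, 1, 0, 2, 1]
def o1_92 : Mat := !![1, 0, 2, 0, 0, 1, 0; 0, 0, 0, 0, 0, 0, 0; 2, 0, 1, 0, 0, 2, 0; 0, 0, 0, 0, 0, 0, 0; 0, 0, 0, 0, 0, 0, 0; 1, 0, 2, 0, 0, 1, 0; 0, 0, 0, 0, 0, 0, 0]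
def o1_93 : Mat := !![1, 0, 0, 2, 0, 0, 1; 0, 0, 0, 0, 0, 0, 0; 0, 0, 0, 0, 0, 0, 0; 2, 0, 0, 1, 0, 0, 2; 0, 0, 0, 0, 0, 0, 0; 0, 0, 0, 0, 0, 0, 0; 1, 0, 0, 2, 0, 0, 1]
def o1_94 : Mat := !![1, 0, 2, 0, 0, 1, 2; 0, 0, 0, 0, 0, 0, 0; 2, 0, 1, 0, 0, 2, 1; 0, 0, 0, 0, 0, 0, 0; 0, 0, 0, 0, 0, 0, 0; 1, 0, 2, 0, 0, 1, 2; 2, 0, 1, 0, 0, 2, 1]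
def o1_95 : Mat := !![1, 1, 2, 2, 1, 0, 2; 1, 1, 2, 2, 1, 0, 2; 2, 2, 1, 1, 2, 0, 1; 2, 2, 1, 1, 2, 0, 1; 1, 1, 2, 2, 1, 0, 2; 0, 0, 0, 0, 0, 0, 0; 2, 2, 1, 1, 2, 0, 1]
def o1_96 : Mat := !![1, 1, 1, 1, 1, 0, 1; 1, 1, 1, 1, 1, 0, 1; 1, 1, 1, 1, 1, 0, 1; 1, 1, 1, 1, 1, 0, 1; 1, 1, 1, 1, 1, 0, 1; 0, 0, 0, 0, 0, 0, 0; 1, 1, 1, 1, 1, 0, 1]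
def o1_97 : Mat := !![0, 0, 0, 0, 0, 0, 0; 0, 0, 0, 0, 0, 0, 0; 0, 0, 0, 0, 0, 0, 0; 0, 0, 0, 0, 0, 0, 0; 0, 0, 0, 0, 1, 2, 2; 0, 0, 0, 0, 2, 1, 1; 0, 0, 0, 0, 2, 1, 1]
def o1_98 : Mat := !![0, 0, 0, 0, 0, 0, 0; 0, 0, 0, 0, 0, 0, 0; 0, 0, 1, 0, 1, 0, 0; 0, 0, 0, 0, 0, 0, 0; 0, 0, 1, 0, 1, 0, 0; 0, 0, 0, 0, 0, 0, 0; 0, 0, 0, 0, 0, 0, 0]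
def o1_99 : Mat := !![0, 0, 0, 0, 0, 0, 0; 0, 0, 0, 0, 0, 0, 0; 0, 0, 0, 0, 0, 0, 0; 0, 0, 0, 1, 1, 2, 0; 0, 0, 0, 1, 1, 2, 0; 0, 0, 0, 2, 2, 1, 0; 0, 0, 0, 0, 0, 0, 0]
def o1_100 : Mat := !![0, 0, 0, 0, 0, 0, 0; 0, 1, 0, 2, 2, 1, 2; 0, 0, 0, 0, 0, 0, 0; 0, 2, 0, 1, 1, 2, 1; 0, 2, 0, 1, 1, 2, 1; 0, 1, 0, 2, 2, 1, 2; 0, 2, 0, 1, 1, 2, 1]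
def o1_101 : Mat := !![0, 0, 0, 0, 0, 0, 0; 0, 1, 0, 1, 0, 0, 0; 0, 0, 0, 0, 0, 0, 0; 0, 1, 0, 1, 0, 0, 0; 0, 0, 0, 0, 0, 0, 0; 0, 0, 0, 0, 0, 0, 0; 0, 0, 0, 0, 0, 0, 0]
def o1_102 : Mat := !![1, 2, 0, 1, 1, 0, 0; 2, 1, 0, 2, 2, 0, 0; 0, 0, 0, 0, 0, 0, 0; 1, 2, 0, 1, 1, 0, 0; 1, 2, 0, 1, 1, 0, 0; 0, 0, 0, 0, 0, 0, 0; 0, 0, 0, 0, 0, 0, 0]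
def o1_103 : Mat := !![0, 0, 0, 0, 0, 0, 0; 0, 1, 0, 1, 2, 2, 1; 0, 0, 0, 0, 0, 0, 0; 0, 1, 0, 1, 2, 2, 1; 0, 2, 0, 2, 1, 1, 2; 0, 2, 0, 2, 1, 1, 2; 0, 1, 0, 1, 2, 2, 1]
def o1_104 : Mat := !![0, 0, 0, 0, 0, 0, 0; 0, 0, 0, 0, 0, 0, 0; 0, 0, 0, 0, 0, 0, 0; 0, 0, 0, 1, 1, 0, 0; 0, 0, 0, 1, 1, 0, 0; 0, 0, 0, 0, 0, 0, 0; 0, 0, 0, 0, 0, 0, 0]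
def o1_105 : Mat := !![1, 0, 0, 1, 2, 1, 2; 0, 0, 0, 0, 0, 0, 0; 0, 0, 0, 0, 0, 0, 0; 1, 0, 0, 1, 2, 1, 2; 2, 0, 0, 2, 1, 2, 1; 1, 0, 0, 1, 2, 1, 2; 2, 0, 0, 2, 1, 2, 1]
def o1_106 : Mat := !![0, 0, 0, 0, 0, 0, 0; 0, 0, 0, 0, 0, 0, 0; 0, 0, 1, 0, 1, 0, 2; 0, 0, 0, 0, 0, 0, 0; 0, 0, 1, 0, 1, 0, 2; 0, 0, 0, 0, 0, 0, 0; 0, 0, 2, 0, 2, 0, 1]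
def o1_107 : Mat := !![0, 0, 0, 0, 0, 0, 0; 0, 1, 0, 1, 0, 1, 0; 0, 0, 0, 0, 0, 0, 0; 0, 1, 0, 1, 0, 1, 0; 0, 0, 0, 0, 0, 0, 0; 0, 1, 0, 1, 0, 1, 0; 0, 0, 0, 0, 0, 0, 0]
def o1_108 : Mat := !![1, 2, 0, 1, 1, 1, 0; 2, 1, 0, 2, 2, 2, 0; 0, 0, 0, 0, 0, 0, 0; 1, 2, 0, 1, 1, 1, 0; 1, 2, 0, 1, 1, 1, 0; 1, 2, 0, 1, 1, 1, 0; 0, 0, 0, 0, 0, 0, 0]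
def o1_109 : Mat := !![0, 0, 0, 0, 0, 0, 0; 0, 0, 0, 0, 0, 0, 0; 0, 0, 1, 1, 2, 1, 2; 0, 0, 1, 1, 2, 1, 2; 0, 0, 2, 2, 1, 2, 1; 0, 0, 1, 1, 2, 1, 2; 0, 0, 2, 2, 1, 2, 1]
def o1_110 : Mat := !![1, 0, 2, 2, 2, 1, 0; 0, 0, 0, 0, 0, 0, 0; 2, 0, 1, 1, 1, 2, 0; 2, 0, 1, 1, 1, 2, 0; 2, 0, 1, 1, 1, 2, 0; 1, 0, 2, 2, 2, 1, 0; 0, 0, 0, 0, 0, 0, 0]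
def o1_111 : Mat := !![1, 2, 1, 0, 1, 0, 2; 2, 1, 2, 0, 2, 0, 1; 1, 2, 1, 0, 1, 0, 2; 0, 0, 0, 0, 0, 0, 0; 1, 2, 1, 0, 1, 0, 2; 0, 0, 0, 0, 0, 0, 0; 2, 1, 2, 0, 2, 0, 1]
def o1_112 : Mat := !![0, 0, 0, 0, 0, 0, 0; 0, 1, 1, 0, 0, 0, 2; 0, 1, 1, 0, 0, 0, 2; 0, 0, 0, 0, 0, 0, 0; 0, 0, 0, 0, 0, 0, 0; 0, 0, 0, 0, 0, 0, 0; 0, 2, 2, 0, 0, 0, 1]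
def o1_113 : Mat := !![1, 0, 0, 2, 0, 1, 1; 0, 0, 0, 0, 0, 0, 0; 0, 0, 0, 0, 0, 0, 0; 2, 0, 0, 1, 0, 2, 2; 0, 0, 0, 0, 0, 0, 0; 1, 0, 0, 2, 0, 1, 1; 1, 0, 0, 2, 0, 1, 1]
def o1_114 : Mat := !![1, 1, 0, 2, 1, 0, 2; 1, 1, 0, 2, 1, 0, 2; 0, 0, 0, 0, 0, 0, 0; 2, 2, 0, 1, 2, 0, 1; 1, 1, 0, 2, 1, 0, 2; 0, 0, 0, 0, 0, 0, 0; 2, 2, 0, 1, 2, 0, 1]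
def o1_115 : Mat := !![1, 1, 0, 1, 1, 0, 1; 1, 1, 0, 1, 1, 0, 1; 0, 0, 0, 0, 0, 0, 0; 1, 1, 0, 1, 1, 0, 1; 1, 1, 0, 1, 1, 0, 1; 0, 0, 0, 0, 0, 0, 0; 1, 1, 0, 1, 1, 0, 1]
def o1_116 : Mat := !![1, 0, 1, 1, 0, 1, 1; 0, 0, 0, 0, 0, 0, 0; 1, 0, 1, 1, 0, 1, 1; 1, 0, 1, 1, 0, 1, 1; 0, 0, 0, 0, 0, 0, 0; 1, 0, 1, 1, 0, 1, 1; 1, 0, 1, 1, 0, 1, 1]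
def o1_117 : Mat := !![1, 2, 1, 2, 2, 2, 1; 2, 1, 2, 1, 1, 1, 2; 1, 2, 1, 2, 2, 2, 1; 2, 1, 2, 1, 1, 1, 2; 2, 1, 2, 1, 1, 1, 2; 2, 1, 2, 1, 1, 1, 2; 1, 2, 1, 2, 2, 2, 1]
def o1_118 : Mat := !![1, 1, 1, 1, 1, 1, 0; 1, 1, 1, 1, 1, 1, 0; 1, 1, 1, 1, 1, 1, 0; 1, 1, 1, 1, 1, 1, 0; 1, 1, 1, 1, 1, 1, 0; 1, 1, 1, 1, 1, 1, 0; 0, 0, 0, 0, 0, 0, 0]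
def o1_119 : Mat := !![1, 2, 2, 0, 2, 2, 1; 2, 1, 1, 0, 1, 1, 2; 2, 1, 1, 0, 1, 1, 2; 0, 0, 0, 0, 0, 0, 0; 2, 1, 1, 0, 1, 1, 2; 2, 1, 1, 0, 1, 1, 2; 1, 2, 2, 0, 2, 2, 1]
def o1_120 : Mat := !![1, 0, 2, 2, 0, 0, 1; 0, 0, 0, 0, 0, 0, 0; 2, 0, 1, 1, 0, 0, 2; 2, 0, 1, 1, 0, 0, 2; 0, 0, 0, 0, 0, 0, 0; 0, 0, 0, 0, 0, 0, 0; 1, 0, 2, 2, 0, 0, 1]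
def o1_121 : Mat := !![1, 0, 1, 2, 0, 2, 0; 0, 0, 0, 0, 0, 0, 0; 1, 0, 1, 2, 0, 2, 0; 2, 0, 2, 1, 0, 1, 0; 0, 0, 0, 0, 0, 0, 0; 2, 0, 2, 1, 0, 1, 0; 0, 0, 0, 0, 0, 0, 0]
def o1_122 : Mat := !![1, 0, 0, 1, 0, 0, 2; 0, 0, 0, 0, 0, 0, 0; 0, 0, 0, 0, 0, 0, 0; 1, 0, 0, 1, 0, 0, 2; 0, 0, 0, 0, 0, 0, 0; 0, 0, 0, 0, 0, 0, 0; 2, 0, 0, 2, 0, 0, 1]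
def o1_123 : Mat := !![1, 0, 2, 1, 0, 2, 1; 0, 0, 0, 0, 0, 0, 0; 2, 0, 1, 2, 0, 1, 2; 1, 0, 2, 1, 0, 2, 1; 0, 0, 0, 0, 0, 0, 0; 2, 0, 1, 2, 0, 1, 2; 1, 0, 2, 1, 0, 2, 1]
def o1_124 : Mat := !![1, 0, 1, 0, 0, 2, 0; 0, 0, 0, 0, 0, 0, 0; 1, 0, 1, 0, 0, 2, 0; 0, 0, 0, 0, 0, 0, 0; 0, 0, 0, 0, 0, 0, 0; 2, 0, 2, 0, 0, 1, 0; 0, 0, 0, 0, 0, 0, 0]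
def o1_125 : Mat := !![1, 2, 0, 2, 2, 1, 2; 2, 1, 0, 1, 1, 2, 1; 0, 0, 0, 0, 0, 0, 0; 2, 1, 0, 1, 1, 2, 1; 2, 1, 0, 1, 1, 2, 1; 1, 2, 0, 2, 2, 1, 2; 2, 1, 0, 1, 1, 2, 1]
def o1_126 : Mat := !![1, 1, 1, 2, 1, 1, 0; 1, 1, 1, 2, 1, 1, 0; 1, 1, 1, 2, 1, 1, 0; 2, 2, 2, 1, 2, 2, 0; 1, 1, 1, 2, 1, 1, 0; 1, 1, 1, 2, 1, 1, 0; 0, 0, 0, 0, 0, 0, 0]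
def o1_127 : Mat := !![1, 2, 2, 1, 1, 1, 1; 2, 1, 1, 2, 2, 2, 2; 2, 1, 1, 2, 2, 2, 2; 1, 2, 2, 1, 1, 1, 1; 1, 2, 2, 1, 1, 1, 1; 1, 2, 2, 1, 1, 1, 1; 1, 2, 2, 1, 1, 1, 1]
def o1_128 : Mat := !![0, 0, 0, 0, 0, 0, 0; 0, 0, 0, 0, 0, 0, 0; 0, 0, 1, 0, 2, 0, 0; 0, 0, 0, 0, 0, 0, 0; 0, 0, 2, 0, 1, 0, 0; 0, 0, 0, 0, 0, 0, 0; 0, 0, 0, 0, 0, 0, 0]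
def o1_129 : Mat := !![0, 0, 0, 0, 0, 0, 0; 0, 0, 0, 0, 0, 0, 0; 0, 0, 0, 0, 0, 0, 0; 0, 0, 0, 0, 0, 0, 0; 0, 0, 0, 0, 1, 1, 1; 0, 0, 0, 0, 1, 1, 1; 0, 0, 0, 0, 1, 1, 1]
def o1_130 : Mat := !![1, 0, 0, 2, 2, 1, 1; 0, 0, 0, 0, 0, 0, 0; 0, 0, 0, 0, 0, 0, 0; 2, 0, 0, 1, 1, 2, 2; 2, 0, 0, 1, 1, 2, 2; 1, 0, 0, 2, 2, 1, 1; 1, 0, 0, 2, 2, 1, 1]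
def o1_131 : Mat := !![0, 0, 0, 0, 0, 0, 0; 0, 1, 2, 2, 2, 2, 0; 0, 2, 1, 1, 1, 1, 0; 0, 2, 1, 1, 1, 1, 0; 0, 2, 1, 1, 1, 1, 0; 0, 2, 1, 1, 1, 1, 0; 0, 0, 0, 0, 0, 0, 0]
def o1_132 : Mat := !![0, 0, 0, 0, 0, 0, 0; 0, 1, 0, 0, 0, 0, 1; 0, 0, 0, 0, 0, 0, 0; 0, 0, 0, 0, 0, 0, 0; 0, 0, 0, 0, 0, 0, 0; 0, 0, 0, 0, 0, 0, 0; 0, 1, 0, 0, 0, 0, 1]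
def o1_133 : Mat := !![1, 2, 0, 0, 1, 2, 1; 2, 1, 0, 0, 2, 1, 2; 0, 0, 0, 0, 0, 0, 0; 0, 0, 0, 0, 0, 0, 0; 1, 2, 0, 0, 1, 2, 1; 2, 1, 0, 0, 2, 1, 2; 1, 2, 0, 0, 1, 2, 1]
def o1_134 : Mat := !![0, 0, 0, 0, 0, 0, 0; 0, 1, 1, 1, 2, 1, 0; 0, 1, 1, 1, 2, 1, 0; 0, 1, 1, 1, 2, 1, 0; 0, 2, 2, 2, 1, 2, 0; 0, 1, 1, 1, 2, 1, 0; 0, 0, 0, 0, 0, 0, 0]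
def o1_135 : Mat := !![0, 0, 0, 0, 0, 0, 0; 0, 0, 0, 0, 0, 0, 0; 0, 0, 0, 0, 0, 0, 0; 0, 0, 0, 0, 0, 0, 0; 0, 0, 0, 0, 1, 0, 1; 0, 0, 0, 0, 0, 0, 0; 0, 0, 0, 0, 1, 0, 1]
def o1_136 : Mat := !![1, 0, 0, 2, 2, 2, 1; 0, 0, 0, 0, 0, 0, 0; 0, 0, 0, 0, 0, 0, 0; 2, 0, 0, 1, 1, 1, 2; 2, 0, 0, 1, 1, 1, 2; 2, 0, 0, 1, 1, 1, 2; 1, 0, 0, 2, 2, 2, 1]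
def o1_137 : Mat := !![0, 0, 0, 0, 0, 0, 0; 0, 0, 0, 0, 0, 0, 0; 0, 0, 1, 2, 1, 0, 0; 0, 0, 2, 1, 2, 0, 0; 0, 0, 1, 2, 1, 0, 0; 0, 0, 0, 0, 0, 0, 0; 0, 0, 0, 0, 0, 0, 0]
def o1_138 : Mat := !![1, 0, 1, 1, 2, 2, 0; 0, 0, 0, 0, 0, 0, 0; 1, 0, 1, 1, 2, 2, 0; 1, 0, 1, 1, 2, 2, 0; 2, 0, 2, 2, 1, 1, 0; 2, 0, 2, 2, 1, 1, 0; 0, 0, 0, 0, 0, 0, 0]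
def o1_139 : Mat := !![1, 2, 0, 0, 1, 1, 1; 2, 1, 0, 0, 2, 2, 2; 0, 0, 0, 0, 0, 0, 0; 0, 0, 0, 0, 0, 0, 0; 1, 2, 0, 0, 1, 1, 1; 1, 2, 0, 0, 1, 1, 1; 1, 2, 0, 0, 1, 1, 1]
def o1_140 : Mat := !![0, 0, 0, 0, 0, 0, 0; 0, 1, 1, 2, 0, 0, 0; 0, 1, 1, 2, 0, 0, 0; 0, 2, 2, 1, 0, 0, 0; 0, 0, 0, 0, 0, 0, 0; 0, 0, 0, 0, 0, 0, 0; 0, 0, 0, 0, 0, 0, 0]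
def o1_141 : Mat := !![1, 0, 2, 0, 2, 1, 2; 0, 0, 0, 0, 0, 0, 0; 2, 0, 1, 0, 1, 2, 1; 0, 0, 0, 0, 0, 0, 0; 2, 0, 1, 0, 1, 2, 1; 1, 0, 2, 0, 2, 1, 2; 2, 0, 1, 0, 1, 2, 1]
def o1_142 : Mat := !![1, 2, 0, 0, 1, 1, 0; 2, 1, 0, 0, 2, 2, 0; 0, 0, 0, 0, 0, 0, 0; 0, 0, 0, 0, 0, 0, 0; 1, 2, 0, 0, 1, 1, 0; 1, 2, 0, 0, 1, 1, 0; 0, 0, 0, 0, 0, 0, 0]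
def o1_143 : Mat := !![1, 2, 2, 1, 1, 2, 2; 2, 1, 1, 2, 2, 1, 1; 2, 1, 1, 2, 2, 1, 1; 1, 2, 2, 1, 1, 2, 2; 1, 2, 2, 1, 1, 2, 2; 2, 1, 1, 2, 2, 1, 1; 2, 1, 1, 2, 2, 1, 1]
def o1_144 : Mat := !![1, 0, 2, 2, 0, 2, 2; 0, 0, 0, 0, 0, 0, 0; 2, 0, 1, 1, 0, 1, 1; 2, 0, 1, 1, 0, 1, 1; 0, 0, 0, 0, 0, 0, 0; 2, 0, 1, 1, 0, 1, 1; 2, 0, 1, 1, 0, 1, 1]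
def o1_145 : Mat := !![1, 1, 2, 1, 1, 1, 2; 1, 1, 2, 1, 1, 1, 2; 2, 2, 1, 2, 2, 2, 1; 1, 1, 2, 1, 1, 1, 2; 1, 1, 2, 1, 1, 1, 2; 1, 1, 2, 1, 1, 1, 2; 2, 2, 1, 2, 2, 2, 1]
def o1_146 : Mat := !![1, 2, 1, 1, 2, 2, 2; 2, 1, 2, 2, 1, 1, 1; 1, 2, 1, 1, 2, 2, 2; 1, 2, 1, 1, 2, 2, 2; 2, 1, 2, 2, 1, 1, 1; 2, 1, 2, 2, 1, 1, 1; 2, 1, 2, 2, 1, 1, 1]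
def o1_147 : Mat := !![1, 1, 1, 0, 1, 1, 1; 1, 1, 1, 0, 1, 1, 1; 1, 1, 1, 0, 1, 1, 1; 0, 0, 0, 0, 0, 0, 0; 1, 1, 1, 0, 1, 1, 1; 1, 1, 1, 0, 1, 1, 1; 1, 1, 1, 0, 1, 1, 1]
def o1_148 : Mat := !![1, 2, 0, 1, 2, 1, 1; 2, 1, 0, 2, 1, 2, 2; 0, 0, 0, 0, 0, 0, 0; 1, 2, 0, 1, 2, 1, 1; 2, 1, 0, 2, 1, 2, 2; 1, 2, 0, 1, 2, 1, 1; 1, 2, 0, 1, 2, 1, 1]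
def o1_149 : Mat := !![1, 0, 2, 1, 0, 0, 2; 0, 0, 0, 0, 0, 0, 0; 2, 0, 1, 2, 0, 0, 1; 1, 0, 2, 1, 0, 0, 2; 0, 0, 0, 0, 0, 0, 0; 0, 0, 0, 0, 0, 0, 0; 2, 0, 1, 2, 0, 0, 1]
def o1_150 : Mat := !![1, 0, 1, 0, 0, 2, 2; 0, 0, 0, 0, 0, 0, 0; 1, 0, 1, 0, 0, 2, 2; 0, 0, 0, 0, 0, 0, 0; 0, 0, 0, 0, 0, 0, 0; 2, 0, 2, 0, 0, 1, 1; 2, 0, 2, 0, 0, 1, 1]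
def o1_151 : Mat := !![1, 0, 2, 1, 0, 1, 0; 0, 0, 0, 0, 0, 0, 0; 2, 0, 1, 2, 0, 2, 0; 1, 0, 2, 1, 0, 1, 0; 0, 0, 0, 0, 0, 0, 0; 1, 0, 2, 1, 0, 1, 0; 0, 0, 0, 0, 0, 0, 0]
def o1_152 : Mat := !![1, 0, 1, 1, 0, 0, 2; 0, 0, 0, 0, 0, 0, 0; 1, 0, 1, 1, 0, 0, 2; 1, 0, 1, 1, 0, 0, 2; 0, 0, 0, 0, 0, 0, 0; 0, 0, 0, 0, 0, 0, 0; 2, 0, 2, 2, 0, 0, 1]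
def o1_153 : Mat := !![1, 0, 2, 2, 2, 2, 2; 0, 0, 0, 0, 0, 0, 0; 2, 0, 1, 1, 1, 1, 1; 2, 0, 1, 1, 1, 1, 1; 2, 0, 1, 1, 1, 1, 1; 2, 0, 1, 1, 1, 1, 1; 2, 0, 1, 1, 1, 1, 1]
def o1_154 : Mat := !![1, 2, 2, 2, 2, 2, 0; 2, 1, 1, 1, 1, 1, 0; 2, 1, 1, 1, 1, 1, 0; 2, 1, 1, 1, 1, 1, 0; 2, 1, 1, 1, 1, 1, 0; 2, 1, 1, 1, 1, 1, 0; 0, 0, 0, 0, 0, 0, 0]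
def o1_155 : Mat := !![1, 1, 1, 0, 1, 1, 2; 1, 1, 1, 0, 1, 1, 2; 1, 1, 1, 0, 1, 1, 2; 0, 0, 0, 0, 0, 0, 0; 1, 1, 1, 0, 1, 1, 2; 1, 1, 1, 0, 1, 1, 2; 2, 2, 2, 0, 2, 2, 1]
def o1_156 : Mat := !![1, 2, 2, 0, 1, 0, 2; 2, 1, 1, 0, 2, 0, 1; 2, 1, 1, 0, 2, 0, 1; 0, 0, 0, 0, 0, 0, 0; 1, 2, 2, 0, 1, 0, 2; 0, 0, 0, 0, 0, 0, 0; 2, 1, 1, 0, 2, 0, 1]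
def o1_157 : Mat := !![1, 0, 2, 1, 2, 2, 1; 0, 0, 0, 0, 0, 0, 0; 2, 0, 1, 2, 1, 1, 2; 1, 0, 2, 1, 2, 2, 1; 2, 0, 1, 2, 1, 1, 2; 2, 0, 1, 2, 1, 1, 2; 1, 0, 2, 1, 2, 2, 1]
def o1_158 : Mat := !![0, 0, 0, 0, 0, 0, 0; 0, 0, 0, 0, 0, 0, 0; 0, 0, 0, 0, 0, 0, 0; 0, 0, 0, 1, 1, 1, 0; 0, 0, 0, 1, 1, 1, 0; 0, 0, 0, 1, 1, 1, 0; 0, 0, 0, 0, 0, 0, 0]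
def o1_159 : Mat := !![1, 0, 0, 1, 2, 0, 2; 0, 0, 0, 0, 0, 0, 0; 0, 0, 0, 0, 0, 0, 0; 1, 0, 0, 1, 2, 0, 2; 2, 0, 0, 2, 1, 0, 1; 0, 0, 0, 0, 0, 0, 0; 2, 0, 0, 2, 1, 0, 1]
def o1_160 : Mat := !![0, 0, 0, 0, 0, 0, 0; 0, 1, 2, 0, 2, 2, 2; 0, 2, 1, 0, 1, 1, 1; 0, 0, 0, 0, 0, 0, 0; 0, 2, 1, 0, 1, 1, 1; 0, 2, 1, 0, 1, 1, 1; 0, 2, 1, 0, 1, 1, 1]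
def o1_161 : Mat := !![1, 1, 2, 0, 0, 1, 1; 1, 1, 2, 0, 0, 1, 1; 2, 2, 1, 0, 0, 2, 2; 0, 0, 0, 0, 0, 0, 0; 0, 0, 0, 0, 0, 0, 0; 1, 1, 2, 0, 0, 1, 1; 1, 1, 2, 0, 0, 1, 1]
def o1_162 : Mat := !![1, 2, 0, 1, 1, 2, 0; 2, 1, 0, 2, 2, 1, 0; 0, 0, 0, 0, 0, 0, 0; 1, 2, 0, 1, 1, 2, 0; 1, 2, 0, 1, 1, 2, 0; 2, 1, 0, 2, 2, 1, 0; 0, 0, 0, 0, 0, 0, 0]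
def o1_163 : Mat := !![0, 0, 0, 0, 0, 0, 0; 0, 1, 1, 1, 0, 2, 1; 0, 1, 1, 1, 0, 2, 1; 0, 1, 1, 1, 0, 2, 1; 0, 0, 0, 0, 0, 0, 0; 0, 2, 2, 2, 0, 1, 2; 0, 1, 1, 1, 0, 2, 1]
def o1_164 : Mat := !![0, 0, 0, 0, 0, 0, 0; 0, 1, 1, 0, 2, 1, 1; 0, 1, 1, 0, 2, 1, 1; 0, 0, 0, 0, 0, 0, 0; 0, 2, 2, 0, 1, 2, 2; 0, 1, 1, 0, 2, 1, 1; 0, 1, 1, 0, 2, 1, 1]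
def o1_165 : Mat := !![1, 1, 1, 2, 0, 0, 1; 1, 1, 1, 2, 0, 0, 1; 1, 1, 1, 2, 0, 0, 1; 2, 2, 2, 1, 0, 0, 2; 0, 0, 0, 0, 0, 0, 0; 0, 0, 0, 0, 0, 0, 0; 1, 1, 1, 2, 0, 0, 1]
def o1_166 : Mat := !![1, 0, 0, 1, 2, 2, 2; 0, 0, 0, 0, 0, 0, 0; 0, 0, 0, 0, 0, 0, 0; 1, 0, 0, 1, 2, 2, 2; 2, 0, 0, 2, 1, 1, 1; 2, 0, 0, 2, 1, 1, 1; 2, 0, 0, 2, 1, 1, 1]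
def o1_167 : Mat := !![0, 0, 0, 0, 0, 0, 0; 0, 0, 0, 0, 0, 0, 0; 0, 0, 1, 1, 1, 2, 1; 0, 0, 1, 1, 1, 2, 1; 0, 0, 1, 1, 1, 2, 1; 0, 0, 2, 2, 2, 1, 2; 0, 0, 1, 1, 1, 2, 1]
def o1_168 : Mat := !![1, 0, 1, 0, 2, 2, 1; 0, 0, 0, 0, 0, 0, 0; 1, 0, 1, 0, 2, 2, 1; 0, 0, 0, 0, 0, 0, 0; 2, 0, 2, 0, 1, 1, 2; 2, 0, 2, 0, 1, 1, 2; 1, 0, 1, 0, 2, 2, 1]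
def o1_169 : Mat := !![1, 2, 1, 0, 1, 0, 0; 2, 1, 2, 0, 2, 0, 0; 1, 2, 1, 0, 1, 0, 0; 0, 0, 0, 0, 0, 0, 0; 1, 2, 1, 0, 1, 0, 0; 0, 0, 0, 0, 0, 0, 0; 0, 0, 0, 0, 0, 0, 0]
def o1_170 : Mat := !![1, 2, 2, 2, 1, 2, 1; 2, 1, 1, 1, 2, 1, 2; 2, 1, 1, 1, 2, 1, 2; 2, 1, 1, 1, 2, 1, 2; 1, 2, 2, 2, 1, 2, 1; 2, 1, 1, 1, 2, 1, 2; 1, 2, 2, 2, 1, 2, 1]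
def o1_171 : Mat := !![1, 0, 1, 0, 2, 2, 0; 0, 0, 0, 0, 0, 0, 0; 1, 0, 1, 0, 2, 2, 0; 0, 0, 0, 0, 0, 0, 0; 2, 0, 2, 0, 1, 1, 0; 2, 0, 2, 0, 1, 1, 0; 0, 0, 0, 0, 0, 0, 0]
def o1_172 : Mat := !![1, 2, 1, 1, 1, 0, 0; 2, 1, 2, 2, 2, 0, 0; 1, 2, 1, 1, 1, 0, 0; 1, 2, 1, 1, 1, 0, 0; 1, 2, 1, 1, 1, 0, 0; 0, 0, 0, 0, 0, 0, 0; 0, 0, 0, 0, 0, 0, 0]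
def o1_173 : Mat := !![1, 1, 2, 2, 1, 1, 1; 1, 1, 2, 2, 1, 1, 1; 2, 2, 1, 1, 2, 2, 2; 2, 2, 1, 1, 2, 2, 2; 1, 1, 2, 2, 1, 1, 1; 1, 1, 2, 2, 1, 1, 1; 1, 1, 2, 2, 1, 1, 1]
def o1_174 : Mat := !![1, 2, 1, 0, 2, 1, 0; 2, 1, 2, 0, 1, 2, 0; 1, 2, 1, 0, 2, 1, 0; 0, 0, 0, 0, 0, 0, 0; 2, 1, 2, 0, 1, 2, 0; 1, 2, 1, 0, 2, 1, 0; 0, 0, 0, 0, 0, 0, 0]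
def o1_175 : Mat := !![1, 1, 1, 2, 1, 0, 2; 1, 1, 1, 2, 1, 0, 2; 1, 1, 1, 2, 1, 0, 2; 2, 2, 2, 1, 2, 0, 1; 1, 1, 1, 2, 1, 0, 2; 0, 0, 0, 0, 0, 0, 0; 2, 2, 2, 1, 2, 0, 1]
def o1_176 : Mat := !![1, 1, 2, 1, 1, 0, 1; 1, 1, 2, 1, 1, 0, 1; 2, 2, 1, 2, 2, 0, 2; 1, 1, 2, 1, 1, 0, 1; 1, 1, 2, 1, 1, 0, 1; 0, 0, 0, 0, 0, 0, 0; 1, 1, 2, 1, 1, 0, 1]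
def o1_177 : Mat := !![1, 0, 2, 0, 0, 1, 1; 0, 0, 0, 0, 0, 0, 0; 2, 0, 1, 0, 0, 2, 2; 0, 0, 0, 0, 0, 0, 0; 0, 0, 0, 0, 0, 0, 0; 1, 0, 2, 0, 0, 1, 1; 1, 0, 2, 0, 0, 1, 1]
def o1_178 : Mat := !![1, 0, 1, 1, 2, 0, 2; 0, 0, 0, 0, 0, 0, 0; 1, 0, 1, 1, 2, 0, 2; 1, 0, 1, 1, 2, 0, 2; 2, 0, 2, 2, 1, 0, 1; 0, 0, 0, 0, 0, 0, 0; 2, 0, 2, 2, 1, 0, 1]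
def o1_179 : Mat := !![1, 0, 1, 2, 0, 0, 1; 0, 0, 0, 0, 0, 0, 0; 1, 0, 1, 2, 0, 0, 1; 2, 0, 2, 1, 0, 0, 2; 0, 0, 0, 0, 0, 0, 0; 0, 0, 0, 0, 0, 0, 0; 1, 0, 1, 2, 0, 0, 1]
def o1_180 : Mat := !![1, 0, 2, 1, 2, 1, 0; 0, 0, 0, 0, 0, 0, 0; 2, 0, 1, 2, 1, 2, 0; 1, 0, 2, 1, 2, 1, 0; 2, 0, 1, 2, 1, 2, 0; 1, 0, 2, 1, 2, 1, 0; 0, 0, 0, 0, 0, 0, 0]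
def o1_181 : Mat := !![1, 2, 2, 0, 2, 2, 2; 2, 1, 1, 0, 1, 1, 1; 2, 1, 1, 0, 1, 1, 1; 0, 0, 0, 0, 0, 0, 0; 2, 1, 1, 0, 1, 1, 1; 2, 1, 1, 0, 1, 1, 1; 2, 1, 1, 0, 1, 1, 1]
def o1_182 : Mat := !![1, 1, 1, 0, 0, 2, 2; 1, 1, 1, 0, 0, 2, 2; 1, 1, 1, 0, 0, 2, 2; 0, 0, 0, 0, 0, 0, 0; 0, 0, 0, 0, 0, 0, 0; 2, 2, 2, 0, 0, 1, 1; 2, 2, 2, 0, 0, 1, 1]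
def o1_183 : Mat := !![1, 2, 2, 2, 1, 0, 0; 2, 1, 1, 1, 2, 0, 0; 2, 1, 1, 1, 2, 0, 0; 2, 1, 1, 1, 2, 0, 0; 1, 2, 2, 2, 1, 0, 0; 0, 0, 0, 0, 0, 0, 0; 0, 0, 0, 0, 0, 0, 0]
def o1_184 : Mat := !![1, 1, 0, 2, 1, 2, 2; 1, 1, 0, 2, 1, 2, 2; 0, 0, 0, 0, 0, 0, 0; 2, 2, 0, 1, 2, 1, 1; 1, 1, 0, 2, 1, 2, 2; 2, 2, 0, 1, 2, 1, 1; 2, 2, 0, 1, 2, 1, 1]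
def o1_185 : Mat := !![1, 0, 0, 2, 2, 0, 1; 0, 0, 0, 0, 0, 0, 0; 0, 0, 0, 0, 0, 0, 0; 2, 0, 0, 1, 1, 0, 2; 2, 0, 0, 1, 1, 0, 2; 0, 0, 0, 0, 0, 0, 0; 1, 0, 0, 2, 2, 0, 1]
def o1_186 : Mat := !![0, 0, 0, 0, 0, 0, 0; 0, 1, 2, 1, 2, 0, 1; 0, 2, 1, 2, 1, 0, 2; 0, 1, 2, 1, 2, 0, 1; 0, 2, 1, 2, 1, 0, 2; 0, 0, 0, 0, 0, 0, 0; 0, 1, 2, 1, 2, 0, 1]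
def o1_187 : Mat := !![1, 1, 2, 1, 0, 1, 0; 1, 1, 2, 1, 0, 1, 0; 2, 2, 1, 2, 0, 2, 0; 1, 1, 2, 1, 0, 1, 0; 0, 0, 0, 0, 0, 0, 0; 1, 1, 2, 1, 0, 1, 0; 0, 0, 0, 0, 0, 0, 0]
def o1_188 : Mat := !![0, 0, 0, 0, 0, 0, 0; 0, 1, 1, 2, 2, 0, 2; 0, 1, 1, 2, 2, 0, 2; 0, 2, 2, 1, 1, 0, 1; 0, 2, 2, 1, 1, 0, 1; 0, 0, 0, 0, 0, 0, 0; 0, 2, 2, 1, 1, 0, 1]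
def o1_189 : Mat := !![1, 2, 1, 1, 1, 1, 2; 2, 1, 2, 2, 2, 2, 1; 1, 2, 1, 1, 1, 1, 2; 1, 2, 1, 1, 1, 1, 2; 1, 2, 1, 1, 1, 1, 2; 1, 2, 1, 1, 1, 1, 2; 2, 1, 2, 2, 2, 2, 1]
def o1_190 : Mat := !![1, 2, 2, 0, 1, 0, 0; 2, 1, 1, 0, 2, 0, 0; 2, 1, 1, 0, 2, 0, 0; 0, 0, 0, 0, 0, 0, 0; 1, 2, 2, 0, 1, 0, 0; 0, 0, 0, 0, 0, 0, 0; 0, 0, 0, 0, 0, 0, 0]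
def o1_191 : Mat := !![1, 1, 1, 1, 0, 0, 2; 1, 1, 1, 1, 0, 0, 2; 1, 1, 1, 1, 0, 0, 2; 1, 1, 1, 1, 0, 0, 2; 0, 0, 0, 0, 0, 0, 0; 0, 0, 0, 0, 0, 0, 0; 2, 2, 2, 2, 0, 0, 1]
def o1_192 : Mat := !![1, 0, 1, 1, 2, 1, 1; 0, 0, 0, 0, 0, 0, 0; 1, 0, 1, 1, 2, 1, 1; 1, 0, 1, 1, 2, 1, 1; 2, 0, 2, 2, 1, 2, 2; 1, 0, 1, 1, 2, 1, 1; 1, 0, 1, 1, 2, 1, 1]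
def o1_193 : Mat := !![1, 0, 1, 2, 2, 1, 2; 0, 0, 0, 0, 0, 0, 0; 1, 0, 1, 2, 2, 1, 2; 2, 0, 2, 1, 1, 2, 1; 2, 0, 2, 1, 1, 2, 1; 1, 0, 1, 2, 2, 1, 2; 2, 0, 2, 1, 1, 2, 1]
def o1_194 : Mat := !![1, 0, 2, 0, 2, 1, 0; 0, 0, 0, 0, 0, 0, 0; 2, 0, 1, 0, 1, 2, 0; 0, 0, 0, 0, 0, 0, 0; 2, 0, 1, 0, 1, 2, 0; 1, 0, 2, 0, 2, 1, 0; 0, 0, 0, 0, 0, 0, 0]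
def o1_195 : Mat := !![1, 2, 0, 2, 1, 1, 0; 2, 1, 0, 1, 2, 2, 0; 0, 0, 0, 0, 0, 0, 0; 2, 1, 0, 1, 2, 2, 0; 1, 2, 0, 2, 1, 1, 0; 1, 2, 0, 2, 1, 1, 0; 0, 0, 0, 0, 0, 0, 0]
def o1_196 : Mat := !![1, 2, 1, 0, 1, 0, 1; 2, 1, 2, 0, 2, 0, 2; 1, 2, 1, 0, 1, 0, 1; 0, 0, 0, 0, 0, 0, 0; 1, 2, 1, 0, 1, 0, 1; 0, 0, 0, 0, 0, 0, 0; 1, 2, 1, 0, 1, 0, 1]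
def o1_197 : Mat := !![1, 1, 2, 0, 1, 2, 0; 1, 1, 2, 0, 1, 2, 0; 2, 2, 1, 0, 2, 1, 0; 0, 0, 0, 0, 0, 0, 0; 1, 1, 2, 0, 1, 2, 0; 2, 2, 1, 0, 2, 1, 0; 0, 0, 0, 0, 0, 0, 0]
def o1_198 : Mat := !![1, 1, 2, 0, 1, 2, 2; 1, 1, 2, 0, 1, 2, 2; 2, 2, 1, 0, 2, 1, 1; 0, 0, 0, 0, 0, 0, 0; 1, 1, 2, 0, 1, 2, 2; 2, 2, 1, 0, 2, 1, 1; 2, 2, 1, 0, 2, 1, 1]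
def o1_199 : Mat := !![1, 0, 1, 2, 2, 0, 1; 0, 0, 0, 0, 0, 0, 0; 1, 0, 1, 2, 2, 0, 1; 2, 0, 2, 1, 1, 0, 2; 2, 0, 2, 1, 1, 0, 2; 0, 0, 0, 0, 0, 0, 0; 1, 0, 1, 2, 2, 0, 1]
def o1_200 : Mat := !![1, 0, 2, 0, 2, 1, 1; 0, 0, 0, 0, 0, 0, 0; 2, 0, 1, 0, 1, 2, 2; 0, 0, 0, 0, 0, 0, 0; 2, 0, 1, 0, 1, 2, 2; 1, 0, 2, 0, 2, 1, 1; 1, 0, 2, 0, 2, 1, 1]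
def o1_201 : Mat := !![1, 2, 2, 1, 2, 0, 1; 2, 1, 1, 2, 1, 0, 2; 2, 1, 1, 2, 1, 0, 2; 1, 2, 2, 1, 2, 0, 1; 2, 1, 1, 2, 1, 0, 2; 0, 0, 0, 0, 0, 0, 0; 1, 2, 2, 1, 2, 0, 1]
def o1_202 : Mat := !![1, 1, 1, 2, 0, 2, 0; 1, 1, 1, 2, 0, 2, 0; 1, 1, 1, 2, 0, 2, 0; 2, 2, 2, 1, 0, 1, 0; 0, 0, 0, 0, 0, 0, 0; 2, 2, 2, 1, 0, 1, 0; 0, 0, 0, 0, 0, 0, 0]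
def o1_203 : Mat := !![1, 2, 1, 2, 2, 0, 2; 2, 1, 2, 1, 1, 0, 1; 1, 2, 1, 2, 2, 0, 2; 2, 1, 2, 1, 1, 0, 1; 2, 1, 2, 1, 1, 0, 1; 0, 0, 0, 0, 0, 0, 0; 2, 1, 2, 1, 1, 0, 1]
def o1_204 : Mat := !![1, 2, 1, 2, 1, 1, 1; 2, 1, 2, 1, 2, 2, 2; 1, 2, 1, 2, 1, 1, 1; 2, 1, 2, 1, 2, 2, 2; 1, 2, 1, 2, 1, 1, 1; 1, 2, 1, 2, 1, 1, 1; 1, 2, 1, 2, 1, 1, 1]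
def o1_205 : Mat := !![1, 2, 0, 0, 1, 2, 0; 2, 1, 0, 0, 2, 1, 0; 0, 0, 0, 0, 0, 0, 0; 0, 0, 0, 0, 0, 0, 0; 1, 2, 0, 0, 1, 2, 0; 2, 1, 0, 0, 2, 1, 0; 0, 0, 0, 0, 0, 0, 0]
def o1_206 : Mat := !![1, 0, 1, 2, 2, 2, 0; 0, 0, 0, 0, 0, 0, 0; 1, 0, 1, 2, 2, 2, 0; 2, 0, 2, 1, 1, 1, 0; 2, 0, 2, 1, 1, 1, 0; 2, 0, 2, 1, 1, 1, 0; 0, 0, 0, 0, 0, 0, 0]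
def o1_207 : Mat := !![1, 1, 2, 2, 0, 2, 2; 1, 1, 2, 2, 0, 2, 2; 2, 2, 1, 1, 0, 1, 1; 2, 2, 1, 1, 0, 1, 1; 0, 0, 0, 0, 0, 0, 0; 2, 2, 1, 1, 0, 1, 1; 2, 2, 1, 1, 0, 1, 1]
def o1_208 : Mat := !![1, 1, 0, 1, 0, 0, 2; 1, 1, 0, 1, 0, 0, 2; 0, 0, 0, 0, 0, 0, 0; 1, 1, 0, 1, 0, 0, 2; 0, 0, 0, 0, 0, 0, 0; 0, 0, 0, 0, 0, 0, 0; 2, 2, 0, 2, 0, 0, 1]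
def o1_209 : Mat := !![1, 1, 1, 0, 0, 2, 0; 1, 1, 1, 0, 0, 2, 0; 1, 1, 1, 0, 0, 2, 0; 0, 0, 0, 0, 0, 0, 0; 0, 0, 0, 0, 0, 0, 0; 2, 2, 2, 0, 0, 1, 0; 0, 0, 0, 0, 0, 0, 0]
def o1_210 : Mat := !![1, 2, 0, 0, 1, 2, 2; 2, 1, 0, 0, 2, 1, 1; 0, 0, 0, 0, 0, 0, 0; 0, 0, 0, 0, 0, 0, 0; 1, 2, 0, 0, 1, 2, 2; 2, 1, 0, 0, 2, 1, 1; 2, 1, 0, 0, 2, 1, 1]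
def o1_211 : Mat := !![1, 1, 2, 1, 0, 2, 1; 1, 1, 2, 1, 0, 2, 1; 2, 2, 1, 2, 0, 1, 2; 1, 1, 2, 1, 0, 2, 1; 0, 0, 0, 0, 0, 0, 0; 2, 2, 1, 2, 0, 1, 2; 1, 1, 2, 1, 0, 2, 1]
def o1_212 : Mat := !![1, 0, 2, 2, 2, 0, 1; 0, 0, 0, 0, 0, 0, 0; 2, 0, 1, 1, 1, 0, 2; 2, 0, 1, 1, 1, 0, 2; 2, 0, 1, 1, 1, 0, 2; 0, 0, 0, 0, 0, 0, 0; 1, 0, 2, 2, 2, 0, 1]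
def o1_213 : Mat := !![1, 2, 0, 0, 1, 1, 2; 2, 1, 0, 0, 2, 2, 1; 0, 0, 0, 0, 0, 0, 0; 0, 0, 0, 0, 0, 0, 0; 1, 2, 0, 0, 1, 1, 2; 1, 2, 0, 0, 1, 1, 2; 2, 1, 0, 0, 2, 2, 1]
def o1_214 : Mat := !![1, 2, 1, 2, 1, 2, 2; 2, 1, 2, 1, 2, 1, 1; 1, 2, 1, 2, 1, 2, 2; 2, 1, 2, 1, 2, 1, 1; 1, 2, 1, 2, 1, 2, 2; 2, 1, 2, 1, 2, 1, 1; 2, 1, 2, 1, 2, 1, 1]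
def o1_215 : Mat := !![1, 1, 2, 2, 1, 2, 0; 1, 1, 2, 2, 1, 2, 0; 2, 2, 1, 1, 2, 1, 0; 2, 2, 1, 1, 2, 1, 0; 1, 1, 2, 2, 1, 2, 0; 2, 2, 1, 1, 2, 1, 0; 0, 0, 0, 0, 0, 0, 0]
def o1_216 : Mat := !![1, 0, 1, 0, 2, 2, 2; 0, 0, 0, 0, 0, 0, 0; 1, 0, 1, 0, 2, 2, 2; 0, 0, 0, 0, 0, 0, 0; 2, 0, 2, 0, 1, 1, 1; 2, 0, 2, 0, 1, 1, 1; 2, 0, 2, 0, 1, 1, 1]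
def o1_217 : Mat := !![1, 1, 1, 1, 0, 1, 1; 1, 1, 1, 1, 0, 1, 1; 1, 1, 1, 1, 0, 1, 1; 1, 1, 1, 1, 0, 1, 1; 0, 0, 0, 0, 0, 0, 0; 1, 1, 1, 1, 0, 1, 1; 1, 1, 1, 1, 0, 1, 1]
def o1_218 : Mat := !![1, 2, 1, 0, 2, 1, 1; 2, 1, 2, 0, 1, 2, 2; 1, 2, 1, 0, 2, 1, 1; 0, 0, 0, 0, 0, 0, 0; 2, 1, 2, 0, 1, 2, 2; 1, 2, 1, 0, 2, 1, 1; 1, 2, 1, 0, 2, 1, 1]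
def o1_219 : Mat := !![1, 1, 0, 2, 0, 0, 1; 1, 1, 0, 2, 0, 0, 1; 0, 0, 0, 0, 0, 0, 0; 2, 2, 0, 1, 0, 0, 2; 0, 0, 0, 0, 0, 0, 0; 0, 0, 0, 0, 0, 0, 0; 1, 1, 0, 2, 0, 0, 1]
def o1_220 : Mat := !![1, 1, 2, 0, 0, 1, 0; 1, 1, 2, 0, 0, 1, 0; 2, 2, 1, 0, 0, 2, 0; 0, 0, 0, 0, 0, 0, 0; 0, 0, 0, 0, 0, 0, 0; 1, 1, 2, 0, 0, 1, 0; 0, 0, 0, 0, 0, 0, 0]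
def o1_221 : Mat := !![1, 2, 2, 0, 1, 0, 1; 2, 1, 1, 0, 2, 0, 2; 2, 1, 1, 0, 2, 0, 2; 0, 0, 0, 0, 0, 0, 0; 1, 2, 2, 0, 1, 0, 1; 0, 0, 0, 0, 0, 0, 0; 1, 2, 2, 0, 1, 0, 1]
def o1_222 : Mat := !![1, 1, 0, 2, 0, 1, 1; 1, 1, 0, 2, 0, 1, 1; 0, 0, 0, 0, 0, 0, 0; 2, 2, 0, 1, 0, 2, 2; 0, 0, 0, 0, 0, 0, 0; 1, 1, 0, 2, 0, 1, 1; 1, 1, 0, 2, 0, 1, 1]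
def o1_223 : Mat := !![1, 1, 2, 0, 0, 1, 2; 1, 1, 2, 0, 0, 1, 2; 2, 2, 1, 0, 0, 2, 1; 0, 0, 0, 0, 0, 0, 0; 0, 0, 0, 0, 0, 0, 0; 1, 1, 2, 0, 0, 1, 2; 2, 2, 1, 0, 0, 2, 1]
def o1_224 : Mat := !![1, 2, 0, 2, 1, 2, 0; 2, 1, 0, 1, 2, 1, 0; 0, 0, 0, 0, 0, 0, 0; 2, 1, 0, 1, 2, 1, 0; 1, 2, 0, 2, 1, 2, 0; 2, 1, 0, 1, 2, 1, 0; 0, 0, 0, 0, 0, 0, 0]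
def o1_225 : Mat := !![1, 0, 2, 1, 2, 0, 2; 0, 0, 0, 0, 0, 0, 0; 2, 0, 1, 2, 1, 0, 1; 1, 0, 2, 1, 2, 0, 2; 2, 0, 1, 2, 1, 0, 1; 0, 0, 0, 0, 0, 0, 0; 2, 0, 1, 2, 1, 0, 1]
def o1_226 : Mat := !![1, 2, 0, 2, 1, 0, 0; 2, 1, 0, 1, 2, 0, 0; 0, 0, 0, 0, 0, 0, 0; 2, 1, 0, 1, 2, 0, 0; 1, 2, 0, 2, 1, 0, 0; 0, 0, 0, 0, 0, 0, 0; 0, 0, 0, 0, 0, 0, 0]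
def o1_227 : Mat := !![1, 1, 0, 2, 1, 1, 2; 1, 1, 0, 2, 1, 1, 2; 0, 0, 0, 0, 0, 0, 0; 2, 2, 0, 1, 2, 2, 1; 1, 1, 0, 2, 1, 1, 2; 1, 1, 0, 2, 1, 1, 2; 2, 2, 0, 1, 2, 2, 1]
def o1_228 : Mat := !![1, 1, 0, 1, 0, 2, 2; 1, 1, 0, 1, 0, 2, 2; 0, 0, 0, 0, 0, 0, 0; 1, 1, 0, 1, 0, 2, 2; 0, 0, 0, 0, 0, 0, 0; 2, 2, 0, 2, 0, 1, 1; 2, 2, 0, 2, 0, 1, 1]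
def o1_229 : Mat := !![1, 1, 2, 2, 0, 0, 1; 1, 1, 2, 2, 0, 0, 1; 2, 2, 1, 1, 0, 0, 2; 2, 2, 1, 1, 0, 0, 2; 0, 0, 0, 0, 0, 0, 0; 0, 0, 0, 0, 0, 0, 0; 1, 1, 2, 2, 0, 0, 1]
def o1_230 : Mat := !![1, 2, 1, 1, 2, 1, 0; 2, 1, 2, 2, 1, 2, 0; 1, 2, 1, 1, 2, 1, 0; 1, 2, 1, 1, 2, 1, 0; 2, 1, 2, 2, 1, 2, 0; 1, 2, 1, 1, 2, 1, 0; 0, 0, 0, 0, 0, 0, 0]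
def o1_231 : Mat := !![1, 1, 1, 0, 0, 2, 1; 1, 1, 1, 0, 0, 2, 1; 1, 1, 1, 0, 0, 2, 1; 0, 0, 0, 0, 0, 0, 0; 0, 0, 0, 0, 0, 0, 0; 2, 2, 2, 0, 0, 1, 2; 1, 1, 1, 0, 0, 2, 1]
def o1_232 : Mat := !![1, 2, 2, 1, 1, 0, 0; 2, 1, 1, 2, 2, 0, 0; 2, 1, 1, 2, 2, 0, 0; 1, 2, 2, 1, 1, 0, 0; 1, 2, 2, 1, 1, 0, 0; 0, 0, 0, 0, 0, 0, 0; 0, 0, 0, 0, 0, 0, 0]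
def o1_233 : Mat := !![1, 1, 0, 1, 0, 1, 2; 1, 1, 0, 1, 0, 1, 2; 0, 0, 0, 0, 0, 0, 0; 1, 1, 0, 1, 0, 1, 2; 0, 0, 0, 0, 0, 0, 0; 1, 1, 0, 1, 0, 1, 2; 2, 2, 0, 2, 0, 2, 1]
def o1_234 : Mat := !![1, 1, 2, 2, 0, 1, 0; 1, 1, 2, 2, 0, 1, 0; 2, 2, 1, 1, 0, 2, 0; 2, 2, 1, 1, 0, 2, 0; 0, 0, 0, 0, 0, 0, 0; 1, 1, 2, 2, 0, 1, 0; 0, 0, 0, 0, 0, 0, 0]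
def o1_235 : Mat := !![1, 2, 0, 0, 1, 0, 2; 2, 1, 0, 0, 2, 0, 1; 0, 0, 0, 0, 0, 0, 0; 0, 0, 0, 0, 0, 0, 0; 1, 2, 0, 0, 1, 0, 2; 0, 0, 0, 0, 0, 0, 0; 2, 1, 0, 0, 2, 0, 1]
def o1_236 : Mat := !![1, 2, 0, 0, 1, 0, 0; 2, 1, 0, 0, 2, 0, 0; 0, 0, 0, 0, 0, 0, 0; 0, 0, 0, 0, 0, 0, 0; 1, 2, 0, 0, 1, 0, 0; 0, 0, 0, 0, 0, 0, 0; 0, 0, 0, 0, 0, 0, 0]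
def o1_237 : Mat := !![1, 1, 0, 2, 0, 2, 1; 1, 1, 0, 2, 0, 2, 1; 0, 0, 0, 0, 0, 0, 0; 2, 2, 0, 1, 0, 1, 2; 0, 0, 0, 0, 0, 0, 0; 2, 2, 0, 1, 0, 1, 2; 1, 1, 0, 2, 0, 2, 1]
def o1_238 : Mat := !![1, 1, 1, 2, 0, 1, 2; 1, 1, 1, 2, 0, 1, 2; 1, 1, 1, 2, 0, 1, 2; 2, 2, 2, 1, 0, 2, 1; 0, 0, 0, 0, 0, 0, 0; 1, 1, 1, 2, 0, 1, 2; 2, 2, 2, 1, 0, 2, 1]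
def o1_239 : Mat := !![1, 1, 2, 1, 0, 0, 2; 1, 1, 2, 1, 0, 0, 2; 2, 2, 1, 2, 0, 0, 1; 1, 1, 2, 1, 0, 0, 2; 0, 0, 0, 0, 0, 0, 0; 0, 0, 0, 0, 0, 0, 0; 2, 2, 1, 2, 0, 0, 1]
def o1_240 : Mat := !![1, 2, 0, 1, 2, 2, 1; 2, 1, 0, 2, 1, 1, 2; 0, 0, 0, 0, 0, 0, 0; 1, 2, 0, 1, 2, 2, 1; 2, 1, 0, 2, 1, 1, 2; 2, 1, 0, 2, 1, 1, 2; 1, 2, 0, 1, 2, 2, 1]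
def o1_241 : Mat := !![1, 1, 1, 1, 0, 2, 0; 1, 1, 1, 1, 0, 2, 0; 1, 1, 1, 1, 0, 2, 0; 1, 1, 1, 1, 0, 2, 0; 0, 0, 0, 0, 0, 0, 0; 2, 2, 2, 2, 0, 1, 0; 0, 0, 0, 0, 0, 0, 0]
def o1_242 : Mat := !![1, 2, 2, 2, 1, 1, 2; 2, 1, 1, 1, 2, 2, 1; 2, 1, 1, 1, 2, 2, 1; 2, 1, 1, 1, 2, 2, 1; 1, 2, 2, 2, 1, 1, 2; 1, 2, 2, 2, 1, 1, 2; 2, 1, 1, 1, 2, 2, 1]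

end Cfsg.Agent.Lead.O73
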