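import Cfsg.Agent.Lib.Lead.O73.Gens

/-! # O73: objects of level 2 -/

set_option autoImplicit false
set_option maxRecDepth 100000

namespace Cfsg.Agent.Lead.O73

open Cfsg.Spor.Fi22 (Gen)

def o2_0 : Mat := !![2, 0, 0, 1, 0, 1, 1; 2, 0, 0, 1, 0, 1, 1; 0, 0, 0, 0, 0, 0, 0; 0, 0, 0, 0, 0, 0, 0; 0, 0, 0, 0, 0, 0, 0; 0, 0, 0, 0, 0, 0, 0; 0, 0, 0, 0, 0, 0, 0]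
def o2_1 : Mat := !![2, 0, 2, 0, 0, 2, 1; 2, 0, 2, 0, 0, 2, 1; 0, 0, 0, 0, 0, 0, 0; 0, 0, 0, 0, 0, 0, 0; 0, 0, 0, 0, 0, 0, 0; 0, 0, 0, 0, 0, 0, 0; 0, 0, 0, 0, 0, 0, 0]
def o2_2 : Mat := !![2, 0, 2, 1, 0, 2, 0; 2, 0, 2, 1, 0, 2, 0; 0, 0, 0, 0, 0, 0, 0; 0, 0, 0, 0, 0, 0, 0; 0, 0, 0, 0, 0, 0, 0; 0, 0, 0, 0, 0, 0, 0; 0, 0, 0, 0, 0, 0, 0]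
def o2_3 : Mat := !![2, 0, 2, 2, 0, 0, 2; 2, 0, 2, 2, 0, 0, 2; 0, 0, 0, 0, 0, 0, 0; 0, 0, 0, 0, 0, 0, 0; 0, 0, 0, 0, 0, 0, 0; 0, 0, 0, 0, 0, 0, 0; 0, 0, 0, 0, 0, 0, 0]
def o2_4 : Mat := !![2, 0, 1, 1, 0, 0, 1; 2, 0, 1, 1, 0, 0, 1; 0, 0, 0, 0, 0, 0, 0; 0, 0, 0, 0, 0, 0, 0; 0, 0, 0, 0, 0, 0, 0; 0, 0, 0, 0, 0, 0, 0; 0, 0, 0, 0, 0, 0, 0]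
def o2_5 : Mat := !![1, 0, 0, 2, 2, 1, 2; 1, 0, 0, 2, 2, 1, 2; 0, 0, 0, 0, 0, 0, 0; 0, 0, 0, 0, 0, 0, 0; 0, 0, 0, 0, 0, 0, 0; 0, 0, 0, 0, 0, 0, 0; 0, 0, 0, 0, 0, 0, 0]
def o2_6 : Mat := !![2, 0, 1, 2, 0, 1, 0; 2, 0, 1, 2, 0, 1, 0; 0, 0, 0, 0, 0, 0, 0; 0, 0, 0, 0, 0, 0, 0; 0, 0, 0, 0, 0, 0, 0; 0, 0, 0, 0, 0, 0, 0; 0, 0, 0, 0, 0, 0, 0]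
def o2_7 : Mat := !![1, 0, 1, 0, 2, 1, 0; 1, 0, 1, 0, 2, 1, 0; 0, 0, 0, 0, 0, 0, 0; 0, 0, 0, 0, 0, 0, 0; 0, 0, 0, 0, 0, 0, 0; 0, 0, 0, 0, 0, 0, 0; 0, 0, 0, 0, 0, 0, 0]
def o2_8 : Mat := !![1, 0, 2, 2, 2, 2, 0; 1, 0, 2, 2, 2, 2, 0; 0, 0, 0, 0, 0, 0, 0; 0, 0, 0, 0, 0, 0, 0; 0, 0, 0, 0, 0, 0, 0; 0, 0, 0, 0, 0, 0, 0; 0, 0, 0, 0, 0, 0, 0]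
def o2_9 : Mat := !![2, 0, 1, 0, 0, 1, 2; 2, 0, 1, 0, 0, 1, 2; 0, 0, 0, 0, 0, 0, 0; 0, 0, 0, 0, 0, 0, 0; 0, 0, 0, 0, 0, 0, 0; 0, 0, 0, 0, 0, 0, 0; 0, 0, 0, 0, 0, 0, 0]
def o2_10 : Mat := !![1, 0, 1, 1, 2, 2, 2; 1, 0, 1, 1, 2, 2, 2; 0, 0, 0, 0, 0, 0, 0; 0, 0, 0, 0, 0, 0, 0; 0, 0, 0, 0, 0, 0, 0; 0, 0, 0, 0, 0, 0, 0; 0, 0, 0, 0, 0, 0, 0]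
def o2_11 : Mat := !![1, 0, 2, 0, 2, 2, 2; 1, 0, 2, 0, 2, 2, 2; 0, 0, 0, 0, 0, 0, 0; 0, 0, 0, 0, 0, 0, 0; 0, 0, 0, 0, 0, 0, 0; 0, 0, 0, 0, 0, 0, 0; 0, 0, 0, 0, 0, 0, 0]
def o2_12 : Mat := !![0, 0, 2, 1, 1, 0, 2; 0, 0, 2, 1, 1, 0, 2; 0, 0, 0, 0, 0, 0, 0; 0, 0, 0, 0, 0, 0, 0; 0, 0, 0, 0, 0, 0, 0; 0, 0, 0, 0, 0, 0, 0; 0, 0, 0, 0, 0, 0, 0]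
def o2_13 : Mat := !![1, 0, 1, 2, 2, 2, 1; 1, 0, 1, 2, 2, 2, 1; 0, 0, 0, 0, 0, 0, 0; 0, 0, 0, 0, 0, 0, 0; 0, 0, 0, 0, 0, 0, 0; 0, 0, 0, 0, 0, 0, 0; 0, 0, 0, 0, 0, 0, 0]
def o2_14 : Mat := !![2, 0, 0, 2, 0, 2, 2; 2, 0, 0, 2, 0, 2, 2; 0, 0, 0, 0, 0, 0, 0; 0, 0, 0, 0, 0, 0, 0; 0, 0, 0, 0, 0, 0, 0; 0, 0, 0, 0, 0, 0, 0; 0, 0, 0, 0, 0, 0, 0]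
def o2_15 : Mat := !![1, 0, 2, 1, 2, 0, 1; 1, 0, 2, 1, 2, 0, 1; 0, 0, 0, 0, 0, 0, 0; 0, 0, 0, 0, 0, 0, 0; 0, 0, 0, 0, 0, 0, 0; 0, 0, 0, 0, 0, 0, 0; 0, 0, 0, 0, 0, 0, 0]
def o2_16 : Mat := !![0, 0, 2, 2, 1, 0, 1; 0, 0, 2, 2, 1, 0, 1; 0, 0, 0, 0, 0, 0, 0; 0, 0, 0, 0, 0, 0, 0; 0, 0, 0, 0, 0, 0, 0; 0, 0, 0, 0, 0, 0, 0; 0, 0, 0, 0, 0, 0, 0]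
def o2_17 : Mat := !![1, 0, 1, 2, 2, 0, 2; 1, 0, 1, 2, 2, 0, 2; 0, 0, 0, 0, 0, 0, 0; 0, 0, 0, 0, 0, 0, 0; 0, 0, 0, 0, 0, 0, 0; 0, 0, 0, 0, 0, 0, 0; 0, 0, 0, 0, 0, 0, 0]
def o2_18 : Mat := !![1, 0, 0, 2, 2, 0, 2; 1, 0, 0, 2, 2, 0, 2; 0, 0, 0, 0, 0, 0, 0; 0, 0, 0, 0, 0, 0, 0; 0, 0, 0, 0, 0, 0, 0; 0, 0, 0, 0, 0, 0, 0; 0, 0, 0, 0, 0, 0, 0]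
def o2_19 : Mat := !![1, 0, 0, 1, 2, 0, 1; 1, 0, 0, 1, 2, 0, 1; 0, 0, 0, 0, 0, 0, 0; 0, 0, 0, 0, 0, 0, 0; 0, 0, 0, 0, 0, 0, 0; 0, 0, 0, 0, 0, 0, 0; 0, 0, 0, 0, 0, 0, 0]
def o2_20 : Mat := !![0, 0, 2, 0, 1, 1, 0; 0, 0, 2, 0, 1, 1, 0; 0, 0, 0, 0, 0, 0, 0; 0, 0, 0, 0, 0, 0, 0; 0, 0, 0, 0, 0, 0, 0; 0, 0, 0, 0, 0, 0, 0; 0, 0, 0, 0, 0, 0, 0]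
def o2_21 : Mat := !![1, 0, 1, 0, 2, 1, 1; 1, 0, 1, 0, 2, 1, 1; 0, 0, 0, 0, 0, 0, 0; 0, 0, 0, 0, 0, 0, 0; 0, 0, 0, 0, 0, 0, 0; 0, 0, 0, 0, 0, 0, 0; 0, 0, 0, 0, 0, 0, 0]
def o2_22 : Mat := !![0, 0, 1, 2, 1, 1, 2; 0, 0, 1, 2, 1, 1, 2; 0, 0, 0, 0, 0, 0, 0; 0, 0, 0, 0, 0, 0, 0; 0, 0, 0, 0, 0, 0, 0; 0, 0, 0, 0, 0, 0, 0; 0, 0, 0, 0, 0, 0, 0]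
def o2_23 : Mat := !![0, 0, 1, 1, 1, 1, 1; 0, 0, 1, 1, 1, 1, 1; 0, 0, 0, 0, 0, 0, 0; 0, 0, 0, 0, 0, 0, 0; 0, 0, 0, 0, 0, 0, 0; 0, 0, 0, 0, 0, 0, 0; 0, 0, 0, 0, 0, 0, 0]
def o2_24 : Mat := !![1, 0, 2, 1, 2, 1, 2; 1, 0, 2, 1, 2, 1, 2; 0, 0, 0, 0, 0, 0, 0; 0, 0, 0, 0, 0, 0, 0; 0, 0, 0, 0, 0, 0, 0; 0, 0, 0, 0, 0, 0, 0; 0, 0, 0, 0, 0, 0, 0]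
def o2_25 : Mat := !![0, 0, 1, 0, 1, 2, 1; 0, 0, 1, 0, 1, 2, 1; 0, 0, 0, 0, 0, 0, 0; 0, 0, 0, 0, 0, 0, 0; 0, 0, 0, 0, 0, 0, 0; 0, 0, 0, 0, 0, 0, 0; 0, 0, 0, 0, 0, 0, 0]
def o2_26 : Mat := !![0, 0, 1, 2, 1, 2, 0; 0, 0, 1, 2, 1, 2, 0; 0, 0, 0, 0, 0, 0, 0; 0, 0, 0, 0, 0, 0, 0; 0, 0, 0, 0, 0, 0, 0; 0, 0, 0, 0, 0, 0, 0; 0, 0, 0, 0, 0, 0, 0]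
def o2_27 : Mat := !![1, 0, 1, 1, 2, 1, 0; 1, 0, 1, 1, 2, 1, 0; 0, 0, 0, 0, 0, 0, 0; 0, 0, 0, 0, 0, 0, 0; 0, 0, 0, 0, 0, 0, 0; 0, 0, 0, 0, 0, 0, 0; 0, 0, 0, 0, 0, 0, 0]
def o2_28 : Mat := !![0, 0, 0, 1, 1, 2, 2; 0, 0, 0, 1, 1, 2, 2; 0, 0, 0, 0, 0, 0, 0; 0, 0, 0, 0, 0, 0, 0; 0, 0, 0, 0, 0, 0, 0; 0, 0, 0, 0, 0, 0, 0; 0, 0, 0, 0, 0, 0, 0]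
def o2_29 : Mat := !![1, 0, 2, 2, 2, 1, 1; 1, 0, 2, 2, 2, 1, 1; 0, 0, 0, 0, 0, 0, 0; 0, 0, 0, 0, 0, 0, 0; 0, 0, 0, 0, 0, 0, 0; 0, 0, 0, 0, 0, 0, 0; 0, 0, 0, 0, 0, 0, 0]
def o2_30 : Mat := !![0, 0, 1, 1, 1, 2, 0; 0, 0, 1, 1, 1, 2, 0; 0, 0, 0, 0, 0, 0, 0; 0, 0, 0, 0, 0, 0, 0; 0, 0, 0, 0, 0, 0, 0; 0, 0, 0, 0, 0, 0, 0; 0, 0, 0, 0, 0, 0, 0]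
def o2_31 : Mat := !![0, 0, 0, 2, 1, 0, 1; 0, 0, 0, 2, 1, 0, 1; 0, 0, 0, 0, 0, 0, 0; 0, 0, 0, 0, 0, 0, 0; 0, 0, 0, 0, 0, 0, 0; 0, 0, 0, 0, 0, 0, 0; 0, 0, 0, 0, 0, 0, 0]
def o2_32 : Mat := !![0, 0, 1, 0, 1, 2, 2; 0, 0, 1, 0, 1, 2, 2; 0, 0, 0, 0, 0, 0, 0; 0, 0, 0, 0, 0, 0, 0; 0, 0, 0, 0, 0, 0, 0; 0, 0, 0, 0, 0, 0, 0; 0, 0, 0, 0, 0, 0, 0]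
def o2_33 : Mat := !![1, 0, 0, 1, 2, 2, 1; 1, 0, 0, 1, 2, 2, 1; 0, 0, 0, 0, 0, 0, 0; 0, 0, 0, 0, 0, 0, 0; 0, 0, 0, 0, 0, 0, 0; 0, 0, 0, 0, 0, 0, 0; 0, 0, 0, 0, 0, 0, 0]
def o2_34 : Mat := !![0, 0, 0, 2, 1, 2, 1; 0, 0, 0, 2, 1, 2, 1; 0, 0, 0, 0, 0, 0, 0; 0, 0, 0, 0, 0, 0, 0; 0, 0, 0, 0, 0, 0, 0; 0, 0, 0, 0, 0, 0, 0; 0, 0, 0, 0, 0, 0, 0]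
def o2_35 : Mat := !![1, 0, 2, 0, 2, 2, 0; 1, 0, 2, 0, 2, 2, 0; 0, 0, 0, 0, 0, 0, 0; 0, 0, 0, 0, 0, 0, 0; 0, 0, 0, 0, 0, 0, 0; 0, 0, 0, 0, 0, 0, 0; 0, 0, 0, 0, 0, 0, 0]
def o2_36 : Mat := !![0, 0, 2, 2, 1, 1, 0; 0, 0, 2, 2, 1, 1, 0; 0, 0, 0, 0, 0, 0, 0; 0, 0, 0, 0, 0, 0, 0; 0, 0, 0, 0, 0, 0, 0; 0, 0, 0, 0, 0, 0, 0; 0, 0, 0, 0, 0, 0, 0]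
def o2_37 : Mat := !![0, 0, 0, 1, 1, 0, 2; 0, 0, 0, 1, 1, 0, 2; 0, 0, 0, 0, 0, 0, 0; 0, 0, 0, 0, 0, 0, 0; 0, 0, 0, 0, 0, 0, 0; 0, 0, 0, 0, 0, 0, 0; 0, 0, 0, 0, 0, 0, 0]
def o2_38 : Mat := !![0, 0, 2, 0, 1, 1, 1; 0, 0, 2, 0, 1, 1, 1; 0, 0, 0, 0, 0, 0, 0; 0, 0, 0, 0, 0, 0, 0; 0, 0, 0, 0, 0, 0, 0; 0, 0, 0, 0, 0, 0, 0; 0, 0, 0, 0, 0, 0, 0]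
def o2_39 : Mat := !![2, 0, 0, 2, 0, 1, 2; 2, 0, 0, 2, 0, 1, 2; 0, 0, 0, 0, 0, 0, 0; 0, 0, 0, 0, 0, 0, 0; 0, 0, 0, 0, 0, 0, 0; 0, 0, 0, 0, 0, 0, 0; 0, 0, 0, 0, 0, 0, 0]
def o2_40 : Mat := !![0, 0, 0, 1, 1, 1, 2; 0, 0, 0, 1, 1, 1, 2; 0, 0, 0, 0, 0, 0, 0; 0, 0, 0, 0, 0, 0, 0; 0, 0, 0, 0, 0, 0, 0; 0, 0, 0, 0, 0, 0, 0; 0, 0, 0, 0, 0, 0, 0]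
def o2_41 : Mat := !![2, 0, 1, 0, 0, 1, 0; 2, 0, 1, 0, 0, 1, 0; 0, 0, 0, 0, 0, 0, 0; 0, 0, 0, 0, 0, 0, 0; 0, 0, 0, 0, 0, 0, 0; 0, 0, 0, 0, 0, 0, 0; 0, 0, 0, 0, 0, 0, 0]
def o2_42 : Mat := !![0, 0, 2, 0, 1, 1, 2; 0, 0, 2, 0, 1, 1, 2; 0, 0, 0, 0, 0, 0, 0; 0, 0, 0, 0, 0, 0, 0; 0, 0, 0, 0, 0, 0, 0; 0, 0, 0, 0, 0, 0, 0; 0, 0, 0, 0, 0, 0, 0]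
def o2_43 : Mat := !![0, 0, 0, 2, 1, 1, 1; 0, 0, 0, 2, 1, 1, 1; 0, 0, 0, 0, 0, 0, 0; 0, 0, 0, 0, 0, 0, 0; 0, 0, 0, 0, 0, 0, 0; 0, 0, 0, 0, 0, 0, 0; 0, 0, 0, 0, 0, 0, 0]
def o2_44 : Mat := !![0, 0, 2, 1, 1, 1, 0; 0, 0, 2, 1, 1, 1, 0; 0, 0, 0, 0, 0, 0, 0; 0, 0, 0, 0, 0, 0, 0; 0, 0, 0, 0, 0, 0, 0; 0, 0, 0, 0, 0, 0, 0; 0, 0, 0, 0, 0, 0, 0]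
def o2_45 : Mat := !![2, 0, 2, 2, 0, 2, 0; 2, 0, 2, 2, 0, 2, 0; 0, 0, 0, 0, 0, 0, 0; 0, 0, 0, 0, 0, 0, 0; 0, 0, 0, 0, 0, 0, 0; 0, 0, 0, 0, 0, 0, 0; 0, 0, 0, 0, 0, 0, 0]
def o2_46 : Mat := !![2, 0, 1, 1, 0, 2, 2; 2, 0, 1, 1, 0, 2, 2; 0, 0, 0, 0, 0, 0, 0; 0, 0, 0, 0, 0, 0, 0; 0, 0, 0, 0, 0, 0, 0; 0, 0, 0, 0, 0, 0, 0; 0, 0, 0, 0, 0, 0, 0]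
def o2_47 : Mat := !![0, 0, 2, 1, 1, 2, 1; 0, 0, 2, 1, 1, 2, 1; 0, 0, 0, 0, 0, 0, 0; 0, 0, 0, 0, 0, 0, 0; 0, 0, 0, 0, 0, 0, 0; 0, 0, 0, 0, 0, 0, 0; 0, 0, 0, 0, 0, 0, 0]
def o2_48 : Mat := !![0, 0, 1, 0, 1, 2, 0; 0, 0, 1, 0, 1, 2, 0; 0, 0, 0, 0, 0, 0, 0; 0, 0, 0, 0, 0, 0, 0; 0, 0, 0, 0, 0, 0, 0; 0, 0, 0, 0, 0, 0, 0; 0, 0, 0, 0, 0, 0, 0]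
def o2_49 : Mat := !![2, 0, 1, 2, 0, 2, 1; 2, 0, 1, 2, 0, 2, 1; 0, 0, 0, 0, 0, 0, 0; 0, 0, 0, 0, 0, 0, 0; 0, 0, 0, 0, 0, 0, 0; 0, 0, 0, 0, 0, 0, 0; 0, 0, 0, 0, 0, 0, 0]
def o2_50 : Mat := !![0, 0, 2, 2, 1, 2, 2; 0, 0, 2, 2, 1, 2, 2; 0, 0, 0, 0, 0, 0, 0; 0, 0, 0, 0, 0, 0, 0; 0, 0, 0, 0, 0, 0, 0; 0, 0, 0, 0, 0, 0, 0; 0, 0, 0, 0, 0, 0, 0]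
def o2_51 : Mat := !![2, 0, 2, 0, 0, 2, 2; 2, 0, 2, 0, 0, 2, 2; 0, 0, 0, 0, 0, 0, 0; 0, 0, 0, 0, 0, 0, 0; 0, 0, 0, 0, 0, 0, 0; 0, 0, 0, 0, 0, 0, 0; 0, 0, 0, 0, 0, 0, 0]
def o2_52 : Mat := !![2, 0, 0, 1, 0, 0, 1; 2, 0, 0, 1, 0, 0, 1; 0, 0, 0, 0, 0, 0, 0; 0, 0, 0, 0, 0, 0, 0; 0, 0, 0, 0, 0, 0, 0; 0, 0, 0, 0, 0, 0, 0; 0, 0, 0, 0, 0, 0, 0]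
def o2_53 : Mat := !![0, 0, 1, 1, 1, 0, 2; 0, 0, 1, 1, 1, 0, 2; 0, 0, 0, 0, 0, 0, 0; 0, 0, 0, 0, 0, 0, 0; 0, 0, 0, 0, 0, 0, 0; 0, 0, 0, 0, 0, 0, 0; 0, 0, 0, 0, 0, 0, 0]
def o2_54 : Mat := !![2, 0, 1, 2, 0, 0, 2; 2, 0, 1, 2, 0, 0, 2; 0, 0, 0, 0, 0, 0, 0; 0, 0, 0, 0, 0, 0, 0; 0, 0, 0, 0, 0, 0, 0; 0, 0, 0, 0, 0, 0, 0; 0, 0, 0, 0, 0, 0, 0]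
def o2_55 : Mat := !![2, 0, 0, 2, 0, 0, 2; 2, 0, 0, 2, 0, 0, 2; 0, 0, 0, 0, 0, 0, 0; 0, 0, 0, 0, 0, 0, 0; 0, 0, 0, 0, 0, 0, 0; 0, 0, 0, 0, 0, 0, 0; 0, 0, 0, 0, 0, 0, 0]
def o2_56 : Mat := !![2, 0, 2, 1, 0, 0, 1; 2, 0, 2, 1, 0, 0, 1; 0, 0, 0, 0, 0, 0, 0; 0, 0, 0, 0, 0, 0, 0; 0, 0, 0, 0, 0, 0, 0; 0, 0, 0, 0, 0, 0, 0; 0, 0, 0, 0, 0, 0, 0]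
def o2_57 : Mat := !![2, 0, 2, 1, 0, 1, 2; 2, 0, 2, 1, 0, 1, 2; 0, 0, 0, 0, 0, 0, 0; 0, 0, 0, 0, 0, 0, 0; 0, 0, 0, 0, 0, 0, 0; 0, 0, 0, 0, 0, 0, 0; 0, 0, 0, 0, 0, 0, 0]
def o2_58 : Mat := !![0, 0, 1, 2, 1, 0, 1; 0, 0, 1, 2, 1, 0, 1; 0, 0, 0, 0, 0, 0, 0; 0, 0, 0, 0, 0, 0, 0; 0, 0, 0, 0, 0, 0, 0; 0, 0, 0, 0, 0, 0, 0; 0, 0, 0, 0, 0, 0, 0]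
def o2_59 : Mat := !![2, 0, 1, 0, 0, 1, 1; 2, 0, 1, 0, 0, 1, 1; 0, 0, 0, 0, 0, 0, 0; 0, 0, 0, 0, 0, 0, 0; 0, 0, 0, 0, 0, 0, 0; 0, 0, 0, 0, 0, 0, 0; 0, 0, 0, 0, 0, 0, 0]
def o2_60 : Mat := !![1, 0, 0, 1, 2, 1, 1; 1, 0, 0, 1, 2, 1, 1; 0, 0, 0, 0, 0, 0, 0; 0, 0, 0, 0, 0, 0, 0; 0, 0, 0, 0, 0, 0, 0; 0, 0, 0, 0, 0, 0, 0; 0, 0, 0, 0, 0, 0, 0]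
def o2_61 : Mat := !![2, 0, 2, 2, 0, 1, 1; 2, 0, 2, 2, 0, 1, 1; 0, 0, 0, 0, 0, 0, 0; 0, 0, 0, 0, 0, 0, 0; 0, 0, 0, 0, 0, 0, 0; 0, 0, 0, 0, 0, 0, 0; 0, 0, 0, 0, 0, 0, 0]
def o2_62 : Mat := !![1, 0, 2, 0, 2, 2, 1; 1, 0, 2, 0, 2, 2, 1; 0, 0, 0, 0, 0, 0, 0; 0, 0, 0, 0, 0, 0, 0; 0, 0, 0, 0, 0, 0, 0; 0, 0, 0, 0, 0, 0, 0; 0, 0, 0, 0, 0, 0, 0]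
def o2_63 : Mat := !![2, 0, 1, 1, 0, 1, 0; 2, 0, 1, 1, 0, 1, 0; 0, 0, 0, 0, 0, 0, 0; 0, 0, 0, 0, 0, 0, 0; 0, 0, 0, 0, 0, 0, 0; 0, 0, 0, 0, 0, 0, 0; 0, 0, 0, 0, 0, 0, 0]
def o2_64 : Mat := !![2, 0, 2, 0, 0, 2, 0; 2, 0, 2, 0, 0, 2, 0; 0, 0, 0, 0, 0, 0, 0; 0, 0, 0, 0, 0, 0, 0; 0, 0, 0, 0, 0, 0, 0; 0, 0, 0, 0, 0, 0, 0; 0, 0, 0, 0, 0, 0, 0]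
def o2_65 : Mat := !![1, 0, 2, 1, 2, 2, 0; 1, 0, 2, 1, 2, 2, 0; 0, 0, 0, 0, 0, 0, 0; 0, 0, 0, 0, 0, 0, 0; 0, 0, 0, 0, 0, 0, 0; 0, 0, 0, 0, 0, 0, 0; 0, 0, 0, 0, 0, 0, 0]
def o2_66 : Mat := !![2, 0, 0, 1, 0, 2, 1; 2, 0, 0, 1, 0, 2, 1; 0, 0, 0, 0, 0, 0, 0; 0, 0, 0, 0, 0, 0, 0; 0, 0, 0, 0, 0, 0, 0; 0, 0, 0, 0, 0, 0, 0; 0, 0, 0, 0, 0, 0, 0]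
def o2_67 : Mat := !![1, 0, 2, 2, 2, 0, 2; 1, 0, 2, 2, 2, 0, 2; 0, 0, 0, 0, 0, 0, 0; 0, 0, 0, 0, 0, 0, 0; 0, 0, 0, 0, 0, 0, 0; 0, 0, 0, 0, 0, 0, 0; 0, 0, 0, 0, 0, 0, 0]
def o2_68 : Mat := !![1, 0, 1, 1, 2, 0, 1; 1, 0, 1, 1, 2, 0, 1; 0, 0, 0, 0, 0, 0, 0; 0, 0, 0, 0, 0, 0, 0; 0, 0, 0, 0, 0, 0, 0; 0, 0, 0, 0, 0, 0, 0; 0, 0, 0, 0, 0, 0, 0]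
def o2_69 : Mat := !![1, 0, 1, 2, 2, 1, 0; 1, 0, 1, 2, 2, 1, 0; 0, 0, 0, 0, 0, 0, 0; 0, 0, 0, 0, 0, 0, 0; 0, 0, 0, 0, 0, 0, 0; 0, 0, 0, 0, 0, 0, 0; 0, 0, 0, 0, 0, 0, 0]
def o2_70 : Mat := !![1, 0, 1, 0, 2, 1, 2; 1, 0, 1, 0, 2, 1, 2; 0, 0, 0, 0, 0, 0, 0; 0, 0, 0, 0, 0, 0, 0; 0, 0, 0, 0, 0, 0, 0; 0, 0, 0, 0, 0, 0, 0; 0, 0, 0, 0, 0, 0, 0]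
def o2_71 : Mat := !![1, 0, 0, 2, 2, 2, 2; 1, 0, 0, 2, 2, 2, 2; 0, 0, 0, 0, 0, 0, 0; 0, 0, 0, 0, 0, 0, 0; 0, 0, 0, 0, 0, 0, 0; 0, 0, 0, 0, 0, 0, 0; 0, 0, 0, 0, 0, 0, 0]

end Cfsg.Agent.Lead.O73
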