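import Cfsg.Agent.Lib.Lead.O73.Gens

/-! # O73: objects of level 7 -/

set_option autoImplicit false
set_option maxRecDepth 100000

namespace Cfsg.Agent.Lead.O73

open Cfsg.Spor.Fi22 (Gen)

def o7_0 : Mat := !![1, 0, 0, 0, 0, 0, 0; 0, 0, 0, 0, 0, 0, 0; 0, 0, 0, 0, 0, 0, 0; 0, 0, 0, 0, 0, 0, 0; 0, 0, 0, 0, 0, 0, 0; 0, 0, 0, 0, 0, 0, 0; 0, 0, 0, 0, 0, 0, 0]
def o7_1 : Mat := !![0, 0, 0, 0, 0, 0, 0; 0, 0, 0, 0, 0, 0, 0; 0, 0, 0, 0, 0, 0, 0; 0, 0, 0, 1, 1, 2, 1; 0, 0, 0, 1, 1, 2, 1; 0, 0, 0, 2, 2, 1, 2; 0, 0, 0, 1, 1, 2, 1]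

end Cfsg.Agent.Lead.O73
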